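import Cfsg.Agent.Lib.AschbacherFour.Eigen

/-!
The centre of the commutant of a normal subgroup, and the quadratic subfield in it.
-/

set_option autoImplicit false

namespace Cfsg.Agent.AschbacherFour

open Matrix Aschbacher
open scoped MatrixGroups

variable {F : Type*} [Field F]

/-- A quadratic field in the centre of the commutant of `N`, normalised by `H`; it consists of the
elements of that centre fixed by the `q ^ 2`-power map. -/
def FieldCase (H N : Subgroup (GL (Fin 4) F)) : Prop :=
  ∃ K : Subalgebra F (Matrix (Fin 4) (Fin 4) F), Geo.IsFieldSubalgebra 2 K ∧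
    H ≤ Geo.subalgebraNormalizer K ∧
    ∀ A, A ∈ K ↔ CentralComm N A ∧ A ^ Nat.card F ^ 2 = A

/-- The centre of the commutant of `N`. -/
def centre (N : Subgroup (GL (Fin 4) F)) : Subalgebra F (Matrix (Fin 4) (Fin 4) F) :=
  Subalgebra.centralizer F (Geo.matrixSet N) ⊓
    Subalgebra.centralizer F (Subalgebra.centralizer F (Geo.matrixSet N) : Set _)

theorem mem_centralizer_iff {N : Subgroup (GL (Fin 4) F)} {A : Matrix (Fin 4) (Fin 4) F} :
    A ∈ Subalgebra.centralizer F (Geo.matrixSet N) ↔ CommMat N A := by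
  rw [Subalgebra.mem_centralizer_iff]
  exact ⟨fun h x hx => h _ ⟨x, hx, rfl⟩, fun h s ⟨x, hx, hs⟩ => hs ▸ h x hx⟩

theorem mem_centre {N : Subgroup (GL (Fin 4) F)} {A : Matrix (Fin 4) (Fin 4) F} :
    A ∈ centre N ↔ CentralComm N A := by
  rw [centre, Algebra.mem_inf, mem_centralizer_iff, Subalgebra.mem_centralizer_iff]
  exact and_congr_right fun _ => ⟨fun h B hB => (h B (mem_centralizer_iff.2 hB)).symm,
    fun h B hB => (h B (mem_centralizer_iff.1 hB)).symm⟩

/-- Conjugation by the normaliser of `N` preserves the commutant. -/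
theorem CommMat.conj {H N : Subgroup (GL (Fin 4) F)} (hn : NormalIn H N) {h : GL (Fin 4) F}
    (hh : h ∈ H) {A : Matrix (Fin 4) (Fin 4) F} (hA : CommMat N A) :
    CommMat N ((h : Matrix (Fin 4) (Fin 4) F) * A * ((h⁻¹ : GL (Fin 4) F) : Matrix (Fin 4) (Fin 4) F)) := by
  intro x hx
  have h1 := hA _ (hn h⁻¹ (H.inv_mem hh) x hx)
  simp only [inv_inv, Units.val_mul] at h1
  have := congrArg (fun m => (h : Matrix (Fin 4) (Fin 4) F) * m *
    ((h⁻¹ : GL (Fin 4) F) : Matrix (Fin 4) (Fin 4) F)) h1
  simpa [mul_assoc] using this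

theorem conj_conj_inv (h : GL (Fin 4) F) (A : Matrix (Fin 4) (Fin 4) F) :
    (h : Matrix (Fin 4) (Fin 4) F) * (((h⁻¹ : GL (Fin 4) F) : Matrix (Fin 4) (Fin 4) F) * A * h) *
      ((h⁻¹ : GL (Fin 4) F) : Matrix (Fin 4) (Fin 4) F) = A := by
  simp [mul_assoc]

theorem CentralComm.conj {H N : Subgroup (GL (Fin 4) F)} (hn : NormalIn H N) {h : GL (Fin 4) F}
    (hh : h ∈ H) {A : Matrix (Fin 4) (Fin 4) F} (hA : CentralComm N A) :
    CentralComm N
      ((h : Matrix (Fin 4) (Fin 4) F) * A * ((h⁻¹ : GL (Fin 4) F) : Matrix (Fin 4) (Fin 4) F)) := by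
  refine ⟨hA.1.conj hn hh, fun B hB => ?_⟩
  have hB' := hB.conj hn (H.inv_mem hh)
  rw [inv_inv] at hB'
  have := congrArg (fun m => (h : Matrix (Fin 4) (Fin 4) F) * m *
    ((h⁻¹ : GL (Fin 4) F) : Matrix (Fin 4) (Fin 4) F)) (hA.2 _ hB')
  simpa [mul_assoc] using this

theorem conj_pow' (h : GL (Fin 4) F) (A : Matrix (Fin 4) (Fin 4) F) (k : ℕ) :
    ((h : Matrix (Fin 4) (Fin 4) F) * A * ((h⁻¹ : GL (Fin 4) F) : Matrix (Fin 4) (Fin 4) F)) ^ k =
      (h : Matrix (Fin 4) (Fin 4) F) * A ^ k * ((h⁻¹ : GL (Fin 4) F) : Matrix (Fin 4) (Fin 4) F) :=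
  Units.conj_pow h A k

variable [Fintype F]

/-- Elements of a field subalgebra of degree `r` are fixed by the `q ^ r`-power map. -/
theorem pow_card_of_field {r : ℕ} {K : Subalgebra F (Matrix (Fin 4) (Fin 4) F)}
    (hK : Geo.IsFieldSubalgebra r K) {k : Matrix (Fin 4) (Fin 4) F} (hk : k ∈ K) :
    k ^ Nat.card F ^ r = k := by
  have hfield : IsField K :=
    { exists_pair_ne := ⟨0, 1, fun h => one_ne_zero (congrArg Subtype.val h).symm⟩
      mul_comm := fun a b => Subtype.ext (hK.comm _ a.2 _ b.2)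
      mul_inv_cancel := fun {a} ha => by
        obtain ⟨y, hy, hay⟩ := hK.inv _ a.2 fun h => ha (Subtype.ext h)
        exact ⟨⟨y, hy⟩, Subtype.ext hay⟩ }
  letI := hfield.toField
  haveI : Fintype K := Fintype.ofFinite K
  have hcard : Nat.card K = Nat.card F ^ r := by
    rw [← hK.finrank_eq]; exact Module.natCard_eq_pow_finrank
  have h := FiniteField.pow_card (⟨k, hk⟩ : K)
  rw [← Nat.card_eq_fintype_card, hcard] at h
  exact congrArg Subtype.val h

/-- If the centre of the commutant is a field of degree 2 or 4, we are in the field case. -/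
theorem fieldCase_of_centre {H N : Subgroup (GL (Fin 4) F)} (hn : NormalIn H N) {m : ℕ}
    (hm : m = 2 ∨ m = 4) (hZ : Geo.IsFieldSubalgebra m (centre N)) : FieldCase H N := by
  classical
  set Z := centre N with hZdef
  set n := Nat.card F ^ 2 with hn2
  obtain ⟨p, hp⟩ := CharP.exists F
  haveI := hp
  obtain ⟨e, hpp, hcard⟩ := FiniteField.card F p
  haveI : Fact p.Prime := ⟨hpp⟩
  have hne : n = p ^ ((e : ℕ) * 2) := by rw [hn2, Nat.card_eq_fintype_card, hcard, pow_mul]
  let K : Subalgebra F (Matrix (Fin 4) (Fin 4) F) :=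
    { carrier := {A | A ∈ Z ∧ A ^ n = A}
      mul_mem' := fun {a b} ha hb => ⟨Z.mul_mem ha.1 hb.1, by
        rw [(show Commute a b from hZ.comm _ ha.1 _ hb.1).mul_pow, ha.2, hb.2]⟩
      add_mem' := fun {a b} ha hb => ⟨Z.add_mem ha.1 hb.1, by
        rw [hne, add_pow_char_pow_of_commute p ((e : ℕ) * 2)
          (show Commute a b from hZ.comm _ ha.1 _ hb.1), ← hne, ha.2, hb.2]⟩
      algebraMap_mem' := fun c => ⟨Z.algebraMap_mem c, by
        rw [← map_pow, hn2, Nat.card_eq_fintype_card, FiniteField.pow_card_pow]⟩ }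
  have hKmem : ∀ A, A ∈ K ↔ CentralComm N A ∧ A ^ n = A := fun A => and_congr_left' mem_centre
  refine ⟨K, ⟨fun x hx y hy => hZ.comm x hx.1 y hy.1, fun x hx h0 => ?_, ?_⟩,
    fun h hh => mem_subalgebraNormalizer fun k hk => ?_, hKmem⟩
  · obtain ⟨y, hy, hxy⟩ := hZ.inv x hx.1 h0
    refine ⟨y, ⟨hy, ?_⟩, hxy⟩
    have h1 : x * y ^ n = 1 := by
      have := (show Commute x y from hZ.comm _ hx.1 _ hy).mul_pow n
      rwa [hxy, one_pow, hx.2, eq_comm] at this
    calc y ^ n = y * x * y ^ n := by rw [hZ.comm _ hy _ hx.1, hxy, one_mul]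
      _ = y := by rw [mul_assoc, h1, mul_one]
  · rcases hm with rfl | rfl
    · have : K = Z := le_antisymm (fun a ha => ha.1) fun a ha =>
        ⟨ha, pow_card_of_field hZ ha⟩
      rw [this, hZ.finrank_eq]
    · have hfield : IsField Z :=
        { exists_pair_ne := ⟨0, 1, fun h => one_ne_zero (congrArg Subtype.val h).symm⟩
          mul_comm := fun a b => Subtype.ext (hZ.comm _ a.2 _ b.2)
          mul_inv_cancel := fun {a} ha => by
            obtain ⟨y, hy, hay⟩ := hZ.inv _ a.2 fun h => ha (Subtype.ext h)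
            exact ⟨⟨y, hy⟩, Subtype.ext hay⟩ }
      letI := hfield.toField
      haveI : Fintype Z := Fintype.ofFinite Z
      have hcardZ : Nat.card Z = Nat.card F ^ 4 :=
        (Module.natCard_eq_pow_finrank (K := F) (V := Z)).trans
          (congrArg (Nat.card F ^ ·) hZ.finrank_eq)
      -- few fixed points
      have hq : 1 < Nat.card F := Finite.one_lt_card
      have hn1 : 1 < n := Nat.one_lt_pow (by norm_num) hq
      have hup : Module.finrank F K ≤ 2 := by
        let P : Polynomial Z := Polynomial.X ^ n - Polynomial.X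
        have hP0 : P ≠ 0 := FiniteField.X_pow_card_sub_X_ne_zero Z hn1
        have hle : Nat.card K ≤ n := by
          let T : Finset Z := Finset.univ.filter fun z : Z => z ^ n = z
          have hT : T.card ≤ n := by
            refine le_trans ?_ ((Polynomial.card_roots' P).trans
              (FiniteField.X_pow_card_sub_X_natDegree_eq Z hn1).le)
            refine Finset.card_le_card (t := P.roots.toFinset) (fun z hz => ?_) |>.trans
              (Multiset.toFinset_card_le _)
            rw [Multiset.mem_toFinset, Polynomial.mem_roots hP0]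
            simpa [P, sub_eq_zero] using (Finset.mem_filter.1 hz).2
          refine le_trans (Nat.card_le_card_of_injective
            (fun a : K => (⟨⟨a, a.2.1⟩, Finset.mem_filter.2 ⟨Finset.mem_univ _,
              Subtype.ext a.2.2⟩⟩ : T)) fun a b h => ?_) (by rw [Nat.card_eq_finsetCard]; exact hT)
          exact Subtype.ext (congrArg (fun t : T => ((t : Z) : Matrix (Fin 4) (Fin 4) F)) h)
        rw [Module.natCard_eq_pow_finrank (K := F)] at hle
        exact (Nat.pow_le_pow_iff_right hq).1 hle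
      -- a non-scalar fixed point
      obtain ⟨g, hg⟩ := IsCyclic.exists_ofOrder_eq_natCard (α := Zˣ)
      rw [Nat.card_units, hcardZ] at hg
      let z : Zˣ := g ^ (n + 1)
      have hzn : ((z : Z) : Z) ^ n = (z : Z) := by
        have h1 : z ^ (n - 1) = 1 := by
          refine orderOf_dvd_iff_pow_eq_one.1 ?_
          rw [orderOf_dvd_iff_pow_eq_one, ← pow_mul, ← orderOf_dvd_iff_pow_eq_one, hg]
          refine dvd_of_eq ?_
          rw [← Nat.sq_sub_sq, one_pow, hn2, ← pow_mul]
        have h2 : z ^ n = z := by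
          conv_lhs => rw [← Nat.sub_add_cancel hn1.le]
          rw [pow_succ, h1, one_mul]
        exact_mod_cast congrArg Units.val h2
      have hzns : ∀ c : F, ((z : Z) : Matrix (Fin 4) (Fin 4) F) ≠
          algebraMap F (Matrix (Fin 4) (Fin 4) F) c := by
        intro c hc
        have hcz : (z : Z) = algebraMap F Z c := Subtype.ext hc
        have hc0 : c ≠ 0 := fun h => z.ne_zero (by rw [hcz, h, map_zero])
        have h1 : z ^ (Nat.card F - 1) = 1 := Units.ext (by
          rw [Units.val_pow_eq_pow_val, hcz, ← map_pow, Nat.card_eq_fintype_card,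
            FiniteField.pow_card_sub_one_eq_one c hc0, map_one, Units.val_one])
        rw [← pow_mul, ← orderOf_dvd_iff_pow_eq_one, hg] at h1
        have h2 := Nat.le_of_dvd (Nat.mul_pos (by omega) (by omega)) h1
        have h3 : Nat.card F ^ 4 - 1 = (n + 1) * (n - 1) := by
          rw [← Nat.sq_sub_sq, one_pow, hn2, ← pow_mul]
        rw [h3] at h2
        have h4 := Nat.le_of_mul_le_mul_left h2 (by omega)
        have h5 : Nat.card F < n := by
          rw [hn2, pow_two]
          exact lt_mul_of_one_lt_left (by omega) hq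
        omega
      refine le_antisymm hup ?_
      by_contra hlt
      have h1 : Module.finrank F K = 1 := by
        have : 0 < Module.finrank F K := Module.finrank_pos
        omega
      have hbot : K = ⊥ := Subalgebra.finrank_eq_one_iff.1 h1
      have hzK : ((z : Z) : Matrix (Fin 4) (Fin 4) F) ∈ K :=
        ⟨(z : Z).2, congrArg Subtype.val hzn⟩
      rw [hbot, Algebra.mem_bot] at hzK
      obtain ⟨c, hc⟩ := hzK
      exact hzns c hc.symm
  · rw [hKmem] at hk ⊢
    exact ⟨hk.1.conj hn hh, by rw [conj_pow', hk.2]⟩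

end Cfsg.Agent.AschbacherFour
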