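import Cfsg.Agent.Lib.AschbacherFour.Centre

/-!
Normal subgroups of an irreducible subgroup of `GL₄`: absolutely irreducible, a tensor product,
scalar, or permuting lines, planes, or normalising a quadratic field.
-/

set_option autoImplicit false

namespace Cfsg.Agent.AschbacherFour

open Matrix Aschbacher
open scoped MatrixGroups

variable {F : Type*} [Field F]

/-- `N` is one factor of a tensor decomposition into two planes: the quadratic form vanishing on
pure tensors has `H`, `N` and the centraliser of `N` among its similitudes. -/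
def TensorCase (H N : Subgroup (GL (Fin 4) F)) : Prop :=
  ¬ Abelian N ∧ ∃ Q : (Fin 4 → F) → F, Geo.IsNondegenerateQuadraticForm Q ∧
    H ≤ Geo.quadSimilarityGroup Q ∧ N ≤ Geo.quadSimilarityGroup Q ∧
    ∀ g : GL (Fin 4) F, (∀ x ∈ N, g * x = x * g) → g ∈ Geo.quadSimilarityGroup Q

variable {H N : Subgroup (GL (Fin 4) F)}

/-- The action of `N` on an invariant plane without invariant lines. -/
theorem exists_rep {W : Submodule F (Fin 4 → F)} (hW : Invariant N W)
    (hd : Module.finrank F W = 2)
    (hmin : ∀ U, Invariant N U → U ≠ ⊥ → 2 ≤ Module.finrank F U) :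
    ∃ (i : Plane F →ₗ[F] (Fin 4 → F)) (ρ : N → Plane F →ₗ[F] Plane F),
      Function.Injective i ∧ LinearMap.range i = W ∧
      (∀ (x : N) u, ((x : GL (Fin 4) F) : Matrix (Fin 4) (Fin 4) F) *ᵥ i u = i (ρ x u)) ∧
      PlaneIrr (Set.range ρ) := by
  let e : Plane F ≃ₗ[F] W := (Module.finBasisOfFinrankEq F W hd).equivFun.symm
  let i : Plane F →ₗ[F] (Fin 4 → F) := W.subtype.comp e.toLinearMap
  have hi : Function.Injective i := W.injective_subtype.comp e.injective
  have hiW : LinearMap.range i = W := by
    rw [LinearMap.range_comp_of_range_eq_top _ (LinearEquiv.range e), Submodule.range_subtype]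
  let ρ : N → Plane F →ₗ[F] Plane F := fun x =>
    e.symm.toLinearMap.comp (((Matrix.toLin' ((x : GL (Fin 4) F) : Matrix (Fin 4) (Fin 4) F)).restrict
      (p := W) (q := W) (fun w hw => by simpa using hW _ x.2 w hw)).comp e.toLinearMap)
  have hρ : ∀ (x : N) u, ((x : GL (Fin 4) F) : Matrix (Fin 4) (Fin 4) F) *ᵥ i u = i (ρ x u) := by
    intro x u
    simp [i, ρ, LinearMap.restrict_apply]
  refine ⟨i, ρ, hi, hiW, hρ, fun U hU => ?_⟩
  have hinv : Invariant N (U.map i) := by
    intro x hx v hv
    obtain ⟨u, hu, rfl⟩ := Submodule.mem_map.1 hv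
    rw [hρ ⟨x, hx⟩]
    exact Submodule.mem_map_of_mem (hU _ ⟨⟨x, hx⟩, rfl⟩ u hu)
  by_cases h0 : U = ⊥
  · exact Or.inl h0
  refine Or.inr (Submodule.eq_top_of_finrank_eq (le_antisymm (Submodule.finrank_le _) ?_))
  rw [Module.finrank_fintype_fun_eq_card, Fintype.card_fin,
    (Submodule.equivMapOfInjective i hi U).finrank_eq]
  exact hmin _ hinv fun h =>
    h0 (Submodule.map_injective_of_injective hi (h.trans (Submodule.map_bot i).symm))

/-- An abelian set of endomorphisms acting irreducibly on the plane has a non-scalar member. -/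
theorem PlaneIrr.exists_nonscalar {α : Type*} {ρ : α → Plane F →ₗ[F] Plane F}
    (h : PlaneIrr (Set.range ρ)) : ∃ a, ∀ l : F, ρ a ≠ l • LinearMap.id := by
  by_contra hc
  push Not at hc
  have hv : (Pi.single 0 1 : Plane F) ≠ 0 := by simp
  rcases h (Submodule.span F {Pi.single 0 1}) (by
    rintro _ ⟨a, rfl⟩ u hu
    obtain ⟨l, hl⟩ := hc a
    rw [hl]
    exact Submodule.smul_mem _ l hu) with h0 | h0
  · exact hv (by simpa using h0)
  · have := finrank_span_singleton (K := F) hv
    rw [h0, finrank_top, Module.finrank_fintype_fun_eq_card, Fintype.card_fin] at this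
    omega

section Planar

variable (hn : NormalIn H N)
  (hmin : ∀ U, Invariant N U → U ≠ ⊥ → 2 ≤ Module.finrank F U)
  {i j : Plane F →ₗ[F] (Fin 4 → F)} {ρ ρ' : N → Plane F →ₗ[F] Plane F}
  (hij : Function.Bijective (i.coprod j))
  (hi : ∀ (x : N) u, ((x : GL (Fin 4) F) : Matrix (Fin 4) (Fin 4) F) *ᵥ i u = i (ρ x u))
  (hj : ∀ (x : N) u, ((x : GL (Fin 4) F) : Matrix (Fin 4) (Fin 4) F) *ᵥ j u = j (ρ' x u))

/-- The first coordinate. -/
noncomputable def fstC : (Fin 4 → F) →ₗ[F] Plane F :=
  (LinearMap.fst F (Plane F) (Plane F)).comp (LinearEquiv.ofBijective _ hij).symm.toLinearMap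

/-- The second coordinate. -/
noncomputable def sndC : (Fin 4 → F) →ₗ[F] Plane F :=
  (LinearMap.snd F (Plane F) (Plane F)).comp (LinearEquiv.ofBijective _ hij).symm.toLinearMap

omit N ρ ρ' in
theorem coords_add (v : Fin 4 → F) : i (fstC hij v) + j (sndC hij v) = v :=
  (LinearEquiv.ofBijective _ hij).apply_symm_apply v

omit N ρ ρ' in
theorem coords_apply (u u' : Plane F) :
    fstC hij (i u + j u') = u ∧ sndC hij (i u + j u') = u' := by
  have h : (LinearEquiv.ofBijective _ hij).symm (i u + j u') = (u, u') :=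
    (LinearEquiv.ofBijective _ hij).symm_apply_apply (u, u')
  exact ⟨congrArg Prod.fst h, congrArg Prod.snd h⟩

omit N ρ ρ' in
theorem coords_left (u : Plane F) : fstC hij (i u) = u ∧ sndC hij (i u) = 0 := by
  simpa using coords_apply hij u 0

omit N ρ ρ' in
theorem coords_right (u : Plane F) : fstC hij (j u) = 0 ∧ sndC hij (j u) = u := by
  simpa using coords_apply hij 0 u

include hi hj in
theorem coords_act (x : N) (v : Fin 4 → F) :
    fstC hij (((x : GL (Fin 4) F) : Matrix (Fin 4) (Fin 4) F) *ᵥ v) = ρ x (fstC hij v) ∧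
      sndC hij (((x : GL (Fin 4) F) : Matrix (Fin 4) (Fin 4) F) *ᵥ v) = ρ' x (sndC hij v) := by
  have key : ((x : GL (Fin 4) F) : Matrix (Fin 4) (Fin 4) F) *ᵥ v =
      i (ρ x (fstC hij v)) + j (ρ' x (sndC hij v)) := by
    rw [← hi, ← hj, ← Matrix.mulVec_add, coords_add]
  rw [key]
  exact coords_apply hij _ _

end Planar

section NonIso

/-- Two non-isomorphic planes: their decomposition is permuted. -/
theorem planes_of_nonIso (hn : NormalIn H N)
    (hmin : ∀ U, Invariant N U → U ≠ ⊥ → 2 ≤ Module.finrank F U)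
    {i j : Plane F →ₗ[F] (Fin 4 → F)} {ρ ρ' : N → Plane F →ₗ[F] Plane F}
    (hij : Function.Bijective (i.coprod j))
    (hi : ∀ (x : N) u, ((x : GL (Fin 4) F) : Matrix (Fin 4) (Fin 4) F) *ᵥ i u = i (ρ x u))
    (hj : ∀ (x : N) u, ((x : GL (Fin 4) F) : Matrix (Fin 4) (Fin 4) F) *ᵥ j u = j (ρ' x u))
    (hρ : PlaneIrr (Set.range ρ)) (hρ' : PlaneIrr (Set.range ρ'))
    (hno : ∀ T : Plane F →ₗ[F] Plane F, (∀ x u, T (ρ x u) = ρ' x (T u)) → T = 0) :
    CommCommutant N ∧ PlanesCase H N := by
  classical
  have hact := coords_act hij hi hj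
  have hno' : ∀ T : Plane F →ₗ[F] Plane F, (∀ x u, T (ρ' x u) = ρ x (T u)) → T = 0 := by
    intro T hT
    rcases hρ'.zero_or_bijective T hT with h | h
    · exact h
    let e := LinearEquiv.ofBijective T h
    have h0 := hno e.symm.toLinearMap fun x u => e.injective (by
      simp only [LinearEquiv.coe_coe, LinearEquiv.apply_symm_apply]
      rw [show e (ρ' x (e.symm u)) = T (ρ' x (e.symm u)) from rfl, hT,
        show T (e.symm u) = u from e.apply_symm_apply u])
    have h1 := LinearMap.congr_fun h0 (T (Pi.single 0 1))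
    rw [LinearEquiv.coe_coe, LinearMap.zero_apply,
      show e.symm (T (Pi.single 0 1)) = Pi.single 0 1 from e.symm_apply_apply _] at h1
    simp at h1
  have hii : Function.Injective i := fun u v h => by
    have h1 := (coords_left hij u).1
    rw [h, (coords_left hij v).1] at h1
    exact h1.symm
  have hjj : Function.Injective j := fun u v h => by
    have h1 := (coords_right hij u).2
    rw [h, (coords_right hij v).2] at h1
    exact h1.symm
  have hWi : Invariant N (LinearMap.range i) := by
    rintro x hx _ ⟨u, rfl⟩; exact ⟨_, (hi ⟨x, hx⟩ u).symm⟩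
  have hWj : Invariant N (LinearMap.range j) := by
    rintro x hx _ ⟨u, rfl⟩; exact ⟨_, (hj ⟨x, hx⟩ u).symm⟩
  have hfi : Module.finrank F (LinearMap.range i) = 2 := by
    rw [LinearMap.finrank_range_of_inj hii, Module.finrank_fintype_fun_eq_card, Fintype.card_fin]
  have hfj : Module.finrank F (LinearMap.range j) = 2 := by
    rw [LinearMap.finrank_range_of_inj hjj, Module.finrank_fintype_fun_eq_card, Fintype.card_fin]
  -- the commutant preserves both planes
  have hpres : ∀ A, CommMat N A →
      (∀ u, sndC hij (A *ᵥ i u) = 0) ∧ (∀ u, fstC hij (A *ᵥ j u) = 0) := by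
    intro A hA
    have h1 := hno ((sndC hij).comp ((Matrix.toLin' A).comp i)) fun x u => by
      simp only [LinearMap.comp_apply, Matrix.toLin'_apply]
      rw [← hi, Matrix.mulVec_mulVec, ← hA _ x.2, ← Matrix.mulVec_mulVec, (hact x _).2]
    have h2 := hno' ((fstC hij).comp ((Matrix.toLin' A).comp j)) fun x u => by
      simp only [LinearMap.comp_apply, Matrix.toLin'_apply]
      rw [← hj, Matrix.mulVec_mulVec, ← hA _ x.2, ← Matrix.mulVec_mulVec, (hact x _).1]
    exact ⟨fun u => by simpa using LinearMap.congr_fun h1 u,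
      fun u => by simpa using LinearMap.congr_fun h2 u⟩
  have hAi : ∀ A, CommMat N A → ∀ u, A *ᵥ i u = i (fstC hij (A *ᵥ i u)) := fun A hA u => by
    conv_lhs => rw [← coords_add hij (A *ᵥ i u), (hpres A hA).1, map_zero, add_zero]
  have hAj : ∀ A, CommMat N A → ∀ u, A *ᵥ j u = j (sndC hij (A *ᵥ j u)) := fun A hA u => by
    conv_lhs => rw [← coords_add hij (A *ᵥ j u), (hpres A hA).2, map_zero, zero_add]
  refine ⟨fun A B hA hB => ?_, ![LinearMap.range i, LinearMap.range j],
    ⟨le_rfl, two_pos, ?_, ?_, ?_⟩, ?_, ?_, ?_, ?_⟩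
  · refine Matrix.toLin'.injective (LinearMap.ext fun v => ?_)
    simp only [Matrix.toLin'_apply, ← Matrix.mulVec_mulVec]
    rw [← coords_add hij v]
    simp only [Matrix.mulVec_add]
    have hcomm : ∀ C, CommMat N C → ∀ (x : N) u,
        fstC hij (C *ᵥ i (ρ x u)) = ρ x (fstC hij (C *ᵥ i u)) ∧
        sndC hij (C *ᵥ j (ρ' x u)) = ρ' x (sndC hij (C *ᵥ j u)) := fun C hC x u => by
      rw [← hi, ← hj, Matrix.mulVec_mulVec, Matrix.mulVec_mulVec, ← hC _ x.2, ← Matrix.mulVec_mulVec,
        ← Matrix.mulVec_mulVec, (hact x _).1, (hact x _).2]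
      exact ⟨rfl, rfl⟩
    congr 1
    · rw [hAi B hB, hAi A hA (fstC hij v), hAi A hA, hAi B hB (fstC hij (A *ᵥ i (fstC hij v)))]
      exact congrArg i (hρ.comm_commutant
        (c := (fstC hij).comp ((Matrix.toLin' A).comp i))
        (d := (fstC hij).comp ((Matrix.toLin' B).comp i))
        (fun x u => by simpa using (hcomm A hA x u).1) (fun x u => by simpa using (hcomm B hB x u).1)
        (fstC hij v))
    · rw [hAj B hB, hAj A hA (sndC hij v), hAj A hA, hAj B hB (sndC hij (A *ᵥ j (sndC hij v)))]
      exact congrArg j (hρ'.comm_commutant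
        (c := (sndC hij).comp ((Matrix.toLin' A).comp j))
        (d := (sndC hij).comp ((Matrix.toLin' B).comp j))
        (fun x u => by simpa using (hcomm A hA x u).2) (fun x u => by simpa using (hcomm B hB x u).2)
        (sndC hij v))
  · intro k; fin_cases k <;> simpa
  · rw [iSupIndep_pair (show (0 : Fin 2) ≠ 1 by decide) (fun k => by fin_cases k <;> simp)]
    simp only [Matrix.cons_val_zero, Matrix.cons_val_one, Matrix.cons_val_fin_one]
    rw [disjoint_iff, Submodule.eq_bot_iff]
    rintro _ ⟨⟨u, rfl⟩, ⟨u', hu'⟩⟩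
    have h1 := (coords_left hij u).1
    rw [← hu', (coords_right hij u').1] at h1
    rw [← h1, map_zero]
  · refine eq_top_iff.2 fun v _ => ?_
    rw [← coords_add hij v]
    exact Submodule.add_mem _
      (le_iSup ![LinearMap.range i, LinearMap.range j] 0 ⟨_, rfl⟩)
      (le_iSup ![LinearMap.range i, LinearMap.range j] 1 ⟨_, rfl⟩)
  · -- any invariant plane is one of the two
    have honly : ∀ U, Invariant N U → Module.finrank F U = 2 →
        U = LinearMap.range i ∨ U = LinearMap.range j := by
      intro U hU hUd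
      obtain ⟨k, σ, hk, hkU, hkσ, hσ⟩ := exists_rep hU hUd hmin
      rcases hσ.zero_or_bijective (ρ' := ρ) ((fstC hij).comp k) (fun x u => by
        simp only [LinearMap.comp_apply]; rw [← hkσ, (hact x _).1]) with h1 | h1
      · right
        refine Submodule.eq_of_le_of_finrank_eq ?_ (hUd.trans hfj.symm)
        rw [← hkU]
        rintro _ ⟨u, rfl⟩
        refine ⟨sndC hij (k u), ?_⟩
        have := LinearMap.congr_fun h1 u
        simp only [LinearMap.comp_apply, LinearMap.zero_apply] at this
        conv_rhs => rw [← coords_add hij (k u), this, map_zero, zero_add]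
      · left
        let e := LinearEquiv.ofBijective _ h1
        have h2 := hno (((sndC hij).comp k).comp e.symm.toLinearMap) (fun x u => by
          have hu : fstC hij (k (e.symm u)) = u := e.apply_symm_apply u
          have h3 : e.symm (ρ x u) = σ x (e.symm u) := e.injective (by
            rw [LinearEquiv.apply_symm_apply]
            show ρ x u = fstC hij (k (σ x (e.symm u)))
            rw [← hkσ, (hact x _).1, hu])
          simp only [LinearMap.comp_apply, LinearEquiv.coe_coe, h3]
          rw [← hkσ, (hact x _).2])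
        refine Submodule.eq_of_le_of_finrank_eq ?_ (hUd.trans hfi.symm)
        rw [← hkU]
        rintro _ ⟨u, rfl⟩
        refine ⟨fstC hij (k u), ?_⟩
        have := LinearMap.congr_fun h2 (e u)
        simp only [LinearMap.comp_apply, LinearEquiv.coe_coe, LinearEquiv.symm_apply_apply,
          LinearMap.zero_apply] at this
        conv_rhs => rw [← coords_add hij (k u), this, map_zero, add_zero]
    intro h hh
    have hinj : Function.Injective
        (Submodule.map (Matrix.toLin' (h : Matrix (Fin 4) (Fin 4) F))) :=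
      Submodule.map_injective_of_injective fun u v huv => mulVec_injective h (by simpa using huv)
    have hne : LinearMap.range i ≠ LinearMap.range j := fun he => by
      obtain ⟨u', hu'⟩ := (he ▸ LinearMap.mem_range_self i (Pi.single 0 1) :
        i (Pi.single 0 1) ∈ LinearMap.range j)
      have h1 := (coords_left hij (Pi.single 0 1)).1
      rw [← hu', (coords_right hij u').1] at h1
      exact absurd (congrFun h1 0) (by simp)
    have hi' := honly _ (hWi.translate hn hh) (by rw [finrank_translate, hfi])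
    have hj' := honly _ (hWj.translate hn hh) (by rw [finrank_translate, hfj])
    rcases hi' with h1 | h1 <;> rcases hj' with h2 | h2
    · exact absurd (hinj (h1.trans h2.symm)) hne
    · exact ⟨1, fun k => by fin_cases k <;> simpa⟩
    · exact ⟨Equiv.swap 0 1, fun k => by fin_cases k <;> simpa⟩
    · exact absurd (hinj (h1.trans h2.symm)) hne
  · intro A hA k v hv
    fin_cases k
    · obtain ⟨u, rfl⟩ := hv; exact ⟨_, (hAi A hA u).symm⟩
    · obtain ⟨u, rfl⟩ := hv; exact ⟨_, (hAj A hA u).symm⟩
  · intro x hx k v hv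
    fin_cases k
    · exact hWi x hx v hv
    · exact hWj x hx v hv
  · intro A hA hAA k
    have hcomm : ∀ (x : N) u,
        fstC hij (A *ᵥ i (ρ x u)) = ρ x (fstC hij (A *ᵥ i u)) ∧
        sndC hij (A *ᵥ j (ρ' x u)) = ρ' x (sndC hij (A *ᵥ j u)) := fun x u => by
      rw [← hi, ← hj, Matrix.mulVec_mulVec, Matrix.mulVec_mulVec, ← hA.1 _ x.2, ← Matrix.mulVec_mulVec,
        ← Matrix.mulVec_mulVec, (hact x _).1, (hact x _).2]
      exact ⟨rfl, rfl⟩
    fin_cases k
    · rcases hρ.zero_or_bijective (ρ' := ρ) ((fstC hij).comp ((Matrix.toLin' A).comp i))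
        (fun x u => by simpa using (hcomm x u).1) with h0 | h0
      · right
        rintro _ ⟨u, rfl⟩
        rw [hAi A hA.1, show fstC hij (A *ᵥ i u) = 0 by simpa using LinearMap.congr_fun h0 u, map_zero]
      · left
        rintro _ ⟨u, rfl⟩
        obtain ⟨w, rfl⟩ := h0.2 u
        simp only [LinearMap.comp_apply, Matrix.toLin'_apply]
        rw [← hAi A hA.1, Matrix.mulVec_mulVec, hAA]
    · rcases hρ'.zero_or_bijective (ρ' := ρ') ((sndC hij).comp ((Matrix.toLin' A).comp j))
        (fun x u => by simpa using (hcomm x u).2) with h0 | h0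
      · right
        rintro _ ⟨u, rfl⟩
        rw [hAj A hA.1, show sndC hij (A *ᵥ j u) = 0 by simpa using LinearMap.congr_fun h0 u, map_zero]
      · left
        rintro _ ⟨u, rfl⟩
        obtain ⟨w, rfl⟩ := h0.2 u
        simp only [LinearMap.comp_apply, Matrix.toLin'_apply]
        rw [← hAj A hA.1, Matrix.mulVec_mulVec, hAA]

end NonIso

section Iso

variable {i j : Plane F →ₗ[F] (Fin 4 → F)} (hij : Function.Bijective (i.coprod j))

/-- The matrix with the given four blocks in the coordinates `i`, `j`. -/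
noncomputable def blockMat (a b c d : Plane F →ₗ[F] Plane F) : Matrix (Fin 4) (Fin 4) F :=
  LinearMap.toMatrix' (i.comp (a.comp (fstC hij) + b.comp (sndC hij)) +
    j.comp (c.comp (fstC hij) + d.comp (sndC hij)))

omit N in
theorem blockMat_mulVec (a b c d : Plane F →ₗ[F] Plane F) (v : Fin 4 → F) :
    blockMat hij a b c d *ᵥ v =
      i (a (fstC hij v) + b (sndC hij v)) + j (c (fstC hij v) + d (sndC hij v)) := by
  rw [blockMat, LinearMap.toMatrix'_mulVec]; rfl

theorem blockMat_comm {ρ : N → Plane F →ₗ[F] Plane F}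
    (hi : ∀ (x : N) u, ((x : GL (Fin 4) F) : Matrix (Fin 4) (Fin 4) F) *ᵥ i u = i (ρ x u))
    (hj : ∀ (x : N) u, ((x : GL (Fin 4) F) : Matrix (Fin 4) (Fin 4) F) *ᵥ j u = j (ρ x u))
    {a b c d : Plane F →ₗ[F] Plane F} (ha : ∀ x u, a (ρ x u) = ρ x (a u))
    (hb : ∀ x u, b (ρ x u) = ρ x (b u)) (hc : ∀ x u, c (ρ x u) = ρ x (c u))
    (hd : ∀ x u, d (ρ x u) = ρ x (d u)) : CommMat N (blockMat hij a b c d) := by
  intro x hx
  refine Matrix.toLin'.injective (LinearMap.ext fun v => ?_)
  simp only [Matrix.toLin'_apply, ← Matrix.mulVec_mulVec, blockMat_mulVec]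
  rw [Matrix.mulVec_add, hi ⟨x, hx⟩, hj ⟨x, hx⟩, (coords_act hij hi hj ⟨x, hx⟩ v).1,
    (coords_act hij hi hj ⟨x, hx⟩ v).2, map_add (ρ ⟨x, hx⟩), map_add (ρ ⟨x, hx⟩), ha, hb, hc, hd]

include hij in
/-- Isomorphic planes with a non-scalar endomorphism: a quadratic field. -/
theorem field_of_iso [Fintype F] (hn : NormalIn H N) {ρ : N → Plane F →ₗ[F] Plane F}
    (hi : ∀ (x : N) u, ((x : GL (Fin 4) F) : Matrix (Fin 4) (Fin 4) F) *ᵥ i u = i (ρ x u))
    (hj : ∀ (x : N) u, ((x : GL (Fin 4) F) : Matrix (Fin 4) (Fin 4) F) *ᵥ j u = j (ρ x u))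
    (hρ : PlaneIrr (Set.range ρ)) {c₀ : Plane F →ₗ[F] Plane F}
    (hc₀ : ∀ x u, c₀ (ρ x u) = ρ x (c₀ u)) (hns : ∀ l : F, c₀ ≠ l • LinearMap.id) :
    Abelian N ∧ FieldCase H N := by
  classical
  have hact := coords_act hij hi hj
  have hab : Abelian N := by
    intro x hx y hy
    obtain ⟨s, t, hst⟩ := hρ.span_of_comm hc₀ hns (g := ρ ⟨x, hx⟩) (fun u => (hc₀ _ u).symm)
    have key : ∀ u, ρ ⟨x, hx⟩ (ρ ⟨y, hy⟩ u) = ρ ⟨y, hy⟩ (ρ ⟨x, hx⟩ u) := fun u => by
      rw [hst]; simp [hc₀]
    refine Units.ext (Matrix.toLin'.injective (LinearMap.ext fun v => ?_))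
    simp only [Matrix.toLin'_apply, mulVec_mul]
    rw [← coords_add hij v]
    simp only [Matrix.mulVec_add, hi ⟨x, hx⟩, hi ⟨y, hy⟩, hj ⟨x, hx⟩, hj ⟨y, hy⟩, key]
  -- elements of the commutant
  have hcomp : ∀ B, CommMat N B → ∀ (x : N) u,
      fstC hij (B *ᵥ i (ρ x u)) = ρ x (fstC hij (B *ᵥ i u)) ∧
      sndC hij (B *ᵥ i (ρ x u)) = ρ x (sndC hij (B *ᵥ i u)) ∧
      fstC hij (B *ᵥ j (ρ x u)) = ρ x (fstC hij (B *ᵥ j u)) ∧
      sndC hij (B *ᵥ j (ρ x u)) = ρ x (sndC hij (B *ᵥ j u)) := by
    intro B hB x u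
    rw [← hi, ← hj, Matrix.mulVec_mulVec, Matrix.mulVec_mulVec, ← hB _ x.2, ← Matrix.mulVec_mulVec,
      ← Matrix.mulVec_mulVec, (hact x _).1, (hact x _).2, (hact x _).1, (hact x _).2]
    exact ⟨rfl, rfl, rfl, rfl⟩
  let k : (Plane F →ₗ[F] Plane F) → Matrix (Fin 4) (Fin 4) F := fun c => blockMat hij c 0 0 c
  have hk1 : k LinearMap.id = 1 := Matrix.toLin'.injective (LinearMap.ext fun v => by
    simp [k, blockMat_mulVec, coords_add hij v])
  have hkc : ∀ c : Plane F →ₗ[F] Plane F, (∀ x u, c (ρ x u) = ρ x (c u)) → CentralComm N (k c) := by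
    intro c hc
    refine ⟨blockMat_comm hij hi hj hc (by simp) (by simp) hc, fun B hB => ?_⟩
    refine Matrix.toLin'.injective (LinearMap.ext fun v => ?_)
    simp only [Matrix.toLin'_apply, ← Matrix.mulVec_mulVec, k, blockMat_mulVec, LinearMap.zero_apply,
      add_zero, zero_add]
    have e1 := hρ.comm_commutant hc (d := (fstC hij).comp ((Matrix.toLin' B).comp i))
      (fun x u => by simpa using (hcomp B hB x u).1) (fstC hij v)
    have e2 := hρ.comm_commutant hc (d := (sndC hij).comp ((Matrix.toLin' B).comp i))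
      (fun x u => by simpa using (hcomp B hB x u).2.1) (fstC hij v)
    have e3 := hρ.comm_commutant hc (d := (fstC hij).comp ((Matrix.toLin' B).comp j))
      (fun x u => by simpa using (hcomp B hB x u).2.2.1) (sndC hij v)
    have e4 := hρ.comm_commutant hc (d := (sndC hij).comp ((Matrix.toLin' B).comp j))
      (fun x u => by simpa using (hcomp B hB x u).2.2.2) (sndC hij v)
    simp only [LinearMap.comp_apply, Matrix.toLin'_apply] at e1 e2 e3 e4
    conv_lhs => rw [← coords_add hij v]
    simp only [Matrix.mulVec_add, map_add, e1, e2, e3, e4]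
    conv_rhs => rw [← coords_add hij (B *ᵥ i (c (fstC hij v))),
      ← coords_add hij (B *ᵥ j (c (sndC hij v)))]
    abel
  -- the centre consists of the `k c`
  have hZ : ∀ A ∈ centre N, ∃ s t : F, A = s • 1 + t • k c₀ := by
    intro A hA
    rw [mem_centre] at hA
    let p := blockMat hij LinearMap.id 0 0 0
    let w := blockMat hij 0 LinearMap.id LinearMap.id 0
    have hp : CommMat N p := blockMat_comm hij hi hj (by simp) (by simp) (by simp) (by simp)
    have hw : CommMat N w := blockMat_comm hij hi hj (by simp) (by simp) (by simp) (by simp)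
    let a : Plane F →ₗ[F] Plane F := (fstC hij).comp ((Matrix.toLin' A).comp i)
    have hAi : ∀ u, A *ᵥ i u = i (a u) := fun u => by
      have h1 := congrArg (· *ᵥ i u) (hA.2 p hp)
      simp only [← Matrix.mulVec_mulVec, p, blockMat_mulVec, (coords_left hij u).1,
        (coords_left hij u).2, LinearMap.zero_apply, LinearMap.id_coe, id_eq, map_zero, add_zero] at h1
      exact h1
    have hAj : ∀ u, A *ᵥ j u = j (a u) := fun u => by
      have h1 := congrArg (· *ᵥ i u) (hA.2 w hw)
      simp only [← Matrix.mulVec_mulVec, w, blockMat_mulVec, (coords_left hij u).1,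
        (coords_left hij u).2, LinearMap.zero_apply, LinearMap.id_coe, id_eq, map_zero, add_zero,
        zero_add, hAi u, (coords_left hij (a u)).1, (coords_left hij (a u)).2] at h1
      exact h1
    obtain ⟨s, t, hst⟩ := hρ.span_of_comm hc₀ hns (g := a) (fun u =>
      hρ.comm_commutant (c := a) (fun x u => by simpa [a] using (hcomp A hA.1 x u).1) hc₀ u)
    refine ⟨s, t, ?_⟩
    rw [← hk1]
    refine Matrix.toLin'.injective (LinearMap.ext fun v => ?_)
    simp only [Matrix.toLin'_apply, Matrix.add_mulVec, Matrix.smul_mulVec, k, blockMat_mulVec]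
    conv_lhs => rw [← coords_add hij v, Matrix.mulVec_add, hAi, hAj, hst]
    simp only [LinearMap.add_apply, LinearMap.smul_apply, LinearMap.id_coe, id_eq, map_add, map_smul,
      LinearMap.zero_apply, add_zero, zero_add, smul_add]
    abel
  refine ⟨hab, fieldCase_of_centre hn (Or.inl rfl) ⟨?_, ?_, ?_⟩⟩
  · intro x hx y hy
    exact (mem_centre.1 hx).2 y (mem_centre.1 hy).1
  · intro A hA h0
    have hinj : Function.Injective (Matrix.mulVecLin A) := by
      obtain ⟨s, t, rfl⟩ := hZ A hA
      rw [← hk1] at h0 ⊢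
      rw [injective_iff_map_eq_zero]
      intro v hv
      rcases hρ.zero_or_bijective (ρ' := ρ) (s • LinearMap.id + t • c₀)
        (fun x u => by simp [hc₀]) with h | h
      · refine absurd (Matrix.toLin'.injective (LinearMap.ext fun u => ?_)) h0
        have e1 := LinearMap.congr_fun h (fstC hij u)
        have e2 := LinearMap.congr_fun h (sndC hij u)
        simp only [LinearMap.add_apply, LinearMap.smul_apply, LinearMap.id_coe, id_eq,
          LinearMap.zero_apply] at e1 e2
        have e3 := congrArg i e1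
        have e4 := congrArg j e2
        simp only [map_add, map_smul, map_zero] at e3 e4
        simp only [Matrix.toLin'_apply, Matrix.add_mulVec, Matrix.smul_mulVec, k, blockMat_mulVec,
          LinearMap.id_coe, id_eq, LinearMap.zero_apply, add_zero, zero_add, map_zero, smul_add]
        rw [add_add_add_comm, e3, e4, add_zero]
      · rw [Matrix.mulVecLin_apply] at hv
        let g : Plane F →ₗ[F] Plane F := s • LinearMap.id + t • c₀
        have e1 : g (fstC hij v) = 0 ∧ g (sndC hij v) = 0 := by
          have h5 := coords_apply hij (g (fstC hij v)) (g (sndC hij v))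
          have h6 : i (g (fstC hij v)) + j (g (sndC hij v)) = 0 := by
            rw [← hv]
            simp only [g]
            simp only [Matrix.add_mulVec, Matrix.smul_mulVec, k, blockMat_mulVec, LinearMap.add_apply,
              LinearMap.smul_apply, LinearMap.id_coe, id_eq, map_add, map_smul, LinearMap.zero_apply,
              add_zero, zero_add, smul_add]
            abel
          rw [h6, map_zero, map_zero] at h5
          exact ⟨h5.1.symm, h5.2.symm⟩
        rw [← coords_add hij v, h.1 (e1.1.trans (map_zero _).symm),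
          h.1 (e1.2.trans (map_zero _).symm), map_zero, map_zero, add_zero]
    have hu : IsUnit A := Matrix.mulVec_injective_iff_isUnit.1 hinj
    obtain ⟨u, rfl⟩ := hu
    refine ⟨((u⁻¹ : GL (Fin 4) F) : Matrix (Fin 4) (Fin 4) F), mem_centre.2 ⟨fun x hx => ?_, ?_⟩,
      Units.mul_inv u⟩
    · exact ((show Commute (x : Matrix (Fin 4) (Fin 4) F) u from (mem_centre.1 hA).1 x hx).units_inv_right)
    · intro B hB
      exact ((show Commute (u : Matrix (Fin 4) (Fin 4) F) B from (mem_centre.1 hA).2 B hB).units_inv_left)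
  · have hli : LinearIndependent F ![(1 : Matrix (Fin 4) (Fin 4) F), k c₀] := by
      rw [LinearIndependent.pair_iff]
      intro s t hst
      have hz : s • LinearMap.id + t • c₀ = 0 := LinearMap.ext fun u => by
        have h1 := congrArg (fun M => fstC hij (M *ᵥ i u)) hst
        simp only [Matrix.add_mulVec, Matrix.smul_mulVec, Matrix.one_mulVec, k, blockMat_mulVec,
          (coords_left hij u).1, (coords_left hij u).2, LinearMap.zero_apply, map_zero, add_zero,
          map_add, map_smul, Matrix.zero_mulVec, (coords_left hij (c₀ u)).1] at h1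
        simpa using h1
      by_cases ht : t = 0
      · subst ht
        refine ⟨?_, rfl⟩
        have := congrFun (LinearMap.congr_fun hz (Pi.single 0 1)) 0
        simpa using this
      · refine absurd ?_ (hns (-(t⁻¹ * s)))
        have := congrArg (t⁻¹ • ·) hz
        simp only [smul_add, smul_smul, inv_mul_cancel₀ ht, one_smul, smul_zero] at this
        refine LinearMap.ext fun u => ?_
        have h2 := LinearMap.congr_fun this u
        simp only [LinearMap.add_apply, LinearMap.smul_apply, LinearMap.id_coe, id_eq,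
          LinearMap.zero_apply] at h2 ⊢
        rw [eq_neg_of_add_eq_zero_right h2]
        module
    have hspan : (centre N).toSubmodule =
        Submodule.span F (Set.range ![(1 : Matrix (Fin 4) (Fin 4) F), k c₀]) := by
      refine le_antisymm (fun A hA => ?_) (Submodule.span_le.2 ?_)
      · obtain ⟨s, t, rfl⟩ := hZ A hA
        exact add_mem (Submodule.smul_mem _ _ (Submodule.subset_span ⟨0, rfl⟩))
          (Submodule.smul_mem _ _ (Submodule.subset_span ⟨1, rfl⟩))
      · rintro _ ⟨l, rfl⟩
        fin_cases l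
        · exact (centre N).one_mem
        · exact mem_centre.2 (hkc c₀ hc₀)
    show Module.finrank F (centre N).toSubmodule = 2
    rw [hspan, finrank_span_eq_card hli, Fintype.card_fin]

include hij in
/-- Isomorphic planes with scalar endomorphisms: a tensor product. -/
theorem tensor_of_iso (hn : NormalIn H N)
    (hmin : ∀ U, Invariant N U → U ≠ ⊥ → 2 ≤ Module.finrank F U)
    {ρ : N → Plane F →ₗ[F] Plane F}
    (hi : ∀ (x : N) u, ((x : GL (Fin 4) F) : Matrix (Fin 4) (Fin 4) F) *ᵥ i u = i (ρ x u))
    (hj : ∀ (x : N) u, ((x : GL (Fin 4) F) : Matrix (Fin 4) (Fin 4) F) *ᵥ j u = j (ρ x u))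
    (hρ : PlaneIrr (Set.range ρ))
    (hsc : ∀ c : Plane F →ₗ[F] Plane F, (∀ x u, c (ρ x u) = ρ x (c u)) → ∃ l : F, c = l • LinearMap.id) :
    TensorCase H N := by
  classical
  have hact := coords_act hij hi hj
  let Q : (Fin 4 → F) → F := fun v => omega (fstC hij v) (sndC hij v)
  have hadd : ∀ u v, Q (u + v) = Q u + Q v +
      (omega (fstC hij u) (sndC hij v) + omega (fstC hij v) (sndC hij u)) := by
    intro u v
    simp only [Q, map_add, omega_add_left, omega_add_right]
    ring
  have hpol : ∀ u v, QuadraticMap.polar Q u v =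
      omega (fstC hij u) (sndC hij v) + omega (fstC hij v) (sndC hij u) := by
    intro u v
    rw [QuadraticMap.polar, hadd]
    ring
  have hQ : Geo.IsNondegenerateQuadraticForm Q := by
    refine ⟨fun c v => ?_, ⟨fun x y v => ?_, fun c x v => ?_, fun v x y => ?_, fun c v x => ?_⟩, ?_⟩
    · simp only [Q, map_smul, omega_smul_left, omega_smul_right]; ring
    · simp only [hpol, map_add, omega_add_left, omega_add_right]; ring
    · simp only [hpol, map_smul, omega_smul_left, omega_smul_right]; ring
    · simp only [hpol, map_add, omega_add_left, omega_add_right]; ring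
    · simp only [hpol, map_smul, omega_smul_left, omega_smul_right]; ring
    · intro v hv
      obtain ⟨x, hx⟩ : ∃ x, QuadraticMap.polar Q v x ≠ 0 := by
        by_cases h1 : fstC hij v = 0
        · have h2 : sndC hij v ≠ 0 := fun h2 => hv (by
            rw [← coords_add hij v, h1, h2, map_zero, map_zero, add_zero])
          obtain ⟨u, hu⟩ := omega_nondegenerate h2
          refine ⟨i u, ?_⟩
          rw [hpol, (coords_left hij u).1, (coords_left hij u).2, h1]
          intro h0
          apply hu
          simp only [omega, Pi.zero_apply, zero_mul, sub_self, zero_add] at h0 ⊢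
          linear_combination -h0
        · obtain ⟨u, hu⟩ := omega_nondegenerate h1
          refine ⟨j u, ?_⟩
          rw [hpol, (coords_right hij u).1, (coords_right hij u).2]
          simpa [omega] using hu
      refine ⟨⟨x, ?_⟩, x, hx⟩
      rwa [hpol, add_comm, ← hpol]
  obtain ⟨v₁, hv₁⟩ : ∃ v, Q v ≠ 0 := by
    obtain ⟨u, hu⟩ := omega_nondegenerate (F := F) (u := Pi.single 0 1) (by simp)
    exact ⟨i (Pi.single 0 1) + j u, by simp only [Q, (coords_apply hij _ _).1, (coords_apply hij _ _).2]; exact hu⟩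
  have hmem : ∀ (g : GL (Fin 4) F) (c : F),
      (∀ v, Q ((g : Matrix (Fin 4) (Fin 4) F) *ᵥ v) = c * Q v) → g ∈ Geo.quadSimilarityGroup Q := by
    intro g c hc
    refine ⟨Units.mk0 c fun h0 => hv₁ ?_, hc⟩
    have := hc (((g⁻¹ : GL (Fin 4) F) : Matrix (Fin 4) (Fin 4) F) *ᵥ v₁)
    rwa [mulVec_inv, h0, zero_mul] at this
  refine ⟨fun hab => ?_, Q, hQ, fun h hh => ?_, fun x hx => ?_, fun g hg => ?_⟩
  · obtain ⟨x, hx⟩ := hρ.exists_nonscalar
    obtain ⟨l, hl⟩ := hsc (ρ x) fun y u => by
      have h1 := congrArg (fun g : GL (Fin 4) F => fstC hij ((g : Matrix (Fin 4) (Fin 4) F) *ᵥ i u))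
        (hab x x.2 y y.2)
      simpa only [mulVec_mul, hi, (coords_left hij _).1] using h1
    exact hx l hl
  · -- every invariant plane is singular
    have hsing : ∀ U, Invariant N U → Module.finrank F U = 2 → ∀ v ∈ U, Q v = 0 := by
      intro U hU hUd v hv
      obtain ⟨k, σ, hk, hkU, hkσ, hσ⟩ := exists_rep hU hUd hmin
      rw [← hkU] at hv
      obtain ⟨u, rfl⟩ := hv
      rcases hσ.zero_or_bijective (ρ' := ρ) ((fstC hij).comp k) (fun x u => by
        simp only [LinearMap.comp_apply]; rw [← hkσ, (hact x _).1]) with h1 | h1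
      · have := LinearMap.congr_fun h1 u
        simp only [LinearMap.comp_apply, LinearMap.zero_apply] at this
        simp only [Q, this]
        simp [omega]
      · let e := LinearEquiv.ofBijective _ h1
        obtain ⟨l, hl⟩ := hsc (((sndC hij).comp k).comp e.symm.toLinearMap) (fun x w => by
          have hw : fstC hij (k (e.symm w)) = w := e.apply_symm_apply w
          have h3 : e.symm (ρ x w) = σ x (e.symm w) := e.injective (by
            rw [LinearEquiv.apply_symm_apply]
            show ρ x w = fstC hij (k (σ x (e.symm w)))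
            rw [← hkσ, (hact x _).1, hw])
          simp only [LinearMap.comp_apply, LinearEquiv.coe_coe, h3]
          rw [← hkσ, (hact x _).2])
        have := LinearMap.congr_fun hl (e u)
        simp only [LinearMap.comp_apply, LinearEquiv.coe_coe, LinearEquiv.symm_apply_apply,
          LinearMap.smul_apply, LinearMap.id_coe, id_eq] at this
        simp only [Q, this]
        rw [omega_smul_right, show e u = fstC hij (k u) from rfl, omega_self, mul_zero]
    let T : (Fin 4 → F) →ₗ[F] (Fin 4 → F) := Matrix.toLin' (h : Matrix (Fin 4) (Fin 4) F)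
    have hdep : ∀ (s t : F) u, Q (T (i (s • u) + j (t • u))) = 0 := by
      intro s t u
      by_cases hst : s = 0 ∧ t = 0
      · simp [hst.1, hst.2, Q, omega]
      let l : Plane F →ₗ[F] (Fin 4 → F) := s • i + t • j
      have hl : Function.Injective l := by
        intro a b hab
        have h1 := congrArg (fstC hij) hab
        have h2 := congrArg (sndC hij) hab
        simp only [l, LinearMap.add_apply, LinearMap.smul_apply, map_add, map_smul,
          (coords_left hij _).1, (coords_left hij _).2, (coords_right hij _).1, (coords_right hij _).2,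
          smul_zero, add_zero, zero_add] at h1 h2
        by_cases hs : s = 0
        · exact smul_right_injective _ (fun ht => hst ⟨hs, ht⟩) h2
        · exact smul_right_injective _ hs h1
      have hU : Invariant N (LinearMap.range l) := by
        rintro x hx _ ⟨a, rfl⟩
        refine ⟨ρ ⟨x, hx⟩ a, ?_⟩
        simp only [l, LinearMap.add_apply, LinearMap.smul_apply, Matrix.mulVec_add, Matrix.mulVec_smul,
          hi ⟨x, hx⟩, hj ⟨x, hx⟩]
      refine hsing _ (hU.translate hn hh) ?_ _ (mem_translate.2 ⟨l u, ⟨u, rfl⟩, ?_⟩)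
      · rw [finrank_translate, LinearMap.finrank_range_of_inj hl, Module.finrank_fintype_fun_eq_card,
          Fintype.card_fin]
      · simp [T, l]
    let B : Plane F → Plane F → F := fun a b =>
      omega (fstC hij (T (i a))) (sndC hij (T (j b))) + omega (fstC hij (T (j b))) (sndC hij (T (i a)))
    have hQT : ∀ v, Q (T v) = B (fstC hij v) (sndC hij v) := by
      intro v
      conv_lhs => rw [← coords_add hij v, map_add, hadd]
      have h1 := hdep 1 0 (fstC hij v)
      have h2 := hdep 0 1 (sndC hij v)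
      simp only [one_smul, zero_smul, map_zero, add_zero, zero_add] at h1 h2
      rw [h1, h2, zero_add, zero_add]
    have halt := alternating_eq_omega (B := B)
      (fun a a' b => by simp only [B, map_add, omega_add_left, omega_add_right]; ring)
      (fun c a b => by simp only [B, map_smul, omega_smul_left, omega_smul_right]; ring)
      (fun a b b' => by simp only [B, map_add, omega_add_left, omega_add_right]; ring)
      (fun c a b => by simp only [B, map_smul, omega_smul_left, omega_smul_right]; ring)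
      (fun a => by
        have h1 := hQT (i a + j a)
        rw [(coords_apply hij a a).1, (coords_apply hij a a).2] at h1
        have h2 := hdep 1 1 a
        rw [one_smul] at h2
        rw [← h1, h2])
    refine hmem h (B (Pi.single 0 1) (Pi.single 1 1)) fun v => ?_
    exact (hQT v).trans (halt _ _)
  · refine hmem x (omega (ρ ⟨x, hx⟩ (Pi.single 0 1)) (ρ ⟨x, hx⟩ (Pi.single 1 1))) fun v => ?_
    simp only [Q, (hact ⟨x, hx⟩ v).1, (hact ⟨x, hx⟩ v).2]
    exact alternating_eq_omega (B := fun a b => omega (ρ ⟨x, hx⟩ a) (ρ ⟨x, hx⟩ b))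
      (fun a a' b => by simp [omega_add_left]) (fun c a b => by simp [omega_smul_left])
      (fun a b b' => by simp [omega_add_right]) (fun c a b => by simp [omega_smul_right])
      (fun a => omega_self _) _ _
  · have hg' : ∀ (x : N) v, ((x : GL (Fin 4) F) : Matrix (Fin 4) (Fin 4) F) *ᵥ
        ((g : Matrix (Fin 4) (Fin 4) F) *ᵥ v) =
        (g : Matrix (Fin 4) (Fin 4) F) *ᵥ (((x : GL (Fin 4) F) : Matrix (Fin 4) (Fin 4) F) *ᵥ v) := by
      intro x v
      rw [← mulVec_mul, ← mulVec_mul, hg x x.2]
    let G : (Fin 4 → F) →ₗ[F] (Fin 4 → F) := Matrix.toLin' (g : Matrix (Fin 4) (Fin 4) F)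
    obtain ⟨α, hα⟩ := hsc ((fstC hij).comp (G.comp i)) fun x u => by
      simp only [G, LinearMap.comp_apply, Matrix.toLin'_apply]
      rw [← hi, ← hg', (hact x _).1]
    obtain ⟨β, hβ⟩ := hsc ((fstC hij).comp (G.comp j)) fun x u => by
      simp only [G, LinearMap.comp_apply, Matrix.toLin'_apply]
      rw [← hj, ← hg', (hact x _).1]
    obtain ⟨γ, hγ⟩ := hsc ((sndC hij).comp (G.comp i)) fun x u => by
      simp only [G, LinearMap.comp_apply, Matrix.toLin'_apply]
      rw [← hi, ← hg', (hact x _).2]
    obtain ⟨δ, hδ⟩ := hsc ((sndC hij).comp (G.comp j)) fun x u => by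
      simp only [G, LinearMap.comp_apply, Matrix.toLin'_apply]
      rw [← hj, ← hg', (hact x _).2]
    refine hmem g (α * δ - β * γ) fun v => ?_
    have e1 := LinearMap.congr_fun hα (fstC hij v)
    have e2 := LinearMap.congr_fun hβ (sndC hij v)
    have e3 := LinearMap.congr_fun hγ (fstC hij v)
    have e4 := LinearMap.congr_fun hδ (sndC hij v)
    simp only [G, LinearMap.comp_apply, Matrix.toLin'_apply, LinearMap.smul_apply, LinearMap.id_coe,
      id_eq] at e1 e2 e3 e4
    conv_lhs => rw [← coords_add hij v]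
    simp only [Q, Matrix.mulVec_add, map_add, e1, e2, e3, e4]
    simp [omega]
    ring

end Iso

/-- An irreducible normal subgroup: absolutely irreducible, or a quadratic field is normalised. -/
theorem irr_cases [Fintype F] (hn : NormalIn H N) (hN : Irr N) :
    AbsIrr N ∨ (CommCommutant N ∧ FieldCase H N) := by
  classical
  by_cases hab : ∀ A : Matrix (Fin 4) (Fin 4) F, (∀ s ∈ Geo.matrixSet N, A * s = s * A) →
      ∃ c : F, A = c • (1 : Matrix (Fin 4) (Fin 4) F)
  · exact Or.inl ⟨hN, hab⟩
  push Not at hab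
  obtain ⟨A, hA, hAns⟩ := hab
  let C := Subalgebra.centralizer F (Geo.matrixSet N)
  have hinjC : ∀ c ∈ C, c ≠ 0 → ∀ w : Fin 4 → F, c *ᵥ w = 0 → w = 0 := by
    intro c hc hc0 w hw
    rcases irr_iff.1 hN (LinearMap.ker (Matrix.toLin' c)) (fun x hx v hv => by
      simp only [LinearMap.mem_ker, Matrix.toLin'_apply] at hv ⊢
      rw [Matrix.mulVec_mulVec, ← mem_centralizer_iff.1 hc x hx, ← Matrix.mulVec_mulVec, hv,
        Matrix.mulVec_zero]) with h | h
    · have : w ∈ LinearMap.ker (Matrix.toLin' c) := by simp [hw]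
      exact (Submodule.mem_bot F).1 (h ▸ this)
    · exact absurd (Matrix.toLin'.injective (by rw [map_zero]; exact LinearMap.ker_eq_top.1 h)) hc0
  haveI : NoZeroDivisors C := ⟨fun {a b} hab => by
    by_cases ha : a = 0
    · exact Or.inl ha
    · refine Or.inr (Subtype.ext (Matrix.ext_of_mulVec_single fun i => ?_))
      have ha' : (a : Matrix (Fin 4) (Fin 4) F) ≠ 0 := fun h => ha (Subtype.ext h)
      have := hinjC _ a.2 ha' ((b : Matrix (Fin 4) (Fin 4) F) *ᵥ Pi.single i 1) (by
        rw [Matrix.mulVec_mulVec, ← Subalgebra.coe_mul, hab, Subalgebra.coe_zero, Matrix.zero_mulVec])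
      rw [Subalgebra.coe_zero, Matrix.zero_mulVec]
      exact this⟩
  haveI : Nontrivial C := ⟨⟨0, 1, fun h => one_ne_zero (congrArg Subtype.val h).symm⟩⟩
  haveI : IsDomain C := NoZeroDivisors.to_isDomain _
  have hfield : IsField C := Finite.isDomain_to_isField C
  have hmul : ∀ a ∈ C, ∀ b ∈ C, a * b = b * a := fun a ha b hb =>
    congrArg Subtype.val (hfield.mul_comm ⟨a, ha⟩ ⟨b, hb⟩)
  have hCC : CommCommutant N := fun a b ha hb =>
    hmul a (mem_centralizer_iff.2 ha) b (mem_centralizer_iff.2 hb)
  have hCZ : centre N = C := le_antisymm inf_le_left fun a ha =>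
    mem_centre.2 ⟨mem_centralizer_iff.1 ha, fun b hb => hCC a b (mem_centralizer_iff.1 ha) hb⟩
  -- the degree divides four
  letI := hfield.toField
  letI : Module C (Fin 4 → F) :=
    { smul := fun c v => (c : Matrix (Fin 4) (Fin 4) F) *ᵥ v
      one_smul := fun v => Matrix.one_mulVec v
      mul_smul := fun a b v => (Matrix.mulVec_mulVec v _ _).symm
      smul_zero := fun a => Matrix.mulVec_zero _
      smul_add := fun a u v => Matrix.mulVec_add _ u v
      add_smul := fun a b v => Matrix.add_mulVec _ _ v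
      zero_smul := fun v => Matrix.zero_mulVec v }
  haveI : IsScalarTower F C (Fin 4 → F) := ⟨fun c a v => Matrix.smul_mulVec c _ v⟩
  haveI : Module.Free C (Fin 4 → F) := Module.Free.of_divisionRing C _
  have hdvd : Module.finrank F C ∣ 4 := ⟨Module.finrank C (Fin 4 → F), by
    rw [Module.finrank_mul_finrank F C (Fin 4 → F), Module.finrank_fintype_fun_eq_card,
      Fintype.card_fin]⟩
  have hne1 : Module.finrank F C ≠ 1 := by
    intro h1
    have hbot : C = ⊥ := Subalgebra.finrank_eq_one_iff.1 h1
    have hAC : A ∈ C := mem_centralizer_iff.2 fun x hx => (hA _ ⟨x, hx, rfl⟩).symm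
    rw [hbot, Algebra.mem_bot] at hAC
    obtain ⟨c, hc⟩ := hAC
    exact hAns c (by rw [← hc, Algebra.algebraMap_eq_smul_one])
  have hm : Module.finrank F C = 2 ∨ Module.finrank F C = 4 := by
    have := Nat.le_of_dvd (by norm_num) hdvd
    interval_cases hd : Module.finrank F C <;> simp_all
  refine Or.inr ⟨hCC, fieldCase_of_centre hn hm ?_⟩
  rw [hCZ]
  refine ⟨hmul, fun x hx h0 => ?_, rfl⟩
  obtain ⟨y, hy⟩ := hfield.mul_inv_cancel (a := (⟨x, hx⟩ : C)) fun h => h0 (congrArg Subtype.val h)
  exact ⟨y, y.2, congrArg Subtype.val hy⟩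

/-- Normal subgroups of an irreducible subgroup of `GL₄`. -/
theorem classify [Fintype F] (hirr : Irr H) (hn : NormalIn H N) :
    AbsIrr N ∨ TensorCase H N ∨
      ((Abelian N ∨ CommCommutant N) ∧
        (N ≤ Geo.scalars (Fin 4) F ∨ LinesCase H N ∨ PlanesCase H N ∨ FieldCase H N)) := by
  classical
  obtain ⟨W, hW, hW0, hWd, hmin⟩ := exists_minimal_invariant hirr hn
  rw [Fintype.card_fin] at hWd
  have hWle : Module.finrank F W ≤ 4 := Nat.le_of_dvd (by norm_num) hWd
  have hWpos : 0 < Module.finrank F W :=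
    Nat.pos_of_dvd_of_pos hWd (by norm_num)
  obtain h1 | h2 | h4 : Module.finrank F W = 1 ∨ Module.finrank F W = 2 ∨ Module.finrank F W = 4 := by
    interval_cases hd : Module.finrank F W <;> simp_all
  · obtain ⟨v, hv, hv0⟩ := (Submodule.ne_bot_iff W).1 hW0
    obtain ⟨ha, h⟩ := eigen_cases hirr hn hv0 fun x hx => by
      obtain ⟨c, hc⟩ := (finrank_eq_one_iff_of_nonzero' (⟨v, hv⟩ : W)
        (fun h => hv0 (congrArg Subtype.val h))).1 h1 ⟨_, hW x hx v hv⟩
      exact ⟨c, (congrArg Subtype.val hc).symm⟩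
    exact Or.inr (Or.inr ⟨Or.inl ha, h.imp_right (Or.imp_right Or.inl)⟩)
  · rw [h2] at hmin
    obtain ⟨g, hg, hgW⟩ : ∃ g ∈ H, translate g W ≠ W := by
      by_contra hc
      push Not at hc
      rcases irr_iff.1 hirr W (fun g hg w hw => hc g hg ▸ mem_translate.2 ⟨w, hw, rfl⟩) with h | h
      · exact hW0 h
      · rw [h, finrank_top, Module.finrank_fintype_fun_eq_card, Fintype.card_fin] at h2
        omega
    set W' := translate g W with hW'
    have hW'inv : Invariant N W' := hW.translate hn hg
    have hW'd : Module.finrank F W' = 2 := by rw [hW', finrank_translate, h2]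
    have hinf : W ⊓ W' = ⊥ := by
      by_contra hne
      have h1 := hmin _ (hW.inf hW'inv) hne
      exact hgW ((Submodule.eq_of_le_of_finrank_le inf_le_right (by omega)).symm.trans
        (Submodule.eq_of_le_of_finrank_le inf_le_left (by omega)))
    obtain ⟨i, ρ, hi0, hiW, hi, hρ⟩ := exists_rep hW h2 hmin
    obtain ⟨j, ρ', hj0, hjW, hj, hρ'⟩ := exists_rep hW'inv hW'd hmin
    have hbij : ∀ j' : Plane F →ₗ[F] (Fin 4 → F), Function.Injective j' → LinearMap.range j' = W' →
        Function.Bijective (i.coprod j') := by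
      intro j' hj' hr
      have hinj : Function.Injective (i.coprod j') := by
        rw [injective_iff_map_eq_zero]
        rintro ⟨a, b⟩ hab
        rw [LinearMap.coprod_apply] at hab
        have hmem : i a ∈ W ⊓ W' := ⟨hiW ▸ LinearMap.mem_range_self i a, by
          rw [eq_neg_of_add_eq_zero_left hab, ← hr]
          exact Submodule.neg_mem _ (LinearMap.mem_range_self j' b)⟩
        rw [hinf, Submodule.mem_bot] at hmem
        rw [hmem, zero_add] at hab
        rw [Prod.mk_eq_zero]
        exact ⟨hi0 (hmem.trans (map_zero i).symm), hj' (hab.trans (map_zero j').symm)⟩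
      exact ⟨hinj, (LinearMap.injective_iff_surjective_of_finrank_eq_finrank (by
        simp [Module.finrank_fintype_fun_eq_card])).1 hinj⟩
    by_cases hiso : ∃ T : Plane F →ₗ[F] Plane F, (∀ x u, T (ρ x u) = ρ' x (T u)) ∧ T ≠ 0
    · obtain ⟨T, hT, hT0⟩ := hiso
      have hTb := (hρ.zero_or_bijective T hT).resolve_left hT0
      have hj' : ∀ (x : N) u, ((x : GL (Fin 4) F) : Matrix (Fin 4) (Fin 4) F) *ᵥ (j.comp T) u =
          (j.comp T) (ρ x u) := fun x u => by rw [LinearMap.comp_apply, hj, ← hT]; rfl
      have hb := hbij (j.comp T) (hj0.comp hTb.1)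
        (by rw [LinearMap.range_comp_of_range_eq_top _ (LinearMap.range_eq_top.2 hTb.2), hjW])
      by_cases hsc : ∀ c : Plane F →ₗ[F] Plane F, (∀ x u, c (ρ x u) = ρ x (c u)) →
          ∃ l : F, c = l • LinearMap.id
      · exact Or.inr (Or.inl (tensor_of_iso hb hn hmin hi hj' hρ hsc))
      · push Not at hsc
        obtain ⟨c, hc, hns⟩ := hsc
        obtain ⟨ha, hf⟩ := field_of_iso hb hn hi hj' hρ hc hns
        exact Or.inr (Or.inr ⟨Or.inl ha, Or.inr (Or.inr (Or.inr hf))⟩)
    · push Not at hiso
      obtain ⟨hc, hp⟩ := planes_of_nonIso hn hmin (hbij j hj0 hjW) hi hj hρ hρ' hiso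
      exact Or.inr (Or.inr ⟨Or.inr hc, Or.inr (Or.inr (Or.inl hp))⟩)
  · have hN : Irr N := irr_iff.2 fun U hU => by
      by_cases hU0 : U = ⊥
      · exact Or.inl hU0
      · exact Or.inr (Submodule.eq_top_of_finrank_eq (le_antisymm (Submodule.finrank_le _)
          (by rw [Module.finrank_fintype_fun_eq_card, Fintype.card_fin]; exact h4.ge.trans (hmin U hU hU0))))
    rcases irr_cases hn hN with h | ⟨hc, hf⟩
    · exact Or.inl h
    · exact Or.inr (Or.inr ⟨Or.inr hc, Or.inr (Or.inr (Or.inr hf))⟩)

end Cfsg.Agent.AschbacherFour
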