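import Mathlib

/-!
Irreducible sets of endomorphisms of a plane: Schur's lemma, the commutant, alternating forms.
-/

set_option autoImplicit false

namespace Cfsg.Agent.AschbacherFour

variable {F : Type*} [Field F]

/-- The coordinate plane. -/
abbrev Plane (F : Type*) := Fin 2 → F

/-- The standard alternating form on the plane. -/
def omega (u v : Plane F) : F := u 0 * v 1 - u 1 * v 0

theorem omega_self (u : Plane F) : omega u u = 0 := by simp [omega, mul_comm]

theorem omega_add_left (u u' v : Plane F) : omega (u + u') v = omega u v + omega u' v := by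
  simp [omega]; ring

theorem omega_add_right (u v v' : Plane F) : omega u (v + v') = omega u v + omega u v' := by
  simp [omega]; ring

theorem omega_smul_left (c : F) (u v : Plane F) : omega (c • u) v = c * omega u v := by
  simp [omega]; ring

theorem omega_smul_right (c : F) (u v : Plane F) : omega u (c • v) = c * omega u v := by
  simp [omega]; ring

theorem omega_nondegenerate {u : Plane F} (hu : u ≠ 0) : ∃ v, omega u v ≠ 0 := by
  by_contra hc
  push Not at hc
  apply hu
  have h0 := hc (Pi.single 1 1)
  have h1 := hc (Pi.single 0 1)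
  simp [omega] at h0 h1
  funext i
  fin_cases i <;> assumption

/-- Every alternating bilinear form on the plane is a multiple of `omega`. -/
theorem alternating_eq_omega {B : Plane F → Plane F → F}
    (addl : ∀ u u' v, B (u + u') v = B u v + B u' v) (smull : ∀ c u v, B (c • u) v = c * B u v)
    (addr : ∀ u v v', B u (v + v') = B u v + B u v') (smulr : ∀ c u v, B u (c • v) = c * B u v)
    (alt : ∀ u, B u u = 0) :
    ∀ u v, B u v = B (Pi.single 0 1) (Pi.single 1 1) * omega u v := by
  intro u v
  set e0 : Plane F := Pi.single 0 1 with he0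
  set e1 : Plane F := Pi.single 1 1 with he1
  have h : ∀ w : Plane F, w = w 0 • e0 + w 1 • e1 := fun w => by
    funext i; fin_cases i <;> simp [he0, he1]
  have hskew : B e1 e0 = -B e0 e1 := by
    have := alt (e0 + e1)
    rw [addl, addr, addr, alt, alt] at this
    linear_combination this
  conv_lhs => rw [h u, h v]
  rw [addl, addr, addr, smull, smull, smull, smull, smulr, smulr, smulr, smulr, alt, alt, hskew,
    omega]
  ring

/-- The set `S` of endomorphisms of the plane has no common proper non-zero invariant subspace. -/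
def PlaneIrr (S : Set (Plane F →ₗ[F] Plane F)) : Prop :=
  ∀ U : Submodule F (Plane F), (∀ a ∈ S, ∀ u ∈ U, a u ∈ U) → U = ⊥ ∨ U = ⊤

/-- Schur's lemma for an intertwiner. -/
theorem PlaneIrr.zero_or_bijective {α : Type*} {ρ ρ' : α → Plane F →ₗ[F] Plane F}
    (h : PlaneIrr (Set.range ρ)) (T : Plane F →ₗ[F] Plane F)
    (hT : ∀ a u, T (ρ a u) = ρ' a (T u)) : T = 0 ∨ Function.Bijective T := by
  rcases h (LinearMap.ker T) (by
    rintro _ ⟨a, rfl⟩ u hu
    rw [LinearMap.mem_ker] at hu ⊢
    rw [hT, hu, map_zero]) with h0 | h1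
  · have hinj : Function.Injective T := LinearMap.ker_eq_bot.1 h0
    exact Or.inr ⟨hinj, LinearMap.injective_iff_surjective.1 hinj⟩
  · exact Or.inl (LinearMap.ker_eq_top.1 h1)

/-- A non-scalar endomorphism in the commutant of an irreducible plane has no eigenvector. -/
theorem PlaneIrr.linearIndependent {α : Type*} {ρ : α → Plane F →ₗ[F] Plane F}
    (h : PlaneIrr (Set.range ρ)) {c : Plane F →ₗ[F] Plane F} (hc : ∀ a u, c (ρ a u) = ρ a (c u))
    (hns : ∀ l : F, c ≠ l • LinearMap.id) {w : Plane F} (hw : w ≠ 0) :
    LinearIndependent F ![w, c w] := by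
  rw [LinearIndependent.pair_iff]
  intro s t hst
  by_cases ht : t = 0
  · subst ht
    rw [zero_smul, add_zero, smul_eq_zero] at hst
    exact ⟨hst.resolve_right hw, rfl⟩
  exfalso
  let d := c - (-(t⁻¹ * s)) • LinearMap.id
  have hdw : d w = 0 := by
    have := congrArg (t⁻¹ • ·) hst
    simp only [smul_add, smul_smul, inv_mul_cancel₀ ht, one_smul, smul_zero] at this
    simpa [d, sub_eq_add_neg, add_comm] using this
  rcases h.zero_or_bijective (ρ' := ρ) d (fun a u => by simp [d, hc]) with h0 | h0
  · exact hns _ (sub_eq_zero.1 h0)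
  · exact hw (h0.1 (hdw.trans (map_zero d).symm))

/-- Everything commuting with a commuting non-scalar endomorphism of an irreducible plane is a
polynomial in it. -/
theorem PlaneIrr.span_of_comm {α : Type*} {ρ : α → Plane F →ₗ[F] Plane F}
    (h : PlaneIrr (Set.range ρ)) {c : Plane F →ₗ[F] Plane F} (hc : ∀ a u, c (ρ a u) = ρ a (c u))
    (hns : ∀ l : F, c ≠ l • LinearMap.id) {g : Plane F →ₗ[F] Plane F}
    (hg : ∀ u, g (c u) = c (g u)) : ∃ s t : F, g = s • LinearMap.id + t • c := by
  set w : Plane F := Pi.single 0 1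
  have hw : w ≠ 0 := by simp [w]
  have hli := h.linearIndependent hc hns hw
  let b := basisOfLinearIndependentOfCardEqFinrank hli (by simp)
  have hb : ⇑b = ![w, c w] := coe_basisOfLinearIndependentOfCardEqFinrank hli _
  refine ⟨b.repr (g w) 0, b.repr (g w) 1, b.ext fun i => ?_⟩
  have hgw : b.repr (g w) 0 • w + b.repr (g w) 1 • c w = g w := by
    conv_rhs => rw [← b.sum_repr (g w)]
    simp [Fin.sum_univ_two, hb]
  rw [hb]
  fin_cases i
  · simp only [Fin.zero_eta, Matrix.cons_val_zero, LinearMap.add_apply, LinearMap.smul_apply,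
      LinearMap.id_coe, id_eq]
    exact hgw.symm
  · simp only [Fin.mk_one, Matrix.cons_val_one, Matrix.cons_val_fin_one, LinearMap.add_apply,
      LinearMap.smul_apply, LinearMap.id_coe, id_eq]
    rw [hg]
    conv_lhs => rw [← hgw]
    simp

/-- Endomorphisms commuting with an irreducible set of a plane commute with each other. -/
theorem PlaneIrr.comm_commutant {α : Type*} {ρ : α → Plane F →ₗ[F] Plane F}
    (h : PlaneIrr (Set.range ρ)) {c d : Plane F →ₗ[F] Plane F}
    (hc : ∀ a u, c (ρ a u) = ρ a (c u)) (hd : ∀ a u, d (ρ a u) = ρ a (d u)) :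
    ∀ u, c (d u) = d (c u) := by
  classical
  by_cases hcs : ∃ l : F, c = l • LinearMap.id
  · obtain ⟨l, rfl⟩ := hcs
    simp
  push Not at hcs
  set w : Plane F := Pi.single 0 1
  have hw : w ≠ 0 := by simp [w]
  have hli := h.linearIndependent hc hcs hw
  let b := basisOfLinearIndependentOfCardEqFinrank hli (by simp)
  have hb : ⇑b = ![w, c w] := coe_basisOfLinearIndependentOfCardEqFinrank hli _
  let e := d - b.repr (d w) 0 • LinearMap.id - b.repr (d w) 1 • c
  have hew : e w = 0 := by
    have h1 : b.repr (d w) 0 • w + b.repr (d w) 1 • c w = d w := by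
      conv_rhs => rw [← b.sum_repr (d w)]
      simp [Fin.sum_univ_two, hb]
    simp only [e, LinearMap.sub_apply, LinearMap.smul_apply, LinearMap.id_coe, id_eq]
    rw [sub_sub, h1, sub_self]
  rcases h.zero_or_bijective (ρ' := ρ) e (fun a u => by simp [e, hc, hd]) with h0 | h0
  · intro u
    have hd' : ∀ v, d v = b.repr (d w) 0 • v + b.repr (d w) 1 • c v := fun v => by
      have := LinearMap.congr_fun h0 v
      simpa [e, sub_sub, sub_eq_zero] using this
    rw [hd' u, hd' (c u)]
    simp
  · exact absurd (h0.1 (hew.trans (map_zero e).symm)) hw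

end Cfsg.Agent.AschbacherFour
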