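import Cfsg.Agent.Lib.Aschbacher.Common
import Cfsg.Agent.Lib.AschbacherFour.Plane

/-!
Normal subgroups with a common eigenvector of an irreducible group in dimension four.
-/

set_option autoImplicit false

namespace Cfsg.Agent.AschbacherFour

open Matrix Aschbacher
open scoped MatrixGroups

variable {F : Type*} [Field F]

/-- The matrix `A` commutes with every element of `N`. -/
def CommMat (N : Subgroup (GL (Fin 4) F)) (A : Matrix (Fin 4) (Fin 4) F) : Prop :=
  ∀ x ∈ N, (x : Matrix (Fin 4) (Fin 4) F) * A = A * x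

/-- The commutant of `N` is commutative. -/
def CommCommutant (N : Subgroup (GL (Fin 4) F)) : Prop :=
  ∀ A B, CommMat N A → CommMat N B → A * B = B * A

/-- `A` is in the centre of the commutant of `N`. -/
def CentralComm (N : Subgroup (GL (Fin 4) F)) (A : Matrix (Fin 4) (Fin 4) F) : Prop :=
  CommMat N A ∧ ∀ B, CommMat N B → A * B = B * A

/-- Four lines diagonalising `N` and its commutant, permuted by `H`. -/
def LinesCase (H N : Subgroup (GL (Fin 4) F)) : Prop :=
  ∃ b : Module.Basis (Fin 4) F (Fin 4 → F),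
    (∀ x ∈ N, ∀ i, ∃ c : F, (x : Matrix (Fin 4) (Fin 4) F) *ᵥ b i = c • b i) ∧
    (∀ h ∈ H, ∃ σ : Equiv.Perm (Fin 4), ∀ i, ∃ c : F,
      (h : Matrix (Fin 4) (Fin 4) F) *ᵥ b i = c • b (σ i)) ∧
    ∀ A, CommMat N A → ∀ i, ∃ c : F, A *ᵥ b i = c • b i

/-- Two planes invariant under `N` and its commutant, permuted by `H`; central idempotents of the
commutant are trivial on each of them. -/
def PlanesCase (H N : Subgroup (GL (Fin 4) F)) : Prop :=
  ∃ D : Fin 2 → Submodule F (Fin 4 → F), Geo.IsMDecomposition 2 D ∧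
    H ≤ Geo.decompositionStabilizer D ∧
    (∀ A, CommMat N A → ∀ i, ∀ v ∈ D i, A *ᵥ v ∈ D i) ∧
    (∀ x ∈ N, ∀ i, ∀ v ∈ D i, (x : Matrix (Fin 4) (Fin 4) F) *ᵥ v ∈ D i) ∧
    ∀ A, CentralComm N A → A * A = A → ∀ i,
      (∀ v ∈ D i, A *ᵥ v = v) ∨ ∀ v ∈ D i, A *ᵥ v = 0

/-- The common eigenspace of `N` for `ψ`. -/
def eig (N : Subgroup (GL (Fin 4) F)) (ψ : GL (Fin 4) F → F) : Submodule F (Fin 4 → F) where
  carrier := {w | ∀ x ∈ N, (x : Matrix (Fin 4) (Fin 4) F) *ᵥ w = ψ x • w}
  zero_mem' := fun x _ => by simp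
  add_mem' {u w} hu hw := fun x hx => by rw [Matrix.mulVec_add, hu x hx, hw x hx, smul_add]
  smul_mem' c w hw := fun x hx => by rw [Matrix.mulVec_smul, hw x hx, smul_comm]

variable {N : Subgroup (GL (Fin 4) F)}

theorem eig_congr {ψ φ : GL (Fin 4) F → F} (h : ∀ x ∈ N, ψ x = φ x) : eig N ψ = eig N φ := by
  refine SetLike.ext fun w => ⟨fun hw x hx => ?_, fun hw x hx => ?_⟩
  · rw [hw x hx, h x hx]
  · rw [hw x hx, h x hx]

theorem eig_disjoint {ψ φ : GL (Fin 4) F → F} (h : eig N ψ ≠ eig N φ) : eig N ψ ⊓ eig N φ = ⊥ := by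
  rw [Submodule.eq_bot_iff]
  rintro w ⟨h1, h2⟩
  by_contra hw
  exact h (eig_congr fun x hx => smul_left_injective F hw ((h1 x hx).symm.trans (h2 x hx)))

theorem eig_comm {ψ : GL (Fin 4) F → F} {A : Matrix (Fin 4) (Fin 4) F} (hA : CommMat N A)
    {w : Fin 4 → F} (hw : w ∈ eig N ψ) : A *ᵥ w ∈ eig N ψ := fun x hx => by
  rw [Matrix.mulVec_mulVec, hA x hx, ← Matrix.mulVec_mulVec, hw x hx, Matrix.mulVec_smul]

theorem eig_translate {H : Subgroup (GL (Fin 4) F)} (hn : NormalIn H N) {h : GL (Fin 4) F}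
    (hh : h ∈ H) (ψ : GL (Fin 4) F → F) :
    translate h (eig N ψ) = eig N (fun x => ψ (h⁻¹ * x * h)) := by
  refine SetLike.ext fun v => ⟨fun hv x hx => ?_, fun hv => mem_translate.2
    ⟨((h⁻¹ : GL (Fin 4) F) : Matrix (Fin 4) (Fin 4) F) *ᵥ v, fun x hx => ?_, mulVec_inv h v⟩⟩
  · obtain ⟨w, hw, rfl⟩ := mem_translate.1 hv
    have hx' : h⁻¹ * x * h ∈ N := by simpa using hn h⁻¹ (H.inv_mem hh) x hx
    rw [← mulVec_mul, show x * h = h * (h⁻¹ * x * h) by group, mulVec_mul, hw _ hx',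
      Matrix.mulVec_smul]
  · have hx' : h * x * h⁻¹ ∈ N := hn h hh x hx
    rw [← mulVec_mul, show x * h⁻¹ = h⁻¹ * (h * x * h⁻¹) by group, mulVec_mul, hv _ hx',
      Matrix.mulVec_smul]
    congr 2
    group

/-- A central idempotent of the commutant is trivial on a complemented eigenspace. -/
theorem eig_idempotent {χ φ : GL (Fin 4) F → F} (htop : eig N χ ⊔ eig N φ = ⊤)
    (hdis : eig N χ ⊓ eig N φ = ⊥) {A : Matrix (Fin 4) (Fin 4) F} (hA : CentralComm N A)
    (hAA : A * A = A) :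
    (∀ v ∈ eig N χ, A *ᵥ v = v) ∨ ∀ v ∈ eig N χ, A *ᵥ v = 0 := by
  by_contra hcon
  push Not at hcon
  obtain ⟨⟨v, hv, hv1⟩, w, hw, hw0⟩ := hcon
  -- `u₀` is killed by `A` and `u₁` is fixed
  obtain ⟨u₀, hu₀, hu₀A, hu₀0⟩ : ∃ u ∈ eig N χ, A *ᵥ u = 0 ∧ u ≠ 0 :=
    ⟨v - A *ᵥ v, Submodule.sub_mem _ hv (eig_comm hA.1 hv),
      by rw [Matrix.mulVec_sub, Matrix.mulVec_mulVec, hAA, sub_self], sub_ne_zero.2 (Ne.symm hv1)⟩
  obtain ⟨u₁, hu₁, hu₁A, hu₁0⟩ : ∃ u ∈ eig N χ, A *ᵥ u = u ∧ u ≠ 0 :=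
    ⟨A *ᵥ w, eig_comm hA.1 hw, by rw [Matrix.mulVec_mulVec, hAA], hw0⟩
  let p : (Fin 4 → F) →ₗ[F] eig N χ :=
    Submodule.projectionOnto _ _ ⟨disjoint_iff.2 hdis, codisjoint_iff.2 htop⟩
  obtain ⟨l, hl, -⟩ := Submodule.exists_dual_map_eq_bot_of_notMem
    (show (⟨u₀, hu₀⟩ : eig N χ) ∉ (⊥ : Submodule F (eig N χ)) by
      rw [Submodule.mem_bot]; exact fun h => hu₀0 (congrArg Subtype.val h)) inferInstance
  let B : (Fin 4 → F) →ₗ[F] (Fin 4 → F) := ((l.comp p).smulRight u₁)
  have hB : CommMat N (LinearMap.toMatrix' B) := by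
    intro x hx
    refine Matrix.toLin'.injective (LinearMap.ext fun u => ?_)
    simp only [Matrix.toLin'_apply, ← Matrix.mulVec_mulVec, LinearMap.toMatrix'_mulVec]
    have hu : u ∈ eig N χ ⊔ eig N φ := htop ▸ Submodule.mem_top
    obtain ⟨e, he, g, hg, rfl⟩ := Submodule.mem_sup.1 hu
    simp only [Matrix.mulVec_add, he x hx, hg x hx, map_add, map_smul, Matrix.mulVec_smul]
    rw [show B g = 0 by simp [B, p, Submodule.projectionOnto_apply_right _ ⟨g, hg⟩],
      show B e = l (p e) • u₁ from rfl, Matrix.mulVec_zero, smul_zero, Matrix.mulVec_smul, hu₁ x hx,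
      smul_comm]
  have h1 := congrArg (· *ᵥ u₀) (hA.2 _ hB)
  simp only [← Matrix.mulVec_mulVec, LinearMap.toMatrix'_mulVec, hu₀A, map_zero] at h1
  rw [show B u₀ = l ⟨u₀, hu₀⟩ • u₁ by
    simp [B, p, Submodule.projectionOnto_apply_left _ ⟨u₀, hu₀⟩],
    Matrix.mulVec_smul, hu₁A] at h1
  exact smul_ne_zero hl hu₁0 h1

/-- Two distinct eigenspaces of dimension two give a decomposition permuted by `H`. -/
theorem planes_of_eig {H : Subgroup (GL (Fin 4) F)} (hn : NormalIn H N) {χ φ : GL (Fin 4) F → F}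
    (hne : eig N χ ≠ eig N φ) (hd1 : Module.finrank F (eig N χ) = 2)
    (hd2 : Module.finrank F (eig N φ) = 2) : PlanesCase H N ∧ Abelian N := by
  classical
  have htop : eig N χ ⊔ eig N φ = ⊤ := by
    refine Submodule.eq_top_of_finrank_eq ?_
    have := Submodule.finrank_sup_add_finrank_inf_eq (eig N χ) (eig N φ)
    rw [eig_disjoint hne, finrank_bot, hd1, hd2] at this
    rw [Module.finrank_fintype_fun_eq_card, Fintype.card_fin]
    omega
  -- any two-dimensional eigenspace is one of the two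
  have honly : ∀ ψ : GL (Fin 4) F → F, eig N ψ ≠ ⊥ → eig N ψ = eig N χ ∨ eig N ψ = eig N φ := by
    intro ψ hψ
    obtain ⟨u, hu, hu0⟩ := (Submodule.ne_bot_iff _).1 hψ
    have : u ∈ eig N χ ⊔ eig N φ := htop ▸ Submodule.mem_top
    obtain ⟨e, he, f, hf, rfl⟩ := Submodule.mem_sup.1 this
    by_contra hcon
    push Not at hcon
    have key : ∀ x ∈ N, (ψ x - χ x) • e = 0 ∧ (ψ x - φ x) • f = 0 := by
      intro x hx
      have h1 := hu x hx
      rw [Matrix.mulVec_add, he x hx, hf x hx, smul_add] at h1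
      have h2 : (ψ x - χ x) • e = (φ x - ψ x) • f := by
        rw [sub_smul, sub_smul, sub_eq_sub_iff_add_eq_add, ← h1, add_comm]
      have h3 : (ψ x - χ x) • e ∈ eig N χ ⊓ eig N φ :=
        ⟨Submodule.smul_mem _ _ he, h2 ▸ Submodule.smul_mem _ _ hf⟩
      rw [eig_disjoint hne, Submodule.mem_bot] at h3
      refine ⟨h3, ?_⟩
      rw [← neg_sub, neg_smul, ← h2, h3, neg_zero]
    by_cases he0 : e = 0
    · refine hcon.2 (eig_congr fun x hx => ?_)
      have hf0 : f ≠ 0 := fun h => hu0 (by rw [he0, h, add_zero])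
      exact sub_eq_zero.1 ((smul_eq_zero.1 (key x hx).2).resolve_right hf0)
    · exact hcon.1 (eig_congr fun x hx => sub_eq_zero.1 ((smul_eq_zero.1 (key x hx).1).resolve_right he0))
  refine ⟨⟨![eig N χ, eig N φ], ⟨le_rfl, two_pos, ?_, ?_, ?_⟩, ?_, ?_, ?_, ?_⟩, ?_⟩
  · intro i; fin_cases i <;> simpa
  · rw [iSupIndep_pair (show (0 : Fin 2) ≠ 1 by decide) (fun i => by fin_cases i <;> simp)]
    simpa [disjoint_iff] using eig_disjoint hne
  · refine eq_top_iff.2 (htop ▸ sup_le ?_ ?_)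
    · exact le_iSup ![eig N χ, eig N φ] 0
    · exact le_iSup ![eig N χ, eig N φ] 1
  · intro h hh
    have himg : ∀ i : Fin 2, ∃ j, translate h (![eig N χ, eig N φ] i) = ![eig N χ, eig N φ] j := by
      intro i
      have hd : Module.finrank F (translate h (![eig N χ, eig N φ] i)) = 2 := by
        rw [finrank_translate]; fin_cases i <;> simpa
      have hne0 : translate h (![eig N χ, eig N φ] i) ≠ ⊥ := fun h0 => by
        rw [h0, finrank_bot] at hd; omega
      obtain ⟨ψ, hψ⟩ : ∃ ψ, translate h (![eig N χ, eig N φ] i) = eig N ψ := by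
        fin_cases i <;> exact ⟨_, eig_translate hn hh _⟩
      rw [hψ] at hne0 ⊢
      rcases honly ψ hne0 with h1 | h1
      · exact ⟨0, h1⟩
      · exact ⟨1, h1⟩
    choose j hj using himg
    have hinj : Function.Injective j := by
      intro a b hab
      have h1 : translate h (![eig N χ, eig N φ] a) = translate h (![eig N χ, eig N φ] b) := by
        rw [hj, hj, hab]
      have h2 := Submodule.map_injective_of_injective (f := Matrix.toLin' (h : Matrix (Fin 4) (Fin 4) F))
        (fun u v huv => mulVec_injective h (by simpa using huv)) h1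
      fin_cases a <;> fin_cases b <;>
        first
          | rfl
          | exact absurd h2 (by simpa using hne)
          | exact absurd h2.symm (by simpa using hne)
    exact ⟨Equiv.ofBijective j (Finite.injective_iff_bijective.1 hinj), hj⟩
  · intro A hA i v hv
    fin_cases i <;> exact eig_comm hA hv
  · intro x hx i v hv
    obtain ⟨c, hc⟩ : ∃ c : F, (x : Matrix (Fin 4) (Fin 4) F) *ᵥ v = c • v := by
      fin_cases i <;> exact ⟨_, hv x hx⟩
    rw [hc]
    exact Submodule.smul_mem _ c hv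
  · intro A hA hAA i
    fin_cases i
    · exact eig_idempotent htop (eig_disjoint hne) hA hAA
    · exact eig_idempotent ((sup_comm _ _).trans htop) (eig_disjoint hne.symm) hA hAA
  · intro x hx y hy
    refine Units.ext (Matrix.toLin'.injective (LinearMap.ext fun v => ?_))
    have : v ∈ eig N χ ⊔ eig N φ := htop ▸ Submodule.mem_top
    obtain ⟨e, he, f, hf, rfl⟩ := Submodule.mem_sup.1 this
    simp only [Matrix.toLin'_apply, mulVec_mul, Matrix.mulVec_add, he x hx, he y hy, hf x hx, hf y hy,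
      Matrix.mulVec_smul, smul_smul, mul_comm]

/-- One-dimensional eigenspaces give four lines permuted by `H`. -/
theorem lines_of_eig {H : Subgroup (GL (Fin 4) F)} (hirr : Irr H) (hn : NormalIn H N)
    {χ : GL (Fin 4) F → F} {v : Fin 4 → F} (hv : v ≠ 0) (hve : v ∈ eig N χ)
    (hd : Module.finrank F (eig N χ) = 1) : LinesCase H N ∧ Abelian N := by
  classical
  let S : Set (Fin 4 → F) := (fun h : GL (Fin 4) F => (h : Matrix (Fin 4) (Fin 4) F) *ᵥ v) '' H
  have hspan : Submodule.span F S = ⊤ := by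
    refine (irr_iff.1 hirr _ ?_).resolve_left ?_
    · intro g hg w hw
      induction hw using Submodule.span_induction with
      | mem x hx =>
        obtain ⟨h, hh, rfl⟩ := hx
        exact Submodule.subset_span ⟨g * h, H.mul_mem hg hh, mulVec_mul g h v⟩
      | zero => rw [Matrix.mulVec_zero]; exact Submodule.zero_mem _
      | add x y _ _ ihx ihy => rw [Matrix.mulVec_add]; exact Submodule.add_mem _ ihx ihy
      | smul c x _ ih => rw [Matrix.mulVec_smul]; exact Submodule.smul_mem _ c ih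
    · intro h0
      have : v ∈ Submodule.span F S := Submodule.subset_span ⟨1, H.one_mem, by simp⟩
      exact hv ((Submodule.mem_bot F).1 (h0 ▸ this))
  obtain ⟨t, htS, hts, hli⟩ := exists_linearIndependent F S
  let bt : Module.Basis t F (Fin 4 → F) :=
    Module.Basis.mk hli (by rw [Subtype.range_coe_subtype, Set.ofPred_mem_eq, hts, hspan])
  haveI : Fintype t := FiniteDimensional.fintypeBasisIndex bt
  let b : Module.Basis (Fin 4) F (Fin 4 → F) := bt.reindex (bt.indexEquiv (Pi.basisFun F (Fin 4)))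
  have hbS : ∀ i, b i ∈ S := fun i => by
    rw [Module.Basis.reindex_apply, Module.Basis.mk_apply]
    exact htS ((bt.indexEquiv (Pi.basisFun F (Fin 4))).symm i).2
  choose g hg hgb using hbS
  simp only at hgb
  let χ' : Fin 4 → GL (Fin 4) F → F := fun i x => χ ((g i)⁻¹ * x * g i)
  have hline : ∀ (h : GL (Fin 4) F), h ∈ H →
      Module.finrank F (eig N fun x => χ (h⁻¹ * x * h)) = 1 ∧
        (h : Matrix (Fin 4) (Fin 4) F) *ᵥ v ∈ eig N fun x => χ (h⁻¹ * x * h) := by
    intro h hh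
    rw [← eig_translate hn hh χ, finrank_translate]
    exact ⟨hd, mem_translate.2 ⟨v, hve, rfl⟩⟩
  have hbe : ∀ i, b i ∈ eig N (χ' i) := fun i => hgb i ▸ (hline _ (hg i)).2
  have hone : ∀ i, ∀ w ∈ eig N (χ' i), ∃ c : F, w = c • b i := by
    intro i w hw
    obtain ⟨c, hc⟩ := (finrank_eq_one_iff_of_nonzero' (⟨b i, hbe i⟩ : eig N (χ' i))
      (fun h => b.ne_zero i (congrArg Subtype.val h))).1 (hline _ (hg i)).1 ⟨w, hw⟩
    exact ⟨c, (congrArg Subtype.val hc).symm⟩
  have hdiag : ∀ x ∈ N, ∀ i, (x : Matrix (Fin 4) (Fin 4) F) *ᵥ b i = χ' i x • b i :=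
    fun x hx i => hbe i x hx
  have hcoef : ∀ ψ : GL (Fin 4) F → F, ∀ w ∈ eig N ψ, ∀ j, b.repr w j ≠ 0 →
      ∀ x ∈ N, χ' j x = ψ x := by
    intro ψ w hw j hj x hx
    have h1 : b.repr ((x : Matrix (Fin 4) (Fin 4) F) *ᵥ w) j = χ' j x * b.repr w j := by
      conv_lhs => rw [← b.sum_repr w, Matrix.mulVec_sum]
      simp only [Matrix.mulVec_smul, hdiag x hx, smul_smul]
      rw [map_sum, Finsupp.finsetSum_apply, Finset.sum_eq_single j]
      · simp [mul_comm]
      · intro k _ hk; simp [Finsupp.single_apply, hk]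
      · simp
    rw [hw x hx, map_smul] at h1
    simp only [Finsupp.smul_apply, smul_eq_mul] at h1
    exact (mul_right_cancel₀ hj h1).symm
  refine ⟨⟨b, fun x hx i => ⟨_, hdiag x hx i⟩, fun h hh => ?_, fun A hA i =>
    hone i _ (eig_comm hA (hbe i))⟩, ?_⟩
  · have key : ∀ i, ∃ (j : Fin 4) (c : F), (h : Matrix (Fin 4) (Fin 4) F) *ᵥ b i = c • b j := by
      intro i
      have hw : (h : Matrix (Fin 4) (Fin 4) F) *ᵥ b i ∈
          eig N (fun x => χ' i (h⁻¹ * x * h)) := by
        rw [← eig_translate hn hh]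
        exact mem_translate.2 ⟨_, hbe i, rfl⟩
      obtain ⟨j, hj⟩ : ∃ j, b.repr ((h : Matrix (Fin 4) (Fin 4) F) *ᵥ b i) j ≠ 0 := by
        by_contra hc
        push Not at hc
        exact b.ne_zero i ((mulVec_eq_zero_iff h).1
          (by rw [← b.sum_repr ((h : Matrix (Fin 4) (Fin 4) F) *ᵥ b i)]; simp [hc]))
      exact ⟨j, hone j _ (eig_congr (hcoef _ _ hw j hj) ▸ hw)⟩
    choose j c hjc using key
    have hinj : Function.Injective j := by
      intro i k hik
      have hci : c i ≠ 0 := frame_coeff_ne_zero b (hjc i)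
      have : (h : Matrix (Fin 4) (Fin 4) F) *ᵥ (b k - (c k * (c i)⁻¹) • b i) = 0 := by
        rw [Matrix.mulVec_sub, Matrix.mulVec_smul, hjc, hjc, hik, smul_smul, mul_assoc,
          inv_mul_cancel₀ hci, mul_one, sub_self]
      rw [mulVec_eq_zero_iff, sub_eq_zero] at this
      by_contra hne
      have h2 := congrArg (fun w => b.repr w k) this
      simp [Finsupp.single_apply, hne] at h2
    exact ⟨Equiv.ofBijective j (Finite.injective_iff_bijective.1 hinj), fun i => ⟨c i, hjc i⟩⟩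
  · intro x hx y hy
    refine Units.ext (Matrix.toLin'.injective (b.ext fun i => ?_))
    simp only [Matrix.toLin'_apply, mulVec_mul, hdiag x hx, hdiag y hy, Matrix.mulVec_smul, smul_smul,
      mul_comm]

/-- A normal subgroup with a common eigenvector: scalar, four lines or two planes. -/
theorem eigen_cases {H : Subgroup (GL (Fin 4) F)} (hirr : Irr H) (hn : NormalIn H N)
    {v : Fin 4 → F} (hv : v ≠ 0)
    (hev : ∀ x ∈ N, ∃ c : F, (x : Matrix (Fin 4) (Fin 4) F) *ᵥ v = c • v) :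
    Abelian N ∧ (N ≤ Geo.scalars (Fin 4) F ∨ LinesCase H N ∨ PlanesCase H N) := by
  classical
  choose! χ hχ using hev
  have hve : v ∈ eig N χ := hχ
  have hpos : 0 < Module.finrank F (eig N χ) :=
    Module.finrank_pos_iff_exists_ne_zero.2 ⟨⟨v, hve⟩, fun h => hv (congrArg Subtype.val h)⟩
  by_cases htop : eig N χ = ⊤
  · have hle : N ≤ Geo.scalars (Fin 4) F := fun x hx =>
      mem_scalars_of_smul_one (c := χ x) (Matrix.ext_of_mulVec_single fun i => by
        have hmem : Pi.single i (1 : F) ∈ eig N χ := by rw [htop]; trivial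
        rw [hmem x hx, Matrix.smul_mulVec, Matrix.one_mulVec])
    exact ⟨abelian_of_le_scalars hle, Or.inl hle⟩
  obtain ⟨h, hh, hne⟩ : ∃ h ∈ H, translate h (eig N χ) ≠ eig N χ := by
    by_contra hc
    push Not at hc
    rcases irr_iff.1 hirr (eig N χ) (fun h hh w hw => hc h hh ▸ mem_translate.2 ⟨w, hw, rfl⟩)
      with h0 | h0
    · exact hv ((Submodule.mem_bot F).1 (h0 ▸ hve))
    · exact htop h0
  rw [eig_translate hn hh] at hne
  have hd' : Module.finrank F (eig N fun x => χ (h⁻¹ * x * h)) = Module.finrank F (eig N χ) := by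
    rw [← eig_translate hn hh, finrank_translate]
  have hle : 2 * Module.finrank F (eig N χ) ≤ 4 := by
    have := Submodule.finrank_sup_add_finrank_inf_eq (eig N χ) (eig N fun x => χ (h⁻¹ * x * h))
    rw [eig_disjoint hne.symm, finrank_bot, hd'] at this
    have h4 := Submodule.finrank_le (eig N χ ⊔ eig N fun x => χ (h⁻¹ * x * h))
    rw [Module.finrank_fintype_fun_eq_card, Fintype.card_fin] at h4
    omega
  obtain h1 | h1 : Module.finrank F (eig N χ) = 1 ∨ Module.finrank F (eig N χ) = 2 := by omega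
  · obtain ⟨hl, ha⟩ := lines_of_eig hirr hn hv hve h1
    exact ⟨ha, Or.inr (Or.inl hl)⟩
  · obtain ⟨hp, ha⟩ := planes_of_eig hn hne.symm h1 (hd'.trans h1)
    exact ⟨ha, Or.inr (Or.inr hp)⟩

end Cfsg.Agent.AschbacherFour
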