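import Cfsg.Agent.Lib.AschbacherFour.SignGroup
import Cfsg.Agent.Lib.AschbacherFour.Eigen

/-!
Monomial and plane-permuting groups over small fields; `SL₄` does not stabilise two planes.
-/

set_option autoImplicit false

namespace Cfsg.Agent.AschbacherFour

open Matrix Aschbacher
open scoped MatrixGroups

variable {F : Type*} [Field F]

/-- `SL₄` moves some member of a decomposition into two planes. -/
theorem not_le_decompositionStabilizer_planes {D : Fin 2 → Submodule F (Fin 4 → F)}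
    (hD : Geo.IsMDecomposition 2 D) :
    ¬ Geo.specialLinear (Fin 4) F ≤ Geo.decompositionStabilizer D := by
  intro hle
  have hdis : Disjoint (D 0) (D 1) := hD.indep.pairwiseDisjoint (show (0 : Fin 2) ≠ 1 by decide)
  rw [disjoint_iff] at hdis
  have hne : ∀ i, D i ≠ ⊥ := fun i h => by
    have := hD.finrank_eq i
    rw [h, finrank_bot] at this
    omega
  obtain ⟨z, hz, hz0⟩ := (Submodule.ne_bot_iff _).1 (hne 1)
  obtain ⟨w, hw, hw0⟩ := (Submodule.ne_bot_iff _).1 (hne 0)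
  have hwD : w ∉ D 1 := fun h => hw0 ((Submodule.mem_bot F).1 (hdis ▸ ⟨hw, h⟩))
  obtain ⟨g, φ, hg, hgu, -, hφ⟩ := exists_transvection hz hwD
  obtain ⟨σ, hσ⟩ := hle hg
  have h1 : (g : Matrix (Fin 4) (Fin 4) F) *ᵥ w ∈ D (σ 0) := by
    rw [← hσ 0]; exact ⟨w, hw, Matrix.toLin'_apply _ _⟩
  rw [hgu, hφ, one_smul] at h1
  obtain h | h : σ 0 = 0 ∨ σ 0 = 1 := by revert h1; generalize σ 0 = k; intro _; fin_cases k <;> simp
  · rw [h] at h1
    have hz' : z ∈ D 0 := by simpa using Submodule.sub_mem _ h1 hw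
    exact hz0 ((Submodule.mem_bot F).1 (hdis ▸ ⟨hz', hz⟩))
  · rw [h] at h1
    exact hwD (by simpa using Submodule.sub_mem _ h1 hz)

/-- A monomial group over the field with two elements is reducible. -/
theorem not_irr_monomial_two [Fintype F] (hq : Fintype.card F = 2)
    (b : Module.Basis (Fin 4) F (Fin 4 → F)) {H : Subgroup (GL (Fin 4) F)}
    (hH : ∀ h ∈ H, ∃ σ : Equiv.Perm (Fin 4), ∀ i, ∃ c : F,
      (h : Matrix (Fin 4) (Fin 4) F) *ᵥ b i = c • b (σ i)) : ¬ Irr H := by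
  intro hirr
  set v := ∑ i, b i with hv
  have hv0 : v ≠ 0 := fun h => by
    have := congrArg (fun u => b.repr u 0) h
    simp [hv, Finsupp.single_apply] at this
  rcases irr_iff.1 hirr (Submodule.span F {v}) (fun h hh w hw => by
    obtain ⟨a, rfl⟩ := Submodule.mem_span_singleton.1 hw
    obtain ⟨σ, hσ⟩ := hH h hh
    choose c hc using hσ
    have hc1 : ∀ i, c i = 1 := fun i => by
      have := FiniteField.pow_card_sub_one_eq_one (c i) (frame_coeff_ne_zero b (hc i))
      rwa [hq, pow_one] at this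
    rw [Matrix.mulVec_smul, hv, Matrix.mulVec_sum]
    simp only [hc, hc1, one_smul]
    rw [Equiv.sum_comp σ b]
    exact Submodule.smul_mem _ a (Submodule.mem_span_singleton_self _)) with h | h
  · exact hv0 (by simpa using h)
  · have := finrank_span_singleton (K := F) hv0
    rw [h, finrank_top, Module.finrank_fintype_fun_eq_card, Fintype.card_fin] at this
    omega

/-- The determinant form on two planes. -/
noncomputable def planesForm (b : Module.Basis (Fin 4) F (Fin 4 → F)) (u v : Fin 4 → F) : F :=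
  b.repr u 0 * b.repr v 1 - b.repr u 1 * b.repr v 0 + (b.repr u 2 * b.repr v 3 - b.repr u 3 * b.repr v 2)

theorem planesForm_isSymplectic (b : Module.Basis (Fin 4) F (Fin 4 → F)) :
    Geo.IsSymplecticForm (planesForm b) := by
  refine ⟨⟨fun x y v => ?_, fun c x v => ?_, fun v x y => ?_, fun c v x => ?_⟩,
    fun v w => ?_, fun v => ?_, fun v hv => ?_⟩ <;> try (simp [planesForm]; ring1)
  obtain ⟨k, hk⟩ : ∃ k, b.repr v k ≠ 0 := by
    by_contra h
    push Not at h
    exact hv (b.repr.map_eq_zero_iff.1 (Finsupp.ext h))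
  constructor
  · fin_cases k
    · exact ⟨b 1, by simpa [planesForm] using hk⟩
    · exact ⟨b 0, by simpa [planesForm] using hk⟩
    · exact ⟨b 3, by simpa [planesForm] using hk⟩
    · exact ⟨b 2, by simpa [planesForm] using hk⟩
  · fin_cases k
    · exact ⟨b 1, by simpa [planesForm] using hk⟩
    · exact ⟨b 0, by simpa [planesForm] using hk⟩
    · exact ⟨b 3, by simpa [planesForm] using hk⟩
    · exact ⟨b 2, by simpa [planesForm] using hk⟩

/-- Over a field with at most three elements a group permuting two planes preserves a symplectic form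
up to scalars. -/
theorem planes_small [Fintype F] (hq : Fintype.card F ≤ 3) {D : Fin 2 → Submodule F (Fin 4 → F)}
    (hD : Geo.IsMDecomposition 2 D) {H : Subgroup (GL (Fin 4) F)}
    (hSL : H ≤ Geo.specialLinear (Fin 4) F) (hH : H ≤ Geo.decompositionStabilizer D) :
    ∃ f, Geo.IsSymplecticForm f ∧ H ≤ Geo.similarityGroup f := by
  classical
  let e : ∀ i, Fin 2 → (Fin 4 → F) := fun i k =>
    ((Module.finBasisOfFinrankEq F (D i) (hD.finrank_eq i)) k : Fin 4 → F)
  let u : Fin 4 → (Fin 4 → F) := ![e 0 0, e 0 1, e 1 0, e 1 1]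
  have hspan : ∀ i, D i = Submodule.span F (Set.range (e i)) := fun i => by
    have := congrArg (Submodule.map (D i).subtype)
      (Module.finBasisOfFinrankEq F (D i) (hD.finrank_eq i)).span_eq
    rw [Submodule.map_span, Submodule.map_top, Submodule.range_subtype, ← Set.range_comp] at this
    exact this.symm
  have hsup : D 0 ⊔ D 1 = ⊤ := by
    rw [← hD.iSup_eq_top]
    refine le_antisymm (sup_le (le_iSup D 0) (le_iSup D 1)) (iSup_le fun i => ?_)
    fin_cases i
    · exact le_sup_left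
    · exact le_sup_right
  have hu : ⊤ ≤ Submodule.span F (Set.range u) := by
    rw [← hsup, hspan, hspan]
    refine sup_le (Submodule.span_mono ?_) (Submodule.span_mono ?_)
    · rintro _ ⟨k, rfl⟩; fin_cases k; exacts [⟨0, rfl⟩, ⟨1, rfl⟩]
    · rintro _ ⟨k, rfl⟩; fin_cases k; exacts [⟨2, rfl⟩, ⟨3, rfl⟩]
  let b : Module.Basis (Fin 4) F (Fin 4 → F) :=
    basisOfTopLeSpanOfCardEqFinrank u hu (by simp)
  have hb : ⇑b = u := coe_basisOfTopLeSpanOfCardEqFinrank u hu _
  -- coordinates of members of the planes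
  have hb01 : b 0 = e 0 0 ∧ b 1 = e 0 1 ∧ b 2 = e 1 0 ∧ b 3 = e 1 1 := by
    rw [hb]; exact ⟨rfl, rfl, rfl, rfl⟩
  have h0 : ∀ v ∈ D 0, b.repr v 2 = 0 ∧ b.repr v 3 = 0 := by
    intro v hv
    rw [hspan] at hv
    obtain ⟨c, rfl⟩ := (Submodule.mem_span_range_iff_exists_fun F).1 hv
    rw [Fin.sum_univ_two, ← hb01.1, ← hb01.2.1]
    simp
  have h1 : ∀ v ∈ D 1, b.repr v 0 = 0 ∧ b.repr v 1 = 0 := by
    intro v hv
    rw [hspan] at hv
    obtain ⟨c, rfl⟩ := (Submodule.mem_span_range_iff_exists_fun F).1 hv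
    rw [Fin.sum_univ_two, ← hb01.2.2.1, ← hb01.2.2.2]
    simp
  have hmemb : b 0 ∈ D 0 ∧ b 1 ∈ D 0 ∧ b 2 ∈ D 1 ∧ b 3 ∈ D 1 := by
    rw [hb01.1, hb01.2.1, hb01.2.2.1, hb01.2.2.2]
    exact ⟨Subtype.prop _, Subtype.prop _, Subtype.prop _, Subtype.prop _⟩
  refine ⟨planesForm b, planesForm_isSymplectic b, fun h hh => ?_⟩
  obtain ⟨σ, hσ⟩ := hH hh
  set M := LinearMap.toMatrix b b (Matrix.toLin' (h : Matrix (Fin 4) (Fin 4) F))
  have hdet : M.det = 1 := by
    rw [LinearMap.det_toMatrix, LinearMap.det_toLin', det_eq_one (hSL hh)]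
  have hM : ∀ i j, M i j = b.repr ((h : Matrix (Fin 4) (Fin 4) F) *ᵥ b j) i := fun i j => by
    simp [M, LinearMap.toMatrix_apply]
  have himg : ∀ i : Fin 2, ∀ v ∈ D i, (h : Matrix (Fin 4) (Fin 4) F) *ᵥ v ∈ D (σ i) := fun i v hv => by
    rw [← hσ i]; exact ⟨v, hv, Matrix.toLin'_apply _ _⟩
  have hcoord : ∀ v i, b.repr ((h : Matrix (Fin 4) (Fin 4) F) *ᵥ v) i = ∑ j, M i j * b.repr v j := by
    intro v i
    conv_lhs => rw [← b.sum_repr v]
    simp only [Matrix.mulVec_sum, Matrix.mulVec_smul, map_sum, map_smul, Finsupp.finsetSum_apply,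
      Finsupp.smul_apply, smul_eq_mul, hM, mul_comm]
  have hunit : ∀ x : F, x ≠ 0 → x = 1 ∨ x = -1 := by
    intro x hx
    have h1 := FiniteField.pow_card_sub_one_eq_one x hx
    have h2 : 2 ≤ Fintype.card F := Fintype.one_lt_card
    interval_cases hc : Fintype.card F
    · exact Or.inl (by simpa using h1)
    · exact sq_eq_one_iff.1 h1
  obtain ⟨s0, s1⟩ | s0 :=
    (show ∀ s : Equiv.Perm (Fin 2), (s 0 = 0 ∧ s 1 = 1) ∨ (s 0 = 1 ∧ s 1 = 0) by decide) σ
  · have z0 := h0 _ (s0 ▸ himg 0 _ hmemb.1)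
    have z1 := h0 _ (s0 ▸ himg 0 _ hmemb.2.1)
    have z2 := h1 _ (s1 ▸ himg 1 _ hmemb.2.2.1)
    have z3 := h1 _ (s1 ▸ himg 1 _ hmemb.2.2.2)
    simp only [← hM] at z0 z1 z2 z3
    have hAB : (M 0 0 * M 1 1 - M 0 1 * M 1 0) * (M 2 2 * M 3 3 - M 2 3 * M 3 2) = 1 := by
      rw [← hdet, Matrix.det_succ_row_zero]
      simp [Fin.sum_univ_succ, Matrix.det_fin_three, Fin.succAbove, z0, z1, z2, z3]
      ring
    have hA : M 0 0 * M 1 1 - M 0 1 * M 1 0 ≠ 0 := fun h => by rw [h, zero_mul] at hAB; exact zero_ne_one hAB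
    have hB : M 2 2 * M 3 3 - M 2 3 * M 3 2 = M 0 0 * M 1 1 - M 0 1 * M 1 0 := by
      rcases hunit _ hA with h | h <;> rw [h] at hAB ⊢
      · linear_combination hAB
      · linear_combination -hAB
    refine ⟨Units.mk0 _ hA, fun x y => ?_⟩
    simp only [planesForm, hcoord, Fin.sum_univ_four, z0.1, z0.2, z1.1, z1.2, z2.1, z2.2, z3.1, z3.2,
      Units.val_mk0]
    linear_combination (b.repr x 2 * b.repr y 3 - b.repr x 3 * b.repr y 2) * hB
  · have z0 := h1 _ (s0.1 ▸ himg 0 _ hmemb.1)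
    have z1 := h1 _ (s0.1 ▸ himg 0 _ hmemb.2.1)
    have z2 := h0 _ (s0.2 ▸ himg 1 _ hmemb.2.2.1)
    have z3 := h0 _ (s0.2 ▸ himg 1 _ hmemb.2.2.2)
    simp only [← hM] at z0 z1 z2 z3
    have hAB : (M 2 0 * M 3 1 - M 2 1 * M 3 0) * (M 0 2 * M 1 3 - M 0 3 * M 1 2) = 1 := by
      rw [← hdet, Matrix.det_succ_row_zero]
      simp [Fin.sum_univ_succ, Matrix.det_fin_three, Fin.succAbove, z0, z1, z2, z3]
      ring
    have hA : M 2 0 * M 3 1 - M 2 1 * M 3 0 ≠ 0 := fun h => by rw [h, zero_mul] at hAB; exact zero_ne_one hAB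
    have hB : M 0 2 * M 1 3 - M 0 3 * M 1 2 = M 2 0 * M 3 1 - M 2 1 * M 3 0 := by
      rcases hunit _ hA with h | h <;> rw [h] at hAB ⊢
      · linear_combination hAB
      · linear_combination -hAB
    refine ⟨Units.mk0 _ hA, fun x y => ?_⟩
    simp only [planesForm, hcoord, Fin.sum_univ_four, z0.1, z0.2, z1.1, z1.2, z2.1, z2.2, z3.1, z3.2,
      Units.val_mk0]
    linear_combination (b.repr x 2 * b.repr y 3 - b.repr x 3 * b.repr y 2) * hB

end Cfsg.Agent.AschbacherFour
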