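import Cfsg.Agent.Lib.AschbacherFour.Structure
import Cfsg.Agent.Lib.AschbacherFour.Frames

/-!
Aschbacher's theorem for `SL₄(q)`: a maximal subgroup is of geometric type or lies in the residual class.
-/

set_option autoImplicit false

namespace Cfsg.Agent.AschbacherFour

open Matrix Aschbacher
open scoped MatrixGroups

variable {F : Type*} [Field F] [Fintype F]

/-- The geometric possibilities for a maximal subgroup of `SL₄`. -/
def Geometric (H : Subgroup (GL (Fin 4) F)) : Prop :=
  (∃ W : Submodule F (Fin 4 → F), W ≠ ⊥ ∧ W ≠ ⊤ ∧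
      H = Geo.subspaceStabilizer W ⊓ Geo.specialLinear (Fin 4) F) ∨
  (7 ≤ Fintype.card F ∧ ∃ D : Fin 4 → Submodule F (Fin 4 → F), Geo.IsMDecomposition 1 D ∧
      H = Geo.decompositionStabilizer D ⊓ Geo.specialLinear (Fin 4) F) ∨
  (4 ≤ Fintype.card F ∧ ∃ D : Fin 2 → Submodule F (Fin 4 → F), Geo.IsMDecomposition 2 D ∧
      H = Geo.decompositionStabilizer D ⊓ Geo.specialLinear (Fin 4) F) ∨
  (∃ K : Subalgebra F (Matrix (Fin 4) (Fin 4) F), Geo.IsFieldSubalgebra 2 K ∧
      H = Geo.subalgebraNormalizer K ⊓ Geo.specialLinear (Fin 4) F) ∨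
  (∃ (F₀ : Subfield F) (r : ℕ) (P : GL (Fin 4) F), r.Prime ∧ Fintype.card F = Nat.card F₀ ^ r ∧
      H = Geo.subfieldSubgroup F₀ P ⊓ Geo.specialLinear (Fin 4) F) ∨
  (∃ (p : ℕ) (R : Subgroup (GL (Fin 4) F)), p.Prime ∧ Fintype.card F = p ∧ p % 4 = 1 ∧
      Geo.IsLinearSymplecticTypeData 2 R ∧
      H = Geo.subgroupNormalizer R ⊓ Geo.specialLinear (Fin 4) F) ∨
  (Odd (Fintype.card F) ∧ ∃ Q : (Fin 4 → F) → F, Geo.IsNondegenerateQuadraticForm Q ∧
      H = Geo.quadSimilarityGroup Q ⊓ Geo.specialLinear (Fin 4) F) ∨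
  (∃ f : (Fin 4 → F) → (Fin 4 → F) → F, Geo.IsSymplecticForm f ∧
      H = Geo.similarityGroup f ⊓ Geo.specialLinear (Fin 4) F) ∨
  (∃ (σ : F ≃+* F) (f : (Fin 4 → F) → (Fin 4 → F) → F), Geo.IsUnitaryForm σ f ∧
      H = Geo.similarityGroup f ⊓ Geo.specialLinear (Fin 4) F)

variable {H : Subgroup (GL (Fin 4) F)}

theorem geometric_symplectic (hH : Geo.IsMaximalIn (Geo.specialLinear (Fin 4) F) H)
    {f : (Fin 4 → F) → (Fin 4 → F) → F} (hf : Geo.IsSymplecticForm f)
    (hle : H ≤ Geo.similarityGroup f) : Geometric H :=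
  Or.inr <| Or.inr <| Or.inr <| Or.inr <| Or.inr <| Or.inr <| Or.inr <| Or.inl
    ⟨f, hf, eq_inf_of_maximal hH hle (specialLinear_not_le_similarityGroup (by simp)
      (IsSesq.of_bilinear hf.bilinear) hf.nondegenerate)⟩

theorem geometric_unitary (hH : Geo.IsMaximalIn (Geo.specialLinear (Fin 4) F) H) {σ : F ≃+* F}
    {f : (Fin 4 → F) → (Fin 4 → F) → F} (hf : Geo.IsUnitaryForm σ f)
    (hle : H ≤ Geo.similarityGroup f) : Geometric H :=
  Or.inr <| Or.inr <| Or.inr <| Or.inr <| Or.inr <| Or.inr <| Or.inr <| Or.inr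
    ⟨σ, f, hf, eq_inf_of_maximal hH hle (specialLinear_not_le_similarityGroup (by simp)
      (IsSesq.of_unitary hf) hf.nondegenerate)⟩

/-- Similitudes of the polar form of a quadratic form give the quadratic or the symplectic class. -/
theorem geometric_polar (hH : Geo.IsMaximalIn (Geo.specialLinear (Fin 4) F) H) {Q : (Fin 4 → F) → F}
    (hQ : Geo.IsNondegenerateQuadraticForm Q)
    (hle : H ≤ Geo.similarityGroup (QuadraticMap.polar Q)) : Geometric H := by
  rcases Nat.even_or_odd (Fintype.card F) with heven | hodd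
  · have h2 : (2 : F) = 0 := by
      obtain ⟨p, hp⟩ := CharP.exists F
      haveI := hp
      obtain ⟨e, hpp, hc⟩ := FiniteField.card F p
      have hdvd : 2 ∣ p ^ (e : ℕ) := hc ▸ even_iff_two_dvd.1 heven
      obtain rfl : 2 = p := (Nat.prime_dvd_prime_iff_eq Nat.prime_two hpp).1
        (Nat.prime_two.dvd_of_dvd_pow hdvd)
      exact_mod_cast CharP.cast_eq_zero F 2
    refine geometric_symplectic hH (f := QuadraticMap.polar Q) ⟨hQ.polar_bilinear, fun v w => ?_,
      fun v => by rw [polar_self hQ, h2, zero_mul], hQ.nondegenerate⟩ hle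
    rw [QuadraticMap.polar_comm]
    linear_combination (QuadraticMap.polar Q w v) * h2
  · refine Or.inr <| Or.inr <| Or.inr <| Or.inr <| Or.inr <| Or.inr <| Or.inl ⟨hodd, Q, hQ,
      eq_inf_of_maximal hH ?_ fun h => specialLinear_not_le_similarityGroup (by simp)
        (IsSesq.of_bilinear hQ.polar_bilinear) hQ.nondegenerate
        (h.trans quadSimilarity_le_similarity)⟩
    intro h hh
    obtain ⟨c, hc⟩ := hle hh
    refine ⟨c, fun v => mul_left_cancel₀ (two_ne_zero_of_odd hodd) ?_⟩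
    rw [← polar_self hQ, hc, polar_self hQ]
    ring

theorem geometric_subfield (hH : Geo.IsMaximalIn (Geo.specialLinear (Fin 4) F) H)
    {P : Subgroup (GL (Fin 4) F)} (hPa : AbsIrr P) (hPn : NormalIn H P) {F₁ : Subfield F}
    (hF₁ : F₁ ≠ ⊤) (hr : Geo.RealisableOver F₁ (Geo.matrixSet P)) : Geometric H := by
  obtain ⟨B, hB⟩ := hr
  obtain ⟨F₀, r, hle, hr, hcard'⟩ := exists_prime_index hF₁
  have hF₀ : F₀ ≠ ⊤ := by
    rintro rfl
    rw [show Nat.card (⊤ : Subfield F) = Fintype.card F by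
      rw [← Nat.card_eq_fintype_card]; exact Nat.card_congr (Equiv.subtypeUnivEquiv fun _ => trivial)]
      at hcard'
    have := Nat.pow_lt_pow_right (Fintype.one_lt_card (α := F)) hr.one_lt
    rw [pow_one] at this
    omega
  exact Or.inr <| Or.inr <| Or.inr <| Or.inr <| Or.inl ⟨F₀, r, B⁻¹, hr, hcard', eq_inf_of_maximal hH
    (hPa.le_subfieldSubgroup (fun s hs i j => hle (hB s hs i j)) hPn)
    (specialLinear_not_le_subfieldSubgroup (by simp) hF₀ _)⟩

theorem geometric_symType {p : ℕ} (hp : p.Prime) (hcard : Fintype.card F = p) (hp4 : p % 4 = 1)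
    (hH : Geo.IsMaximalIn (Geo.specialLinear (Fin 4) F) H) {R : Subgroup (GL (Fin 4) F)}
    (hR : SymType R) (hle : H ≤ Geo.subgroupNormalizer R) {i : F} (hi : i ^ 2 = -1)
    {z : GL (Fin 4) F} (hz : z ∈ R) (hzi : (z : Matrix (Fin 4) (Fin 4) F) = i • 1) : Geometric H :=
  Or.inr <| Or.inr <| Or.inr <| Or.inr <| Or.inr <| Or.inl ⟨p, R, hp, hcard, hp4,
    hR.linearSymplecticData hR.absIrr hp hcard hp4 hi hz hzi,
    eq_inf_of_maximal hH hle hR.not_normalized⟩

theorem geometric_lines (hH : Geo.IsMaximalIn (Geo.specialLinear (Fin 4) F) H) (hirr : Irr H)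
    {N : Subgroup (GL (Fin 4) F)} (hl : LinesCase H N) : Geometric H := by
  obtain ⟨b, -, hperm, -⟩ := hl
  by_cases h7 : 7 ≤ Fintype.card F
  · exact Or.inr (Or.inl ⟨h7, lines b, lines_isMDecomposition (by norm_num) b,
      eq_inf_of_maximal hH (fun g hg => mem_decompositionStabilizer_lines b (hperm g hg))
        (not_le_decompositionStabilizer_lines (by norm_num) b)⟩)
  obtain ⟨p, hpC⟩ := CharP.exists F
  haveI := hpC
  obtain ⟨e, hpp, hcard⟩ := FiniteField.card F p
  haveI : Fact p.Prime := ⟨hpp⟩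
  have h2 : 2 ≤ Fintype.card F := Fintype.one_lt_card
  obtain hq | hq | hq | hq : Fintype.card F = 2 ∨ Fintype.card F = 3 ∨ Fintype.card F = 4 ∨
      Fintype.card F = 5 := by
    by_contra hne
    have h6 : Fintype.card F = 6 := by omega
    rw [h6] at hcard
    have h23 : 2 ∣ p ^ (e : ℕ) ∧ 3 ∣ p ^ (e : ℕ) := ⟨hcard ▸ by norm_num, hcard ▸ by norm_num⟩
    have := (Nat.prime_dvd_prime_iff_eq Nat.prime_two hpp).1 (Nat.prime_two.dvd_of_dvd_pow h23.1)
    have := (Nat.prime_dvd_prime_iff_eq Nat.prime_three hpp).1 (Nat.prime_three.dvd_of_dvd_pow h23.2)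
    omega
  · exact absurd hirr (not_irr_monomial_two hq b hperm)
  · have hQ := basisQuad_spec b (two_ne_zero_of_odd (by rw [hq]; decide))
    refine geometric_polar hH hQ (le_trans (fun g hg => ?_) quadSimilarity_le_similarity)
    obtain ⟨π, hπ⟩ := hperm g hg
    choose c hc using hπ
    refine ⟨1, fun v => ?_⟩
    rw [Units.val_one, one_mul]
    exact basisForm_preserved b _ hc (fun i => by
      have h1 := FiniteField.pow_card_sub_one_eq_one (c i) (frame_coeff_ne_zero b (hc i))
      rw [hq] at h1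
      simpa [pow_two] using h1) v v
  · have hp2 : p = 2 := by
      have hdvd : p ∣ 2 ^ 2 := by
        rw [show (2 : ℕ) ^ 2 = 4 from rfl, ← hq, hcard]
        exact dvd_pow_self _ e.pos.ne'
      exact (Nat.prime_dvd_prime_iff_eq hpp Nat.prime_two).1 (hpp.dvd_of_dvd_pow hdvd)
    subst hp2
    have hne : frob (F := F) 2 1 ≠ RingEquiv.refl F := by
      intro h
      obtain ⟨a, ha⟩ := exists_pow_ne_self (F := F) 2 (d := 1) one_pos (by omega)
      exact ha (by simpa [frob_apply] using RingEquiv.congr_fun h a)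
    have hU := basisForm_isUnitary b (frob 2 1) hne (frob_involutive 2 (by rw [hq]; rfl))
    refine geometric_unitary hH hU fun g hg => ?_
    obtain ⟨π, hπ⟩ := hperm g hg
    choose c hc using hπ
    refine ⟨1, fun u v => ?_⟩
    rw [Units.val_one, one_mul]
    refine basisForm_preserved b _ hc (fun i => ?_) u v
    have h1 := FiniteField.pow_card_sub_one_eq_one (c i) (frame_coeff_ne_zero b (hc i))
    rw [hq] at h1
    show c i * frob 2 1 (c i) = 1
    rw [frob_apply, ← pow_succ']
    exact h1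
  · obtain ⟨hR, hle, i, hi, z, hz, hzi⟩ := monomial_five b hq hH.1.le hperm
    exact geometric_symType (p := 5) (by norm_num) hq (by norm_num) hH hR hle hi hz hzi

theorem geometric_cases (hH : Geo.IsMaximalIn (Geo.specialLinear (Fin 4) F) H) (hirr : Irr H)
    {A : Subgroup (GL (Fin 4) F)} (hAn : NormalIn H A) (hAs : ¬ A ≤ Geo.scalars (Fin 4) F) :
    AbsIrr A ∨ Geometric H := by
  rcases classify hirr hAn with h | ⟨-, Q, hQ, hHQ, -, -⟩ | ⟨-, h | h | h | h⟩
  · exact Or.inl h
  · exact Or.inr (geometric_polar hH hQ (hHQ.trans quadSimilarity_le_similarity))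
  · exact absurd h hAs
  · exact Or.inr (geometric_lines hH hirr h)
  · right
    obtain ⟨D, hD, hHD, -, -, -⟩ := h
    by_cases h4 : 4 ≤ Fintype.card F
    · exact Or.inr (Or.inr (Or.inl ⟨h4, D, hD,
        eq_inf_of_maximal hH hHD (not_le_decompositionStabilizer_planes hD)⟩))
    · obtain ⟨f, hf, hle⟩ := planes_small (by omega) hD hH.1.le hHD
      exact geometric_symplectic hH hf hle
  · obtain ⟨K, hK, hHK, -⟩ := h
    exact Or.inr (Or.inr (Or.inr (Or.inr (Or.inl ⟨K, hK, eq_inf_of_maximal hH hHK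
      (specialLinear_not_le_subalgebraNormalizer (by simp) le_rfl hK)⟩))))

theorem linear_four (H : Subgroup (GL (Fin 4) F))
    (hH : Geo.IsMaximalIn (Geo.specialLinear (Fin 4) F) H) :
    (∃ W : Submodule F (Fin 4 → F), W ≠ ⊥ ∧ W ≠ ⊤ ∧
        H = Geo.subspaceStabilizer W ⊓ Geo.specialLinear (Fin 4) F) ∨
    (7 ≤ Fintype.card F ∧ ∃ D : Fin 4 → Submodule F (Fin 4 → F), Geo.IsMDecomposition 1 D ∧
        H = Geo.decompositionStabilizer D ⊓ Geo.specialLinear (Fin 4) F) ∨
    (4 ≤ Fintype.card F ∧ ∃ D : Fin 2 → Submodule F (Fin 4 → F), Geo.IsMDecomposition 2 D ∧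
        H = Geo.decompositionStabilizer D ⊓ Geo.specialLinear (Fin 4) F) ∨
    (∃ K : Subalgebra F (Matrix (Fin 4) (Fin 4) F), Geo.IsFieldSubalgebra 2 K ∧
        H = Geo.subalgebraNormalizer K ⊓ Geo.specialLinear (Fin 4) F) ∨
    (∃ (F₀ : Subfield F) (r : ℕ) (P : GL (Fin 4) F), r.Prime ∧ Fintype.card F = Nat.card F₀ ^ r ∧
        H = Geo.subfieldSubgroup F₀ P ⊓ Geo.specialLinear (Fin 4) F) ∨
    (∃ (p : ℕ) (R : Subgroup (GL (Fin 4) F)), p.Prime ∧ Fintype.card F = p ∧ p % 4 = 1 ∧
        Geo.IsLinearSymplecticTypeData 2 R ∧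
        H = Geo.subgroupNormalizer R ⊓ Geo.specialLinear (Fin 4) F) ∨
    (Odd (Fintype.card F) ∧ ∃ Q : (Fin 4 → F) → F, Geo.IsNondegenerateQuadraticForm Q ∧
        H = Geo.quadSimilarityGroup Q ⊓ Geo.specialLinear (Fin 4) F) ∨
    (∃ f : (Fin 4 → F) → (Fin 4 → F) → F, Geo.IsSymplecticForm f ∧
        H = Geo.similarityGroup f ⊓ Geo.specialLinear (Fin 4) F) ∨
    (∃ (σ : F ≃+* F) (f : (Fin 4 → F) → (Fin 4 → F) → F), Geo.IsUnitaryForm σ f ∧
        H = Geo.similarityGroup f ⊓ Geo.specialLinear (Fin 4) F) ∨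
    Geo.InLinearResidualClass H := by
  classical
  suffices h : Geometric H ∨ Geo.InLinearResidualClass H by
    simpa only [Geometric, or_assoc] using h
  by_cases hG : Geometric H
  · exact Or.inl hG
  right
  have hirr : Irr H := by
    by_contra hirr
    rw [irr_iff] at hirr
    push Not at hirr
    obtain ⟨W, hW, hW0, hW1⟩ := hirr
    exact hG (Or.inl ⟨W, hW0, hW1,
      eq_inf_of_maximal hH (fun g hg => mem_subspaceStabilizer (hW g hg))
        (specialLinear_not_le_subspaceStabilizer hW0 hW1)⟩)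
  have hnorm : ∀ A, A ≤ H → NormalIn H A → ¬ A ≤ Geo.scalars (Fin 4) F → AbsIrr A :=
    fun A _ hn hs => (geometric_cases hH hirr hn hs).resolve_right hG
  rcases structure_four hH.1.le hirr hnorm
    (fun Q hQ h => hG (geometric_polar hH hQ (h.trans quadSimilarity_le_similarity))) with ⟨N, hNH, hNn, hNa, hN, -⟩ | ⟨P, hP⟩
  · exfalso
    obtain ⟨p, hpC⟩ := CharP.exists F
    haveI := hpC
    obtain ⟨e, hpp, hcard⟩ := FiniteField.card F p
    haveI : Fact p.Prime := ⟨hpp⟩
    apply hG
    by_cases hc : ∀ c : F, (∃ x ∈ N, (x : Matrix (Fin 4) (Fin 4) F) = c • 1) → c * c = 1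
    · have hodd : Odd (Fintype.card F) := by
        rw [hcard]
        exact (hpp.odd_of_ne_two fun h => hN.two_ne_zero (by
          subst h; exact_mod_cast CharP.cast_eq_zero F 2)).pow
      rcases hN.bilinear_form hNa hc with ⟨Q, hQ, hfix⟩ | ⟨f, hf, hfix⟩
      · exact geometric_polar hH hQ
          ((hNa.le_quadSimilarityGroup hodd hQ hfix hNn).trans quadSimilarity_le_similarity)
      · exact geometric_symplectic hH hf
          (hNa.le_similarityGroup (IsSesq.of_bilinear hf.bilinear) hf.nondegenerate hfix hNn)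
    push Not at hc
    obtain ⟨i, ⟨z, hz, hzi⟩, hi1⟩ := hc
    have h4 := hN.scalar_pow_four hz hzi
    have hi : i ^ 2 = -1 := by
      rcases sq_eq_one_iff.1 (show (i ^ 2) ^ 2 = 1 by rw [← pow_mul]; exact h4) with h | h
      · exact absurd (by rw [← pow_two]; exact h) hi1
      · exact h
    have hp2 : p % 2 = 1 := (hpp.eq_two_or_odd).resolve_left fun h =>
      hN.two_ne_zero (by subst h; exact_mod_cast CharP.cast_eq_zero F 2)
    have hreal : ∀ d, 0 < d → d < (e : ℕ) → i ^ p ^ d = i → Geometric H := by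
      intro d hd hde hid
      have hlt : p ^ d < Fintype.card F := by rw [hcard]; exact Nat.pow_lt_pow_right hpp.one_lt hde
      exact geometric_subfield hH hNa hNn (fixedBy_ne_top p hd hlt)
        (hN.realisable hi hz hzi (fixedBy p d) ((mem_fixedBy p).2 hid))
    have hi4 : ∀ k, i ^ (4 * k + 1) = i := fun k => by rw [pow_succ, pow_mul, h4, one_pow, one_mul]
    rcases (show p % 4 = 1 ∨ p % 4 = 3 by omega) with hp4 | hp4
    · by_cases he : (e : ℕ) = 1
      · refine geometric_symType hpp (by rw [hcard, he, pow_one]) hp4 hH hN (fun h hh => ?_) hi hz hzi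
        show h ∈ Subgroup.normalizer (N : Set (GL (Fin 4) F))
        rw [Subgroup.mem_normalizer_iff]
        exact fun x => ⟨fun hx => hNn h hh x hx, fun hx => by
          simpa [mul_assoc] using hNn h⁻¹ (H.inv_mem hh) _ hx⟩
      · refine hreal 1 one_pos (by have := e.pos; omega) ?_
        rw [pow_one, show p = 4 * (p / 4) + 1 by omega]
        exact hi4 _
    · rcases Nat.lt_or_ge 2 (e : ℕ) with he | he
      · refine hreal 2 two_pos he ?_
        have hsq : p ^ 2 % 4 = 1 := by rw [Nat.pow_mod, hp4]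
        rw [show p ^ 2 = 4 * (p ^ 2 / 4) + 1 by omega]
        exact hi4 _
      · obtain he1 | he2 : (e : ℕ) = 1 ∨ (e : ℕ) = 2 := by have := e.pos; omega
        · -- no square root of `-1` in a prime field with `p ≡ 3 mod 4`
          exfalso
          have hi0 : i ≠ 0 := by rintro rfl; norm_num at h4
          have h1 := FiniteField.pow_card_sub_one_eq_one i hi0
          rw [hcard, he1, pow_one, show p - 1 = 4 * (p / 4) + 2 by omega, pow_add, pow_mul, h4,
            one_pow, one_mul, hi] at h1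
          exact hN.two_ne_zero (by linear_combination -h1)
        · have hcard' : Fintype.card F = p ^ (2 * 1) := by rw [hcard, he2]
          have hne : frob (F := F) p 1 ≠ RingEquiv.refl F := by
            intro h
            obtain ⟨a, ha⟩ := exists_pow_ne_self (F := F) p (d := 1) one_pos
              (by rw [hcard']; exact Nat.pow_lt_pow_right hpp.one_lt (by norm_num))
            exact ha (by simpa [frob_apply] using RingEquiv.congr_fun h a)
          obtain ⟨f, hf, hfix⟩ := hN.unitary_form hNa (frob p 1) hne (frob_involutive p hcard')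
            (fun c ⟨x, hx, hxc⟩ => by
              rw [frob_apply, pow_one, ← pow_succ', show p + 1 = 4 * ((p + 1) / 4) by omega, pow_mul,
                hN.scalar_pow_four hx hxc, one_pow])
          exact geometric_unitary hH hf
            (hNa.le_similarityGroup (IsSesq.of_unitary hf) hf.nondegenerate hfix hNn)
  · refine ⟨P, hP.isResidualCore fun F₁ h1 h2 =>
      hG (geometric_subfield hH hP.absIrred hP.normal h1 h2), ?_, ?_, ?_⟩
    · rintro ⟨Q, hQ, hfix⟩
      refine hG (geometric_polar hH hQ (hP.absIrred.le_similarityGroup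
        (IsSesq.of_bilinear hQ.polar_bilinear) hQ.nondegenerate (fun s hs u v => ?_) hP.normal))
      simp only [QuadraticMap.polar, ← Matrix.mulVec_add, hfix s hs]
    · rintro ⟨f, hf, hfix⟩
      exact hG (geometric_symplectic hH hf (hP.absIrred.le_similarityGroup
        (IsSesq.of_bilinear hf.bilinear) hf.nondegenerate hfix hP.normal))
    · rintro ⟨σ, f, hf, hfix⟩
      exact hG (geometric_unitary hH hf (hP.absIrred.le_similarityGroup
        (IsSesq.of_unitary hf) hf.nondegenerate hfix hP.normal))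

end Cfsg.Agent.AschbacherFour
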