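import Cfsg.Agent.Lib.AschbacherFour.Symplectic
import Cfsg.Agent.Lib.Aschbacher.Common

/-!
Groups of symplectic type in dimension four: the sixth geometric class, realisation over a field
containing a square root of `-1`, and invariant forms.
-/

set_option autoImplicit false

namespace Cfsg.Agent.AschbacherFour

open Matrix Aschbacher
open scoped MatrixGroups

variable {F : Type*} [Field F] {N : Subgroup (GL (Fin 4) F)}

theorem SymType.scalar_pow_four (hN : SymType N) {x : GL (Fin 4) F} (hx : x ∈ N) {c : F}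
    (hc : (x : Matrix (Fin 4) (Fin 4) F) = c • 1) : c ^ 4 = 1 := by
  have := hN.det_one x hx
  rw [hc, Matrix.det_smul, Matrix.det_one, mul_one, Fintype.card_fin] at this
  exact this

theorem SymType.pow_four (hN : SymType N) {x : GL (Fin 4) F} (hx : x ∈ N) : x ^ 4 = 1 := by
  refine Units.ext ?_
  rw [Units.val_pow_eq_pow_val, Units.val_one]
  by_cases h : IsScalarMat (x : Matrix (Fin 4) (Fin 4) F)
  · obtain ⟨c, hc⟩ := h
    rw [hc, smul_pow, one_pow, hN.scalar_pow_four hx hc, one_smul]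
  · have h2 : (x : Matrix (Fin 4) (Fin 4) F) ^ 4 = ((x : Matrix (Fin 4) (Fin 4) F) ^ 2) ^ 2 := by
      rw [← pow_mul]
    rw [h2]
    rcases hN.sq hx h with h | h <;> simp [h]

/-- An element anticommuting with `a` and squaring to `-1`. -/
theorem SymType.exists_anti_sq (hN : SymType N) {i : F} (hi : i ^ 2 = -1) {z : GL (Fin 4) F}
    (hz : z ∈ N) (hzi : (z : Matrix (Fin 4) (Fin 4) F) = i • 1) {a : GL (Fin 4) F} (ha : a ∈ N)
    (hns : ¬ IsScalarMat (a : Matrix (Fin 4) (Fin 4) F)) :
    ∃ y ∈ N, (y : Matrix (Fin 4) (Fin 4) F) * a = -((a : Matrix (Fin 4) (Fin 4) F) * y) ∧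
      (y : Matrix (Fin 4) (Fin 4) F) ^ 2 = -1 := by
  obtain ⟨y, hy, hya⟩ := hN.exists_noncomm hns
  have hanti := (hN.anti hy ha).resolve_left hya
  have hyns : ¬ IsScalarMat (y : Matrix (Fin 4) (Fin 4) F) := fun h =>
    hya (isScalarMat_mul_comm h _).symm
  rcases hN.sq hy hyns with h | h
  · refine ⟨z * y, N.mul_mem hz hy, ?_, ?_⟩
    · simp [hzi, hanti]
    · simp [hzi, smul_pow, hi, h]
  · exact ⟨y, hy, hanti, h⟩

variable [Finite F]

/-- The scalars in such a group with a square root of `-1` form a group of order four. -/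
theorem SymType.card_scalars (hN : SymType N) {i : F} (hi : i ^ 2 = -1) {z : GL (Fin 4) F}
    (hz : z ∈ N) (hzi : (z : Matrix (Fin 4) (Fin 4) F) = i • 1) :
    Nat.card ((Geo.scalars (Fin 4) F).subgroupOf N) = 4 := by
  classical
  let f : (Geo.scalars (Fin 4) F).subgroupOf N → F :=
    fun x => (((x : N) : GL (Fin 4) F) : Matrix (Fin 4) (Fin 4) F) 0 0
  have hval : ∀ x, (((x : (Geo.scalars (Fin 4) F).subgroupOf N) : N) : GL (Fin 4) F).1 = f x • 1 := by
    intro x
    obtain ⟨c, hc⟩ := mem_scalars.1 (Subgroup.mem_subgroupOf.1 x.2)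
    rw [hc, show f x = c by simp [f, hc]]
  have hinj : Function.Injective f := fun x y h =>
    Subtype.ext (Subtype.ext (Units.ext (by rw [hval x, hval y, h])))
  have hi0 : i ≠ 0 := by
    rintro rfl
    rw [zero_pow (by norm_num), eq_comm, neg_eq_zero] at hi
    exact one_ne_zero hi
  have hrange : Set.range f = ({1, -1, i, -i} : Set F) := by
    ext c
    constructor
    · rintro ⟨x, rfl⟩
      have h4 := hN.scalar_pow_four (x : N).2 (hval x)
      have : (f x - 1) * (f x + 1) * (f x - i) * (f x + i) = 0 := by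
        linear_combination h4 - (f x ^ 2 - 1) * hi
      simp only [mul_eq_zero, sub_eq_zero, add_eq_zero_iff_eq_neg, or_assoc] at this
      simpa using this
    · intro hc
      have key : ∀ k : ℕ, i ^ k ∈ Set.range f := fun k => by
        have hk : ((z ^ k : GL (Fin 4) F) : Matrix (Fin 4) (Fin 4) F) = i ^ k • 1 := by
          simp [hzi, smul_pow]
        refine ⟨⟨⟨z ^ k, N.pow_mem hz k⟩, Subgroup.mem_subgroupOf.2
          (mem_scalars.2 ⟨_, hk⟩)⟩, ?_⟩
        simp [f, hzi, smul_pow]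
      simp only [Set.mem_insert_iff, Set.mem_singleton_iff] at hc
      rcases hc with rfl | rfl | rfl | rfl
      · simpa using key 0
      · simpa [hi] using key 2
      · simpa using key 1
      · simpa [pow_succ, hi] using key 3
  have h1 : (Set.range f).ncard = 4 := by
    have h2 : (1 : F) ≠ -1 := fun h => hN.two_ne_zero (by linear_combination h)
    have h3 : i ≠ -i := fun h => mul_ne_zero hN.two_ne_zero hi0 (by linear_combination h)
    have h4 : ∀ s t : F, s ^ 2 = 1 → t ^ 2 = -1 → s ≠ t := fun s t hs ht h => by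
      subst h
      exact h2 (hs.symm.trans ht)
    rw [hrange, Set.ncard_insert_of_notMem, Set.ncard_insert_of_notMem, Set.ncard_pair h3]
    · simp only [Set.mem_insert_iff, Set.mem_singleton_iff, not_or]
      exact ⟨h4 _ _ (by norm_num) hi, h4 _ _ (by norm_num) (by rw [neg_sq, hi])⟩
    · simp only [Set.mem_insert_iff, Set.mem_singleton_iff, not_or]
      exact ⟨h2, h4 _ _ (one_pow 2) hi, h4 _ _ (one_pow 2) (by rw [neg_sq, hi])⟩
  rw [Set.ncard_range_of_injective hinj] at h1
  exact h1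

/-- Characteristic abelian subgroups are cyclic when every non-scalar element has an anticommuting
partner squaring to `-1`. -/
theorem SymType.cyclic_characteristic_of (hN : SymType N)
    (hanti : ∀ a ∈ N, ¬ IsScalarMat (a : Matrix (Fin 4) (Fin 4) F) →
      ∃ y ∈ N, (y : Matrix (Fin 4) (Fin 4) F) * a = -((a : Matrix (Fin 4) (Fin 4) F) * y) ∧
        (y : Matrix (Fin 4) (Fin 4) F) ^ 2 = -1)
    (A : Subgroup N) (hA : A.Characteristic) (hab : IsMulCommutative A) : IsCyclic A := by
  have hAs : ∀ a ∈ A, IsScalarMat ((a : GL (Fin 4) F) : Matrix (Fin 4) (Fin 4) F) := by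
    intro a ha
    by_contra hns
    obtain ⟨y, hy, hya, hy2⟩ := hanti _ a.2 hns
    set Y := (y : Matrix (Fin 4) (Fin 4) F) with hY
    have hYY : Y * Y = -1 := by rw [← pow_two]; exact hy2
    have h2 : (2 : F) ≠ 0 := hN.two_ne_zero
    have e1 : (1 + Y) * ((2⁻¹ : F) • (1 - Y)) = 1 := by
      rw [Matrix.mul_smul, mul_sub, mul_one, add_mul, one_mul, hYY,
        show 1 + Y - (Y + -1) = (2 : F) • (1 : Matrix (Fin 4) (Fin 4) F) by rw [two_smul]; abel,
        smul_smul, inv_mul_cancel₀ h2, one_smul]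
    have e2 : ((2⁻¹ : F) • (1 - Y)) * (1 + Y) = 1 := by
      rw [Matrix.smul_mul, sub_mul, one_mul, mul_add, mul_one, hYY,
        show 1 + Y - (Y + -1) = (2 : F) • (1 : Matrix (Fin 4) (Fin 4) F) by rw [two_smul]; abel,
        smul_smul, inv_mul_cancel₀ h2, one_smul]
    let g : GL (Fin 4) F := ⟨1 + Y, (2⁻¹ : F) • (1 - Y), e1, e2⟩
    -- conjugation by `g`
    have hconj : ∀ x ∈ N, ((Y * x = x * Y) → g * x * g⁻¹ = x ∧ g⁻¹ * x * g = x) ∧
        (Y * x = -(x * Y) → g * x * g⁻¹ = y * x ∧ g⁻¹ * x * g = x * y) := by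
      intro x hx
      constructor
      · intro h
        have hc : Commute g x := Units.ext (by
          show (1 + Y) * (x : Matrix (Fin 4) (Fin 4) F) = (x : Matrix (Fin 4) (Fin 4) F) * (1 + Y)
          rw [add_mul, mul_add, one_mul, mul_one, h])
        exact ⟨by rw [hc.eq, mul_inv_cancel_right], by rw [mul_assoc, ← hc.eq, inv_mul_cancel_left]⟩
      · intro h
        refine ⟨Units.ext ?_, Units.ext ?_⟩
        · show (1 + Y) * (x : Matrix (Fin 4) (Fin 4) F) * ((2⁻¹ : F) • (1 - Y)) = Y * x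
          have : (1 + Y) * (x : Matrix (Fin 4) (Fin 4) F) * (1 - Y) = (2 : F) • (Y * x) := by
            rw [add_mul, one_mul, mul_sub, mul_one, add_mul, two_smul]
            simp only [h, neg_mul, mul_assoc, hYY, mul_neg, mul_one]
            abel
          rw [Matrix.mul_smul, this, smul_smul, inv_mul_cancel₀ h2, one_smul]
        · show ((2⁻¹ : F) • (1 - Y)) * (x : Matrix (Fin 4) (Fin 4) F) * (1 + Y) = x * Y
          have : (1 - Y) * (x : Matrix (Fin 4) (Fin 4) F) * (1 + Y) =
              (2 : F) • ((x : Matrix (Fin 4) (Fin 4) F) * Y) := by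
            rw [sub_mul, one_mul, mul_add, mul_one, h, sub_neg_eq_add, add_mul, two_smul, mul_assoc _ Y Y,
              hYY, mul_neg, mul_one]
            abel
          rw [Matrix.smul_mul, Matrix.smul_mul, this, smul_smul, inv_mul_cancel₀ h2, one_smul]
    have hmem : ∀ x ∈ N, g * x * g⁻¹ ∈ N ∧ g⁻¹ * x * g ∈ N := by
      intro x hx
      rcases hN.anti hy hx with h | h
      · rw [((hconj x hx).1 h).1, ((hconj x hx).1 h).2]; exact ⟨hx, hx⟩
      · rw [((hconj x hx).2 h).1, ((hconj x hx).2 h).2]; exact ⟨N.mul_mem hy hx, N.mul_mem hx hy⟩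
    let φ : N ≃* N :=
      { toFun := fun x => ⟨g * x * g⁻¹, (hmem x x.2).1⟩
        invFun := fun x => ⟨g⁻¹ * x * g, (hmem x x.2).2⟩
        left_inv := fun x => Subtype.ext (by simp [mul_assoc])
        right_inv := fun x => Subtype.ext (by simp [mul_assoc])
        map_mul' := fun x w => Subtype.ext (by simp [mul_assoc]) }
    have hφ : φ a ∈ A := by
      rw [← hA.fixed φ] at ha
      exact ha
    have h1 : φ a * a = a * φ a := congrArg Subtype.val (hab.is_comm.comm ⟨_, hφ⟩ ⟨a, ha⟩)
    have h3 := congrArg Units.val (congrArg Subtype.val h1)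
    simp only [Subgroup.coe_mul, φ, MulEquiv.coe_mk, Equiv.coe_fn_mk,
      ((hconj a a.2).2 hya).1, Units.val_mul] at h3
    rw [show (a : GL (Fin 4) F).1 * (Y * (a : GL (Fin 4) F).1) =
      -(Y * (a : GL (Fin 4) F).1 * (a : GL (Fin 4) F).1) by
      rw [← mul_assoc, hya, neg_mul, neg_neg]] at h3
    have h4 : Y * (a : GL (Fin 4) F).1 * (a : GL (Fin 4) F).1 ≠ 0 := by
      rw [hY, ← Units.val_mul, ← Units.val_mul]; exact Units.ne_zero _
    refine h4 ?_
    have h5 : (2 : F) • (Y * (a : GL (Fin 4) F).1 * (a : GL (Fin 4) F).1) = 0 := by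
      rw [two_smul]; nth_rewrite 1 [h3]; exact neg_add_cancel _
    exact (smul_eq_zero.1 h5).resolve_left h2
  refine isCyclic_of_injective_ringHom
    { toFun := fun a : A => (((a : N) : GL (Fin 4) F) : Matrix (Fin 4) (Fin 4) F) 0 0
      map_one' := by simp
      map_mul' := fun a b => by
        obtain ⟨c, hc⟩ := hAs a a.2
        simp [hc] } fun a b h => ?_
  obtain ⟨c, hc⟩ := hAs a a.2
  obtain ⟨d, hd⟩ := hAs b b.2
  have hcd : c = d := by simpa [hc, hd] using h
  exact Subtype.ext (Subtype.ext (Units.ext (by rw [hc, hd, hcd])))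

/-- Characteristic abelian subgroups are cyclic. -/
theorem SymType.cyclic_characteristic (hN : SymType N) {i : F} (hi : i ^ 2 = -1) {z : GL (Fin 4) F}
    (hz : z ∈ N) (hzi : (z : Matrix (Fin 4) (Fin 4) F) = i • 1) (A : Subgroup N)
    (hA : A.Characteristic) (hab : IsMulCommutative A) : IsCyclic A :=
  hN.cyclic_characteristic_of (fun _ ha hns => hN.exists_anti_sq hi hz hzi ha hns) A hA hab

theorem SymType.card_center (hN : SymType N) {i : F} (hi : i ^ 2 = -1) {z : GL (Fin 4) F}
    (hz : z ∈ N) (hzi : (z : Matrix (Fin 4) (Fin 4) F) = i • 1) :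
    Nat.card (Subgroup.center N) = 4 := by rw [hN.center_eq, hN.card_scalars hi hz hzi]

theorem SymType.symplecticTypeGroup (hN : SymType N) {i : F} (hi : i ^ 2 = -1) {z : GL (Fin 4) F}
    (hz : z ∈ N) (hzi : (z : Matrix (Fin 4) (Fin 4) F) = i • 1) : Geo.IsSymplecticTypeGroup 2 N := by
  have hz4 : orderOf (⟨z, hz⟩ : N) = 2 ^ 2 := by
    refine orderOf_eq_prime_pow (fun h => ?_) (Subtype.ext (hN.pow_four hz))
    have h1 := congrArg (fun x : N => ((x : GL (Fin 4) F) : Matrix (Fin 4) (Fin 4) F) 0 0) h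
    simp [hzi, smul_pow, hi] at h1
    exact hN.two_ne_zero (by linear_combination -h1)
  refine ⟨Nat.prime_two, hN.isPGroup, fun A => hN.cyclic_characteristic hi hz hzi A, ?_⟩
  refine Nat.dvd_antisymm (Monoid.exponent_dvd_of_forall_pow_eq_one fun x => Subtype.ext ?_) ?_
  · simpa using hN.pow_four x.2
  · have h := Monoid.order_dvd_exponent (⟨z, hz⟩ : N)
    rw [hz4] at h
    exact h

/-- The sixth geometric class. -/
theorem SymType.linearSymplecticData [Fintype F] (hN : SymType N) (habs : AbsIrr N) {p : ℕ}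
    (hp : p.Prime) (hcard : Fintype.card F = p) (hp4 : p % 4 = 1) {i : F} (hi : i ^ 2 = -1)
    {z : GL (Fin 4) F} (hz : z ∈ N) (hzi : (z : Matrix (Fin 4) (Fin 4) F) = i • 1) :
    Geo.IsLinearSymplecticTypeData 2 N := by
  haveI : Fact p.Prime := ⟨hp⟩
  have hcent := hN.card_center hi hz hzi
  have hchar : CharP F p := by
    obtain ⟨p', hp'⟩ := CharP.exists F
    obtain ⟨e, hpp, hc⟩ := FiniteField.card F p'
    obtain rfl : p' = p := (hp.pow_eq_iff.1 (hc.symm.trans hcard)).1
    exact hp'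
  refine ⟨hN.symplecticTypeGroup hi hz hzi, habs,
    p, 1, ?_, ⟨hp, hchar, by rw [hcard, pow_one], ?_, fun d hd hd1 => by omega⟩,
    Or.inr (Or.inl ⟨rfl, rfl, hcent, by simp, 2, by rw [hN.card_eq, hcent]; norm_num⟩)⟩
  · rintro rfl; norm_num at hp4
  · rw [hcent, pow_one]; omega

end Cfsg.Agent.AschbacherFour
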