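import Cfsg.Agent.Lib.AschbacherFour.Pauli

/-!
Groups of symplectic type in dimension four: realisation over subfields, invariant forms, and
`SL` does not normalise them.
-/

set_option autoImplicit false

namespace Cfsg.Agent.AschbacherFour

open Matrix Aschbacher
open scoped MatrixGroups

variable {F : Type*} [Field F] {N : Subgroup (GL (Fin 4) F)}

theorem SymType.exists_involution (hN : SymType N) {i : F} (hi : i ^ 2 = -1) {z : GL (Fin 4) F}
    (hz : z ∈ N) (hzi : (z : Matrix (Fin 4) (Fin 4) F) = i • 1) {x : GL (Fin 4) F} (hx : x ∈ N)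
    (hns : ¬ IsScalarMat (x : Matrix (Fin 4) (Fin 4) F)) :
    ∃ a ∈ N, ¬ IsScalarMat (a : Matrix (Fin 4) (Fin 4) F) ∧ (a : Matrix (Fin 4) (Fin 4) F) ^ 2 = 1 ∧
      ∃ c : F, (a : Matrix (Fin 4) (Fin 4) F) = c • (x : Matrix (Fin 4) (Fin 4) F) := by
  rcases hN.sq hx hns with h | h
  · exact ⟨x, hx, hns, h, 1, (one_smul _ _).symm⟩
  · refine ⟨z * x, N.mul_mem hz hx, ?_, ?_, i, by simp [hzi]⟩
    · rintro ⟨c, hc⟩
      refine hns ⟨-i * c, ?_⟩
      have h1 : i • (x : Matrix (Fin 4) (Fin 4) F) = c • 1 := by simpa [hzi] using hc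
      have h2 := congrArg ((-i) • ·) h1
      simp only [smul_smul] at h2
      rw [show -i * i = 1 by linear_combination -hi, one_smul] at h2
      exact h2
    · simp [hzi, smul_pow, hi, h]

variable [Finite F]

/-- With a square root of `-1` in `F₀`, the group is realised over `F₀`. -/
theorem SymType.realisable (hN : SymType N) {i : F} (hi : i ^ 2 = -1) {z : GL (Fin 4) F}
    (hz : z ∈ N) (hzi : (z : Matrix (Fin 4) (Fin 4) F) = i • 1) (F₀ : Subfield F) (hiF : i ∈ F₀) :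
    Geo.RealisableOver F₀ (Geo.matrixSet N) := by
  classical
  obtain ⟨x₀, hx₀, hx₀s⟩ := hN.exists_nonscalar
  obtain ⟨a₁, ha₁, ha₁s, ha₁2, -⟩ := hN.exists_involution hi hz hzi hx₀ hx₀s
  obtain ⟨b₁, hb₁, hb₁a⟩ := hN.exists_noncomm ha₁s
  have hb₁anti := (hN.anti hb₁ ha₁).resolve_left hb₁a
  have ha₁b : (a₁ : Matrix (Fin 4) (Fin 4) F) * b₁ = -((b₁ : Matrix (Fin 4) (Fin 4) F) * a₁) := by
    rw [hb₁anti, neg_neg]
  -- `N` modulo scalars has more than four elements, giving `a₂`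
  obtain ⟨x, hx, hxc1, hxc2, hxs⟩ : ∃ x ∈ N,
      (x : Matrix (Fin 4) (Fin 4) F) * a₁ = (a₁ : Matrix (Fin 4) (Fin 4) F) * x ∧
      (x : Matrix (Fin 4) (Fin 4) F) * b₁ = (b₁ : Matrix (Fin 4) (Fin 4) F) * x ∧
      ¬ IsScalarMat (x : Matrix (Fin 4) (Fin 4) F) := by
    by_contra hcon
    push Not at hcon
    let f : Fin 2 × Fin 2 → Quot N := fun e =>
      (((⟨a₁, ha₁⟩ : N) ^ (e.1 : ℕ) * (⟨b₁, hb₁⟩ : N) ^ (e.2 : ℕ) : N) : Quot N)⁻¹
    have hsurj : Function.Surjective f := by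
      intro q
      obtain ⟨⟨y, hy⟩, rfl⟩ := QuotientGroup.mk_surjective q
      set A := (a₁ : Matrix (Fin 4) (Fin 4) F)
      set B := (b₁ : Matrix (Fin 4) (Fin 4) F)
      suffices h : ∃ e₁ e₂ : Fin 2, IsScalarMat
          ((a₁ ^ (e₁ : ℕ) * b₁ ^ (e₂ : ℕ) * y : GL (Fin 4) F) : Matrix (Fin 4) (Fin 4) F) by
        obtain ⟨e₁, e₂, h⟩ := h
        refine ⟨(e₁, e₂), inv_eq_of_mul_eq_one_right ?_⟩
        rw [← QuotientGroup.mk_mul, QuotientGroup.eq_one_iff, Subgroup.mem_subgroupOf]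
        exact mem_scalars.2 h
      -- make it commute with `a₁`
      obtain ⟨e₂, hA⟩ : ∃ e₂ : Fin 2, ((b₁ ^ (e₂ : ℕ) * y : GL (Fin 4) F) : Matrix (Fin 4) (Fin 4) F) * A =
          A * ((b₁ ^ (e₂ : ℕ) * y : GL (Fin 4) F) : Matrix (Fin 4) (Fin 4) F) := by
        rcases hN.anti hy ha₁ with h | h
        · exact ⟨0, by simpa using h⟩
        · refine ⟨1, ?_⟩
          rw [Fin.val_one, pow_one, Units.val_mul, mul_assoc, h, mul_neg, ← mul_assoc, ← mul_assoc,
            ha₁b, neg_mul]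
      have hy₁ : b₁ ^ (e₂ : ℕ) * y ∈ N := N.mul_mem (N.pow_mem hb₁ _) hy
      generalize hy₁e : b₁ ^ (e₂ : ℕ) * y = y₁ at hA hy₁
      obtain ⟨e₁, hA', hB'⟩ : ∃ e₁ : Fin 2,
          ((a₁ ^ (e₁ : ℕ) * y₁ : GL (Fin 4) F) : Matrix (Fin 4) (Fin 4) F) * A =
            A * ((a₁ ^ (e₁ : ℕ) * y₁ : GL (Fin 4) F) : Matrix (Fin 4) (Fin 4) F) ∧
          ((a₁ ^ (e₁ : ℕ) * y₁ : GL (Fin 4) F) : Matrix (Fin 4) (Fin 4) F) * B =
            B * ((a₁ ^ (e₁ : ℕ) * y₁ : GL (Fin 4) F) : Matrix (Fin 4) (Fin 4) F) := by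
        rcases hN.anti hy₁ hb₁ with h | h
        · exact ⟨0, by simpa using hA, by simpa using h⟩
        · refine ⟨1, ?_, ?_⟩
          · rw [Fin.val_one, pow_one, Units.val_mul, mul_assoc, hA]
          · rw [Fin.val_one, pow_one, Units.val_mul, mul_assoc, h, mul_neg, ← mul_assoc, ← mul_assoc,
              hb₁anti, neg_mul]
      refine ⟨e₁, e₂, ?_⟩
      rw [mul_assoc, hy₁e]
      exact hcon _ (N.mul_mem (N.pow_mem ha₁ _) hy₁) hA' hB'
    have h16 := hN.card_quot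
    have h4 := Nat.card_le_card_of_surjective f hsurj
    rw [h16] at h4
    simp at h4
  obtain ⟨a₂, ha₂, ha₂s, ha₂2, c₂, hc₂⟩ := hN.exists_involution hi hz hzi hx hxs
  have h21 : (a₂ : Matrix (Fin 4) (Fin 4) F) * a₁ = (a₁ : Matrix (Fin 4) (Fin 4) F) * a₂ := by
    rw [hc₂, Matrix.smul_mul, Matrix.mul_smul, hxc1]
  have h2b : (a₂ : Matrix (Fin 4) (Fin 4) F) * b₁ = (b₁ : Matrix (Fin 4) (Fin 4) F) * a₂ := by
    rw [hc₂, Matrix.smul_mul, Matrix.mul_smul, hxc2]
  -- `b₂` anticommutes with `a₂` and commutes with `a₁`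
  obtain ⟨b₂, hb₂, hb₂2, hb₂1⟩ : ∃ b₂ ∈ N,
      (b₂ : Matrix (Fin 4) (Fin 4) F) * a₂ = -((a₂ : Matrix (Fin 4) (Fin 4) F) * b₂) ∧
      (b₂ : Matrix (Fin 4) (Fin 4) F) * a₁ = (a₁ : Matrix (Fin 4) (Fin 4) F) * b₂ := by
    obtain ⟨y, hy, hya⟩ := hN.exists_noncomm ha₂s
    have hyanti := (hN.anti hy ha₂).resolve_left hya
    rcases hN.anti hy ha₁ with h | h
    · exact ⟨y, hy, hyanti, h⟩
    · refine ⟨b₁ * y, N.mul_mem hb₁ hy, ?_, ?_⟩
      · rw [Units.val_mul, mul_assoc, hyanti, mul_neg, ← mul_assoc, ← h2b, mul_assoc]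
      · rw [Units.val_mul, mul_assoc, h, mul_neg, ← mul_assoc, hb₁anti, neg_mul, neg_neg, mul_assoc]
  -- the common fixed vector
  have h12ns : ¬ IsScalarMat ((a₁ * a₂ : GL (Fin 4) F) : Matrix (Fin 4) (Fin 4) F) := by
    intro h
    have h1 := isScalarMat_mul_comm h (b₁ : Matrix (Fin 4) (Fin 4) F)
    rw [Units.val_mul, ← mul_assoc, hb₁anti, neg_mul, mul_assoc, mul_assoc, h2b] at h1
    have h2 : (2 : F) • ((a₁ : Matrix (Fin 4) (Fin 4) F) *
        ((b₁ : Matrix (Fin 4) (Fin 4) F) * a₂)) = 0 := by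
      rw [two_smul]; nth_rewrite 1 [← h1]; exact neg_add_cancel _
    have h3 := (smul_eq_zero.1 h2).resolve_left hN.two_ne_zero
    rw [← Units.val_mul, ← Units.val_mul] at h3
    exact Units.ne_zero _ h3
  set A₁ := (a₁ : Matrix (Fin 4) (Fin 4) F)
  set A₂ := (a₂ : Matrix (Fin 4) (Fin 4) F)
  obtain ⟨w, hw⟩ : ∃ w, ((1 + A₁) * (1 + A₂)) *ᵥ w ≠ 0 := by
    by_contra hcon
    push Not at hcon
    have h0 : (1 + A₁) * (1 + A₂) = 0 :=
      Matrix.ext_of_mulVec_single fun k => by rw [hcon, Matrix.zero_mulVec]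
    have h1 := congrArg Matrix.trace h0
    rw [add_mul, one_mul, mul_add, mul_one, Matrix.trace_add, Matrix.trace_add, Matrix.trace_add,
      Matrix.trace_one, hN.trace_eq_zero ha₁ ha₁s, hN.trace_eq_zero ha₂ ha₂s, ← Units.val_mul,
      hN.trace_eq_zero (N.mul_mem ha₁ ha₂) h12ns, Matrix.trace_zero, Fintype.card_fin] at h1
    exact hN.four_ne_zero (by simpa using h1)
  set e := ((1 + A₁) * (1 + A₂)) *ᵥ w with he
  have he1 : A₁ *ᵥ e = e := by
    rw [he, Matrix.mulVec_mulVec, ← mul_assoc, mul_add A₁ 1, mul_one, ← pow_two, ha₁2, add_comm A₁ 1]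
  have he2 : A₂ *ᵥ e = e := by
    rw [he, Matrix.mulVec_mulVec, ← mul_assoc,
      show A₂ * (1 + A₁) = (1 + A₁) * A₂ by rw [mul_add, add_mul, mul_one, one_mul, h21], mul_assoc,
      mul_add A₂ 1, mul_one, ← pow_two, ha₂2, add_comm A₂ 1]
  -- the basis
  let g : Fin 4 → GL (Fin 4) F := ![1, b₁, b₂, b₁ * b₂]
  let s₁ : Fin 4 → F := ![1, -1, 1, -1]
  let s₂ : Fin 4 → F := ![1, 1, -1, -1]
  have hg : ∀ j, g j ∈ N := fun j => by
    fin_cases j
    · exact N.one_mem
    · exact hb₁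
    · exact hb₂
    · exact N.mul_mem hb₁ hb₂
  let v : Fin 4 → (Fin 4 → F) := fun j => (g j : Matrix (Fin 4) (Fin 4) F) *ᵥ e
  have hv1 : ∀ j, A₁ *ᵥ v j = s₁ j • v j := fun j => by
    have hB1 : A₁ *ᵥ ((b₁ : Matrix (Fin 4) (Fin 4) F) *ᵥ e) = -((b₁ : Matrix (Fin 4) (Fin 4) F) *ᵥ e) := by
      rw [Matrix.mulVec_mulVec, ha₁b, Matrix.neg_mulVec, ← Matrix.mulVec_mulVec, he1]
    have hB2 : A₁ *ᵥ ((b₂ : Matrix (Fin 4) (Fin 4) F) *ᵥ e) = (b₂ : Matrix (Fin 4) (Fin 4) F) *ᵥ e := by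
      rw [Matrix.mulVec_mulVec, ← hb₂1, ← Matrix.mulVec_mulVec, he1]
    fin_cases j
    · simp [v, g, s₁, he1]
    · simp [v, g, s₁, hB1]
    · simp [v, g, s₁, hB2]
    · show A₁ *ᵥ (((b₁ * b₂ : GL (Fin 4) F) : Matrix (Fin 4) (Fin 4) F) *ᵥ e) = _
      rw [Units.val_mul, ← Matrix.mulVec_mulVec, Matrix.mulVec_mulVec _ A₁, ha₁b, Matrix.neg_mulVec,
        ← Matrix.mulVec_mulVec, hB2]
      simp [v, g, s₁]
  have hv2 : ∀ j, A₂ *ᵥ v j = s₂ j • v j := fun j => by
    have hB1 : A₂ *ᵥ ((b₁ : Matrix (Fin 4) (Fin 4) F) *ᵥ e) = (b₁ : Matrix (Fin 4) (Fin 4) F) *ᵥ e := by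
      rw [Matrix.mulVec_mulVec, h2b, ← Matrix.mulVec_mulVec, he2]
    have hB2 : A₂ *ᵥ ((b₂ : Matrix (Fin 4) (Fin 4) F) *ᵥ e) = -((b₂ : Matrix (Fin 4) (Fin 4) F) *ᵥ e) := by
      rw [Matrix.mulVec_mulVec, show A₂ * (b₂ : Matrix (Fin 4) (Fin 4) F) = -((b₂ : Matrix (Fin 4) (Fin 4) F) * A₂) by
        rw [hb₂2, neg_neg], Matrix.neg_mulVec, ← Matrix.mulVec_mulVec, he2]
    fin_cases j
    · simp [v, g, s₂, he2]
    · simp [v, g, s₂, hB1]
    · simp [v, g, s₂, hB2]
    · show A₂ *ᵥ (((b₁ * b₂ : GL (Fin 4) F) : Matrix (Fin 4) (Fin 4) F) *ᵥ e) = _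
      rw [Units.val_mul, ← Matrix.mulVec_mulVec, Matrix.mulVec_mulVec _ A₂, h2b,
        ← Matrix.mulVec_mulVec, hB2, Matrix.mulVec_neg]
      simp [v, g, s₂]
  have hv0 : ∀ j, v j ≠ 0 := fun j h => hw ((mulVec_eq_zero_iff (g j)).1 h)
  have hne : (1 : F) ≠ -1 := fun h => hN.two_ne_zero (by linear_combination h)
  have hsep : ∀ j k, s₁ j = s₁ k → s₂ j = s₂ k → j = k := by
    intro j k
    fin_cases j <;> fin_cases k <;> simp [s₁, s₂, hne, hne.symm]
  -- independence by applying projections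
  have hcoef : ∀ (c : Fin 4 → F) (t₁ t₂ : F), A₁ *ᵥ (∑ j, c j • v j) = t₁ • ∑ j, c j • v j →
      A₂ *ᵥ (∑ j, c j • v j) = t₂ • ∑ j, c j • v j → LinearIndependent F v →
      ∀ j, c j ≠ 0 → s₁ j = t₁ ∧ s₂ j = t₂ := by
    intro c t₁ t₂ h1 h2 hli j hj
    simp only [Matrix.mulVec_sum, Matrix.mulVec_smul, hv1, hv2, Finset.smul_sum, smul_smul] at h1 h2
    have e1 := linearIndependent_iff'.1 hli Finset.univ (fun j => c j * s₁ j - t₁ * c j)
      (by simp only [sub_smul, Finset.sum_sub_distrib]; rw [h1, sub_self]) j (Finset.mem_univ j)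
    have e2 := linearIndependent_iff'.1 hli Finset.univ (fun j => c j * s₂ j - t₂ * c j)
      (by simp only [sub_smul, Finset.sum_sub_distrib]; rw [h2, sub_self]) j (Finset.mem_univ j)
    exact ⟨mul_left_cancel₀ hj (by linear_combination e1), mul_left_cancel₀ hj (by linear_combination e2)⟩
  have hli : LinearIndependent F v := by
    rw [Fintype.linearIndependent_iff]
    intro c hc k
    have h1 := congrArg (fun u => A₁ *ᵥ u + s₁ k • u) hc
    simp only [Matrix.mulVec_sum, Matrix.mulVec_smul, hv1, Finset.smul_sum, Matrix.mulVec_zero,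
      smul_zero, add_zero, ← Finset.sum_add_distrib, smul_smul, ← add_smul] at h1
    have h2 := congrArg (fun u => A₂ *ᵥ u + s₂ k • u) h1
    simp only [Matrix.mulVec_sum, Matrix.mulVec_smul, hv2, Finset.smul_sum, Matrix.mulVec_zero,
      smul_zero, add_zero, ← Finset.sum_add_distrib, smul_smul, ← add_smul] at h2
    rw [Fin.sum_univ_four] at h2
    have h4 := hN.four_ne_zero
    obtain rfl | rfl | rfl | rfl : k = 0 ∨ k = 1 ∨ k = 2 ∨ k = 3 := by fin_cases k <;> simp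
    all_goals simp [s₁, s₂, hv0] at h2
    all_goals
      first
        | exact (mul_eq_zero.1 (show (4 : F) * c _ = 0 by linear_combination h2)).resolve_left h4
        | exact (mul_eq_zero.1 (show (4 : F) * c _ = 0 by linear_combination -h2)).resolve_left h4
  let b : Module.Basis (Fin 4) F (Fin 4 → F) :=
    basisOfLinearIndependentOfCardEqFinrank hli (by simp)
  have hb : ∀ j, b j = v j := fun j => by simp [b]
  -- images of `e`
  have hpm : ∀ y ∈ N, ∀ (a : GL (Fin 4) F), a ∈ N → (a : Matrix (Fin 4) (Fin 4) F) *ᵥ e = e →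
      ∃ t : F, (a : Matrix (Fin 4) (Fin 4) F) *ᵥ ((y : Matrix (Fin 4) (Fin 4) F) *ᵥ e) =
        t • ((y : Matrix (Fin 4) (Fin 4) F) *ᵥ e) := by
    intro y hy a ha hae
    rcases hN.anti ha hy with h | h
    · exact ⟨1, by rw [Matrix.mulVec_mulVec, h, ← Matrix.mulVec_mulVec, hae, one_smul]⟩
    · exact ⟨-1, by rw [Matrix.mulVec_mulVec, h, Matrix.neg_mulVec, ← Matrix.mulVec_mulVec, hae, neg_one_smul]⟩
  have himg : ∀ y ∈ N, ∃ (k : Fin 4) (l : F), l ∈ F₀ ∧
      (y : Matrix (Fin 4) (Fin 4) F) *ᵥ e = l • b k := by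
    intro y hy
    set u := (y : Matrix (Fin 4) (Fin 4) F) *ᵥ e with hu
    obtain ⟨t₁, ht₁⟩ := hpm y hy a₁ ha₁ he1
    obtain ⟨t₂, ht₂⟩ := hpm y hy a₂ ha₂ he2
    have hexp : u = ∑ j, b.repr u j • v j := by
      conv_lhs => rw [← b.sum_repr u]
      simp [hb]
    have hc := hcoef (fun j => b.repr u j) t₁ t₂ (by rw [← hexp]; exact ht₁) (by rw [← hexp]; exact ht₂) hli
    obtain ⟨k, hk⟩ : ∃ k, b.repr u k ≠ 0 := by
      by_contra hcon
      push Not at hcon
      have : u = 0 := by rw [hexp]; simp [hcon]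
      exact hw ((mulVec_eq_zero_iff y).1 this)
    have huk : u = b.repr u k • v k := by
      conv_lhs => rw [hexp]
      refine Finset.sum_eq_single k (fun j _ hjk => ?_) (by simp)
      by_contra hne'
      refine hjk (hsep j k ?_ ?_) <;>
      · have hj : b.repr u j ≠ 0 := fun h => hne' (by rw [h, zero_smul])
        simp only [(hc j hj).1, (hc j hj).2, (hc k hk).1, (hc k hk).2]
    refine ⟨k, b.repr u k, ?_, by rw [hb]; exact huk⟩
    set l := b.repr u k
    -- `l` is a fourth root of unity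
    have hl4 : l ^ 4 = 1 := by
      set w := (g k)⁻¹ * y
      have hwN : w ∈ N := N.mul_mem (N.inv_mem (hg k)) hy
      have hwe : (w : Matrix (Fin 4) (Fin 4) F) *ᵥ e = l • e := by
        rw [mulVec_mul, ← hu, huk, Matrix.mulVec_smul, inv_mulVec]
      have hpow : ∀ m : ℕ, ((w ^ m : GL (Fin 4) F) : Matrix (Fin 4) (Fin 4) F) *ᵥ e = l ^ m • e := by
        intro m
        induction m with
        | zero => simp
        | succ m ih => rw [pow_succ, mulVec_mul, hwe, Matrix.mulVec_smul, ih, smul_smul, ← pow_succ']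
      have h4 := hpow 4
      rw [hN.pow_four hwN, Units.val_one, Matrix.one_mulVec] at h4
      exact (smul_left_injective F hw (show (1 : F) • e = l ^ 4 • e by rw [one_smul]; exact h4)).symm
    have h4 : (l - 1) * (l + 1) * (l - i) * (l + i) = 0 := by
      linear_combination hl4 - (l ^ 2 - 1) * hi
    simp only [mul_eq_zero, sub_eq_zero, add_eq_zero_iff_eq_neg, or_assoc] at h4
    rcases h4 with h | h | h | h <;> rw [h]
    · exact one_mem _
    · exact neg_mem (one_mem _)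
    · exact hiF
    · exact neg_mem hiF
  refine realisableOver_of_basis b fun y hy k j => ?_
  obtain ⟨k', l, hl, hyl⟩ := himg (y * g j) (N.mul_mem hy (hg j))
  rw [hb, show v j = (g j : Matrix (Fin 4) (Fin 4) F) *ᵥ e from rfl, ← mulVec_mul, hyl, map_smul,
    Module.Basis.repr_self, Finsupp.smul_single, smul_eq_mul, mul_one, Finsupp.single_apply]
  split
  · exact hl
  · exact zero_mem _

/-- An invariant form without restriction: a symmetric or alternating one. -/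
theorem SymType.bilinear_form (hN : SymType N) (habs : AbsIrr N)
    (hc : ∀ c : F, (∃ x ∈ N, (x : Matrix (Fin 4) (Fin 4) F) = c • 1) → c * c = 1) :
    (∃ Q : (Fin 4 → F) → F, Geo.IsNondegenerateQuadraticForm Q ∧ Geo.FixesQuadForm (Geo.matrixSet N) Q) ∨
    ∃ f : (Fin 4 → F) → (Fin 4 → F) → F, Geo.IsSymplecticForm f ∧ Geo.FixesForm (Geo.matrixSet N) f := by
  obtain ⟨B, hB0, hB⟩ := hN.exists_form (RingHom.id F) hc
  let f : (Fin 4 → F) → (Fin 4 → F) → F := fun u v => u ⬝ᵥ B *ᵥ v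
  have hfix : ∀ x ∈ N, ∀ u v, f ((x : Matrix (Fin 4) (Fin 4) F) *ᵥ u)
      ((x : Matrix (Fin 4) (Fin 4) F) *ᵥ v) = f u v := by
    intro x hx u v
    show ((x : Matrix (Fin 4) (Fin 4) F) *ᵥ u) ⬝ᵥ B *ᵥ ((x : Matrix (Fin 4) (Fin 4) F) *ᵥ v) = _
    rw [← Matrix.vecMul_transpose, ← Matrix.dotProduct_mulVec, Matrix.mulVec_mulVec, Matrix.mulVec_mulVec]
    have h1 := hB x hx
    rw [RingHom.coe_id, Matrix.map_id] at h1
    rw [h1]
  let g : (Fin 4 → F) → (Fin 4 → F) → F := fun u v => f u v + f v u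
  have hf : Geo.IsBilinearForm f := ⟨fun x y v => by simp [f, add_dotProduct],
    fun c x v => by simp [f], fun v x y => by simp [f, Matrix.mulVec_add],
    fun c v x => by simp [f, Matrix.mulVec_smul]⟩
  -- non-degeneracy from irreducibility
  have hnd : ∀ k : (Fin 4 → F) → (Fin 4 → F) → F, Geo.IsBilinearForm k →
      (∀ x ∈ N, ∀ u v, k ((x : Matrix (Fin 4) (Fin 4) F) *ᵥ u)
        ((x : Matrix (Fin 4) (Fin 4) F) *ᵥ v) = k u v) →
      (∀ u v, k v u = 0 → k u v = 0) → (∃ u v, k u v ≠ 0) → Geo.IsNondegenerateForm k := by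
    intro k hk hkN hrefl ⟨u₀, v₀, h0⟩
    let R : Submodule F (Fin 4 → F) :=
      { carrier := {v | ∀ x, k v x = 0}
        zero_mem' := fun x => by simpa using hk.smul_left 0 0 x
        add_mem' := fun {a b} ha hb x => by rw [hk.add_left, ha, hb, add_zero]
        smul_mem' := fun c a ha x => by rw [hk.smul_left, ha, mul_zero] }
    have hR : R = ⊥ := by
      refine (irr_iff.1 habs.1 R fun x hx v hv w => ?_).resolve_right fun h => h0 ?_
      · have h1 := hkN x hx v (((x⁻¹ : GL (Fin 4) F) : Matrix (Fin 4) (Fin 4) F) *ᵥ w)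
        rw [mulVec_inv] at h1
        rw [h1]; exact hv _
      · exact (show u₀ ∈ R from h ▸ Submodule.mem_top) v₀
    intro v hv
    have hv' : ∃ x, k v x ≠ 0 := by
      by_contra hc
      push Not at hc
      exact hv ((Submodule.mem_bot F).1 (hR ▸ (show v ∈ R from hc)))
    obtain ⟨x, hx⟩ := hv'
    exact ⟨⟨x, fun h => hx (hrefl v x h)⟩, x, hx⟩
  have hfne : ∃ u v, f u v ≠ 0 := by
    by_contra hc
    push Not at hc
    refine hB0 (Matrix.ext fun a b => ?_)
    have := hc (Pi.single a 1) (Pi.single b 1)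
    simpa [f, Matrix.mulVec_single_one, single_dotProduct] using this
  by_cases hg : ∀ u v, g u v = 0
  · have hskew : ∀ u v, f u v = -f v u := fun u v => eq_neg_of_add_eq_zero_left (hg u v)
    refine Or.inr ⟨f, ⟨hf, hskew, fun v => ?_, hnd f hf hfix (fun u v h => by rw [hskew, h, neg_zero]) hfne⟩,
      fun s ⟨x, hx, hs⟩ => hs ▸ hfix x hx⟩
    have h1 : (2 : F) * f v v = 0 := by linear_combination hg v v
    exact (mul_eq_zero.1 h1).resolve_left hN.two_ne_zero
  · push Not at hg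
    have hgb : Geo.IsBilinearForm g := ⟨fun x y v => by simp only [g, hf.add_left, hf.add_right]; ring,
      fun c x v => by simp only [g, hf.smul_left, hf.smul_right]; ring,
      fun v x y => by simp only [g, hf.add_left, hf.add_right]; ring,
      fun c v x => by simp only [g, hf.smul_left, hf.smul_right]; ring⟩
    have hgnd := hnd g hgb (fun x hx u v => by simp only [g, hfix x hx])
      (fun u v h => by simp only [g] at h ⊢; rw [add_comm]; exact h) hg
    have hpol : QuadraticMap.polar (fun v => f v v) = g := by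
      funext u v
      simp only [QuadraticMap.polar, hf.add_left, hf.add_right, g]
      ring
    refine Or.inl ⟨fun v => f v v, ⟨fun c v => by simp only [hf.smul_left, hf.smul_right]; ring,
      hpol ▸ hgb, hpol ▸ hgnd⟩, fun s ⟨x, hx, hs⟩ v => hs ▸ hfix x hx v v⟩

/-- An invariant unitary form. -/
theorem SymType.unitary_form (hN : SymType N) (habs : AbsIrr N) (σ : F ≃+* F)
    (hne : σ ≠ RingEquiv.refl F) (hinv : ∀ a, σ (σ a) = a)
    (hc : ∀ c : F, (∃ x ∈ N, (x : Matrix (Fin 4) (Fin 4) F) = c • 1) → c * σ c = 1) :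
    ∃ f : (Fin 4 → F) → (Fin 4 → F) → F, Geo.IsUnitaryForm σ f ∧ Geo.FixesForm (Geo.matrixSet N) f := by
  obtain ⟨B, hB0, hB⟩ := hN.exists_form σ.toRingHom hc
  let f : (Fin 4 → F) → (Fin 4 → F) → F := fun u v => u ⬝ᵥ B *ᵥ (σ ∘ v)
  have hfix : ∀ x ∈ N, ∀ u v, f ((x : Matrix (Fin 4) (Fin 4) F) *ᵥ u)
      ((x : Matrix (Fin 4) (Fin 4) F) *ᵥ v) = f u v := by
    intro x hx u v
    show ((x : Matrix (Fin 4) (Fin 4) F) *ᵥ u) ⬝ᵥ B *ᵥ (σ ∘ ((x : Matrix (Fin 4) (Fin 4) F) *ᵥ v)) = _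
    have h2 : σ ∘ ((x : Matrix (Fin 4) (Fin 4) F) *ᵥ v) =
        ((x : Matrix (Fin 4) (Fin 4) F).map σ) *ᵥ (σ ∘ v) :=
      funext fun k => RingHom.map_mulVec σ.toRingHom _ _ k
    rw [h2, ← Matrix.vecMul_transpose, ← Matrix.dotProduct_mulVec, Matrix.mulVec_mulVec,
      Matrix.mulVec_mulVec]
    rw [show (x : Matrix (Fin 4) (Fin 4) F)ᵀ * B * ((x : Matrix (Fin 4) (Fin 4) F).map σ) = B from hB x hx]
  have hal : ∀ x y v, f (x + y) v = f x v + f y v := fun x y v => by simp [f, add_dotProduct]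
  have hsl : ∀ (c : F) x v, f (c • x) v = c * f x v := fun c x v => by simp [f]
  obtain ⟨u₀, v₀, h0⟩ : ∃ u v, f u v ≠ 0 := by
    by_contra hc
    push Not at hc
    refine hB0 (Matrix.ext fun a b => ?_)
    have := hc (Pi.single a 1) (Pi.single b 1)
    simp only [f] at this
    rw [show σ ∘ (Pi.single b (1 : F) : Fin 4 → F) = Pi.single b 1 by
      funext k; simp [Pi.single_apply, apply_ite σ]] at this
    simpa [f, Matrix.mulVec_single_one, single_dotProduct] using this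
  have har : ∀ v x y, f v (x + y) = f v x + f v y := fun v x y => by
    show v ⬝ᵥ B *ᵥ (σ ∘ (x + y)) = _
    rw [show σ ∘ (x + y) = σ ∘ x + σ ∘ y from funext fun k => map_add σ _ _, Matrix.mulVec_add,
      dotProduct_add]
  have hsr : ∀ (c : F) v x, f v (c • x) = σ c * f v x := fun c v x => by
    show v ⬝ᵥ B *ᵥ (σ ∘ (c • x)) = _
    rw [show σ ∘ (c • x) = σ c • (σ ∘ x) from funext fun k => map_mul σ _ _, Matrix.mulVec_smul,
      dotProduct_smul, smul_eq_mul]
  -- a non-zero hermitian combination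
  obtain ⟨ω, hω⟩ : ∃ ω : F, (fun u v => ω * f u v + σ (ω * f v u)) ≠ fun _ _ => 0 := by
    by_contra hc
    push Not at hc
    obtain ⟨a, ha⟩ : ∃ a, σ a ≠ a := by
      by_contra h
      push Not at h
      exact hne (RingEquiv.ext h)
    have h1 := congrFun (congrFun (hc 1) u₀) v₀
    have h2 := congrFun (congrFun (hc a) u₀) v₀
    simp only [one_mul, map_mul] at h1 h2
    refine mul_ne_zero (sub_ne_zero.2 ha.symm) h0 ?_
    linear_combination h2 - σ a * h1
  let h : (Fin 4 → F) → (Fin 4 → F) → F := fun u v => ω * f u v + σ (ω * f v u)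
  have hhl : ∀ x y v, h (x + y) v = h x v + h y v := fun x y v => by
    simp only [h, hal, har, mul_add, map_add]; ring
  have hhs : ∀ (c : F) x v, h (c • x) v = c * h x v := fun c x v => by
    simp only [h, hsl, hsr, map_mul, hinv]; ring
  have hherm : ∀ v w, h v w = σ (h w v) := fun v w => by
    simp only [h, map_add, map_mul, hinv]; ring
  have hhN : ∀ x ∈ N, ∀ u v, h ((x : Matrix (Fin 4) (Fin 4) F) *ᵥ u)
      ((x : Matrix (Fin 4) (Fin 4) F) *ᵥ v) = h u v := fun x hx u v => by simp only [h, hfix x hx]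
  refine ⟨h, ⟨hne, hinv, hhl, hhs, hherm, ?_⟩, fun s ⟨x, hx, hs⟩ => hs ▸ hhN x hx⟩
  let R : Submodule F (Fin 4 → F) :=
    { carrier := {v | ∀ x, h v x = 0}
      zero_mem' := fun x => by simpa using hhs 0 0 x
      add_mem' := fun {a b} ha hb x => by rw [hhl, ha, hb, add_zero]
      smul_mem' := fun c a ha x => by rw [hhs, ha, mul_zero] }
  have hR : R = ⊥ := by
    refine (irr_iff.1 habs.1 R fun x hx v hv w => ?_).resolve_right fun ht => hω ?_
    · have h1 := hhN x hx v (((x⁻¹ : GL (Fin 4) F) : Matrix (Fin 4) (Fin 4) F) *ᵥ w)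
      rw [mulVec_inv] at h1
      rw [h1]; exact hv _
    · funext u v
      exact (show u ∈ R from ht ▸ Submodule.mem_top) v
  intro v hv
  obtain ⟨x, hx⟩ : ∃ x, h v x ≠ 0 := by
    by_contra hc
    push Not at hc
    exact hv ((Submodule.mem_bot F).1 (hR ▸ (show v ∈ R from hc)))
  exact ⟨⟨x, fun h0 => hx (by rw [hherm, h0, map_zero])⟩, x, hx⟩

omit [Finite F] in
/-- A transvection centred at `z` with axis containing `x z` does not normalise the group. -/
theorem SymType.transvection_absurd (hN : SymType N) {x : GL (Fin 4) F} (hx : x ∈ N)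
    {g : GL (Fin 4) F} (hg : g ∈ Geo.subgroupNormalizer N) {φ : (Fin 4 → F) →ₗ[F] F}
    {z w : Fin 4 → F} (hgu : ∀ u, (g : Matrix (Fin 4) (Fin 4) F) *ᵥ u = u + φ u • z) (hφz : φ z = 0)
    (hφy' : φ ((x : Matrix (Fin 4) (Fin 4) F) *ᵥ z) = 0) (hφw : φ w = 1)
    (hz : (x : Matrix (Fin 4) (Fin 4) F) *ᵥ z ∉ Submodule.span F {z}) : False := by
  set y := (x : Matrix (Fin 4) (Fin 4) F) *ᵥ z with hy
  have hφy : φ y = 0 := hφy'
  have hcN : g * x * g⁻¹ * x⁻¹ ∈ N :=
    N.mul_mem ((Subgroup.mem_normalizer_iff.1 hg x).1 hx) (N.inv_mem hx)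
  have hginv : ∀ u, ((g⁻¹ : GL (Fin 4) F) : Matrix (Fin 4) (Fin 4) F) *ᵥ u = u - φ u • z := by
    intro u
    apply mulVec_injective g
    simp only [mulVec_inv]
    rw [hgu, map_sub, map_smul, hφz, smul_zero, sub_zero]
    abel
  set c := g * x * g⁻¹ * x⁻¹ with hcdef
  have hca : ∀ u, (c : Matrix (Fin 4) (Fin 4) F) *ᵥ u =
      u + φ u • z - φ (((x⁻¹ : GL (Fin 4) F) : Matrix (Fin 4) (Fin 4) F) *ᵥ u) • y := by
    intro u
    rw [hcdef, mulVec_mul, mulVec_mul, mulVec_mul, hginv, Matrix.mulVec_sub, Matrix.mulVec_smul,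
      mulVec_inv, ← hy, hgu, map_sub, map_smul, hφy, smul_zero, sub_zero]
    abel
  by_cases hcs : IsScalarMat (c : Matrix (Fin 4) (Fin 4) F)
  · obtain ⟨l, hl⟩ := hcs
    -- compare at a vector fixed by `c`, then at `w`
    obtain ⟨u, ⟨hu1, hu2⟩, hu0⟩ : ∃ u, (φ u = 0 ∧
        φ (((x⁻¹ : GL (Fin 4) F) : Matrix (Fin 4) (Fin 4) F) *ᵥ u) = 0) ∧ u ≠ 0 := by
      let L : (Fin 4 → F) →ₗ[F] F × F :=
        φ.prod (φ.comp (Matrix.toLin' ((x⁻¹ : GL (Fin 4) F) : Matrix (Fin 4) (Fin 4) F)))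
      have hker : LinearMap.ker L ≠ ⊥ := fun h => by
        have h1 := LinearMap.finrank_le_finrank_of_injective (LinearMap.ker_eq_bot.1 h)
        simp [Module.finrank_fintype_fun_eq_card] at h1
      obtain ⟨u, hu, hu0⟩ := (Submodule.ne_bot_iff _).1 hker
      have hu' : L u = 0 := hu
      exact ⟨u, ⟨congrArg Prod.fst hu', by simpa [L] using congrArg Prod.snd hu'⟩, hu0⟩
    have h1 := hca u
    rw [hu1, hu2, zero_smul, zero_smul, add_zero, sub_zero, hl, Matrix.smul_mulVec, Matrix.one_mulVec]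
      at h1
    have hl1 : l = 1 := smul_left_injective F hu0 (by simp only [one_smul]; exact h1)
    have h2 := hca w
    rw [hl, hl1, one_smul, Matrix.one_mulVec, hφw, one_smul, add_sub_assoc, left_eq_add, sub_eq_zero] at h2
    by_cases hk : φ (((x⁻¹ : GL (Fin 4) F) : Matrix (Fin 4) (Fin 4) F) *ᵥ w) = 0
    · rw [hk, zero_smul] at h2
      exact hz (by rw [hy, h2, Matrix.mulVec_zero]; exact Submodule.zero_mem _)
    · refine hz ?_
      rw [hy] at h2 ⊢
      refine Submodule.mem_span_singleton.2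
        ⟨(φ (((x⁻¹ : GL (Fin 4) F) : Matrix (Fin 4) (Fin 4) F) *ᵥ w))⁻¹, ?_⟩
      conv_lhs => arg 2; rw [h2]
      rw [smul_smul, inv_mul_cancel₀ hk, one_smul]
  · have ht := hN.trace_eq_zero hcN hcs
    obtain ⟨a, ha⟩ := exists_dotProduct_eq φ
    have hmat : (c : Matrix (Fin 4) (Fin 4) F) = 1 + Matrix.vecMulVec z a -
        Matrix.vecMulVec y (a ᵥ* ((x⁻¹ : GL (Fin 4) F) : Matrix (Fin 4) (Fin 4) F)) := by
      refine Matrix.ext_of_mulVec_single fun j => ?_
      rw [hca, Matrix.sub_mulVec, Matrix.add_mulVec, Matrix.one_mulVec, Matrix.vecMulVec_mulVec,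
        Matrix.vecMulVec_mulVec, op_smul_eq_smul, op_smul_eq_smul, ← ha, ← Matrix.dotProduct_mulVec, ← ha]
    rw [hmat, Matrix.trace_sub, Matrix.trace_add, Matrix.trace_one, Matrix.trace_vecMulVec,
      Matrix.trace_vecMulVec, dotProduct_comm z a, ← ha, hφz, dotProduct_comm y,
      ← Matrix.dotProduct_mulVec, ← ha, show ((x⁻¹ : GL (Fin 4) F) : Matrix (Fin 4) (Fin 4) F) *ᵥ y = z
        from inv_mulVec x z, hφz, add_zero, sub_zero, Fintype.card_fin] at ht
    exact hN.four_ne_zero (by simpa using ht)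


omit [Finite F] in
/-- `SL₄` does not normalise such a group. -/
theorem SymType.not_normalized (hN : SymType N) :
    ¬ Geo.specialLinear (Fin 4) F ≤ Geo.subgroupNormalizer N := by
  intro hle
  obtain ⟨x, hx, hxs⟩ := hN.exists_nonscalar
  obtain ⟨z, hz⟩ : ∃ z : Fin 4 → F, (x : Matrix (Fin 4) (Fin 4) F) *ᵥ z ∉ Submodule.span F {z} := by
    by_contra hcon
    push Not at hcon
    have hc : ∀ z : Fin 4 → F, ∃ c : F, (x : Matrix (Fin 4) (Fin 4) F) *ᵥ z = c • z := fun z => by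
      obtain ⟨c, hc⟩ := Submodule.mem_span_singleton.1 (hcon z)
      exact ⟨c, hc.symm⟩
    choose c hc using hc
    have key : ∀ j k : Fin 4, c (Pi.single j 1) = c (Pi.single k 1) := by
      intro j k
      by_cases hjk : j = k
      · rw [hjk]
      have h1 := hc (Pi.single j 1 + Pi.single k 1)
      rw [Matrix.mulVec_add, hc, hc] at h1
      have h2 := congrFun h1 j
      have h3 := congrFun h1 k
      simp [hjk, Ne.symm hjk] at h2 h3
      rw [h2, h3]
    refine hxs ⟨c (Pi.single 0 1), Matrix.ext_of_mulVec_single fun j => ?_⟩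
    rw [hc, Matrix.smul_mulVec, Matrix.one_mulVec, key j 0]
  set y := (x : Matrix (Fin 4) (Fin 4) F) *ᵥ z with hy
  let U : Submodule F (Fin 4 → F) := Submodule.span F {z, y}
  obtain ⟨w, -, hw⟩ : ∃ w ∈ (⊤ : Submodule F (Fin 4 → F)), w ∉ U := by
    refine SetLike.exists_of_lt (lt_top_iff_ne_top.2 fun h => ?_)
    classical
    have h2 : Module.finrank F U ≤ 2 := by
      refine (finrank_span_le_card (R := F) ({z, y} : Set (Fin 4 → F))).trans ?_
      simp only [Set.toFinset_insert, Set.toFinset_singleton]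
      exact Finset.card_le_two
    rw [h, finrank_top, Module.finrank_fintype_fun_eq_card, Fintype.card_fin] at h2
    omega
  obtain ⟨g, φ, hg, hgu, hφU, hφw⟩ :=
    exists_transvection (U := U) (z := z) (Submodule.subset_span (by simp)) hw
  exact hN.transvection_absurd hx (hle hg) hgu (hφU z (Submodule.subset_span (by simp)))
    (hφU y (Submodule.subset_span (by simp))) hφw hz

end Cfsg.Agent.AschbacherFour
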