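import Cfsg.Agent.Lib.AschbacherFour.PauliForms

/-!
Monomial matrices in dimension four over the field with five elements normalise a group of
symplectic type.
-/

set_option autoImplicit false

namespace Cfsg.Agent.AschbacherFour

open Matrix Aschbacher
open scoped MatrixGroups

variable {F : Type*} [Field F]

/-- A group of symplectic type acts absolutely irreducibly. -/
theorem SymType.absIrr [Finite F] {N : Subgroup (GL (Fin 4) F)} (hN : SymType N) : AbsIrr N := by
  refine ⟨irr_iff.2 fun W hW => ?_, fun M hM => hN.irred M fun x hx => (hM _ ⟨x, hx, rfl⟩).symm⟩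
  by_cases h0 : W = ⊥
  · exact Or.inl h0
  obtain ⟨w, hw, hw0⟩ := (Submodule.ne_bot_iff W).1 h0
  obtain ⟨j, hj⟩ : ∃ j, w j ≠ 0 := by
    by_contra hc; push Not at hc; exact hw0 (funext hc)
  refine Or.inr (eq_top_iff.2 fun v _ => ?_)
  have hM : ∀ M : Matrix (Fin 4) (Fin 4) F, M *ᵥ w ∈ W := by
    intro M
    have : M ∈ Submodule.span F (Set.range fun q : Quot N =>
        (((Quotient.out q : N) : GL (Fin 4) F) : Matrix (Fin 4) (Fin 4) F)) :=
      hN.span_eq_top ▸ Submodule.mem_top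
    induction this using Submodule.span_induction with
    | mem x hx => obtain ⟨q, rfl⟩ := hx; exact hW _ (Quotient.out q).2 w hw
    | zero => rw [Matrix.zero_mulVec]; exact W.zero_mem
    | add x y _ _ hx hy => rw [Matrix.add_mulVec]; exact W.add_mem hx hy
    | smul c x _ hx => rw [Matrix.smul_mulVec]; exact W.smul_mem c hx
  have h2 := hM (Matrix.vecMulVec v (Pi.single j (w j)⁻¹))
  rw [Matrix.vecMulVec_mulVec, op_smul_eq_smul, single_dotProduct, inv_mul_cancel₀ hj, one_smul] at h2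
  exact h2

/-- The four group of permutations. -/
def IsVier (π : Equiv.Perm (Fin 4)) : Prop :=
  π * π = 1 ∧ Equiv.Perm.sign π = 1

instance : DecidablePred IsVier := fun π => inferInstanceAs (Decidable (_ ∧ _))

theorem IsVier.mul {π π' : Equiv.Perm (Fin 4)} (h : IsVier π) (h' : IsVier π') :
    IsVier (π * π') ∧ π * π' = π' * π := by
  revert π π'
  decide +kernel

theorem IsVier.conj {π : Equiv.Perm (Fin 4)} (h : IsVier π) (σ : Equiv.Perm (Fin 4)) :
    IsVier (σ * π * σ⁻¹) := by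
  refine ⟨?_, ?_⟩
  · rw [show σ * π * σ⁻¹ * (σ * π * σ⁻¹) = σ * (π * π) * σ⁻¹ by group, h.1, mul_one, mul_inv_cancel]
  · rw [map_mul, map_mul, h.2, mul_one, map_inv, mul_inv_cancel]

theorem IsVier.eq {π : Equiv.Perm (Fin 4)} (h : IsVier π) :
    π = 1 ∨ π = Equiv.swap 0 1 * Equiv.swap 2 3 ∨ π = Equiv.swap 0 2 * Equiv.swap 1 3 ∨
      π = Equiv.swap 0 3 * Equiv.swap 1 2 := by
  revert π
  decide +kernel

/-- The product over an orbit pair is constant. -/
theorem IsVier.pair {π : Equiv.Perm (Fin 4)} (h : IsVier π) {f : Fin 4 → F}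
    (hsq : ∀ i, f i ^ 2 = f 0 ^ 2) (hprod : ∏ i, f i = 1) (h4 : f 0 ^ 4 = 1) (i k : Fin 4) :
    f (π i) * f i = f (π k) * f k := by
  rw [Fin.prod_univ_four] at hprod
  have key : ∀ a b c d : F, a * b * c * d = 1 → (a * b) ^ 2 = 1 → a * b = c * d := by
    intro a b c d h1 h2
    linear_combination (-(a * b)) * h1 + (c * d) * h2
  have hp : ∀ a b : Fin 4, (f a * f b) ^ 2 = 1 := fun a b => by
    rw [mul_pow, hsq a, hsq b, ← h4]; ring
  have e1 := key (f 0) (f 1) (f 2) (f 3) hprod (hp 0 1)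
  have e2 := key (f 0) (f 2) (f 1) (f 3) (by linear_combination hprod) (hp 0 2)
  have e3 := key (f 0) (f 3) (f 1) (f 2) (by linear_combination hprod) (hp 0 3)
  have hsame : ∀ a b : Fin 4, f a * f a = f b * f b := fun a b => by
    rw [← pow_two, ← pow_two, hsq a, hsq b]
  rcases h.eq with rfl | rfl | rfl | rfl
  · exact hsame i k
  all_goals
    fin_cases i <;> fin_cases k <;> simp [Equiv.swap_apply_def] <;>
      first
        | ring1
        | linear_combination e1
        | linear_combination -e1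
        | linear_combination e2
        | linear_combination -e2
        | linear_combination e3
        | linear_combination -e3

variable (b : Module.Basis (Fin 4) F (Fin 4 → F))

/-- Determinant of a monomial matrix. -/
theorem det_monomial (A : Matrix (Fin 4) (Fin 4) F) (π : Equiv.Perm (Fin 4)) (c : Fin 4 → F)
    (h : ∀ i, A *ᵥ b i = c i • b (π i)) :
    A.det = ((Equiv.Perm.sign π : ℤ) : F) * ∏ i, c i := by
  have h1 : LinearMap.toMatrix b b (Matrix.toLin' A) =
      (Matrix.diagonal (fun i => c (π.symm i))).submatrix id π := by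
    ext i j
    rw [LinearMap.toMatrix_apply, Matrix.toLin'_apply, h, map_smul, Module.Basis.repr_self,
      Finsupp.smul_single, smul_eq_mul, mul_one, Matrix.submatrix_apply, id_eq,
      Matrix.diagonal_apply, Finsupp.single_apply]
    by_cases hij : π j = i
    · subst hij; simp
    · rw [if_neg hij, if_neg (Ne.symm hij)]
  rw [← LinearMap.det_toLin', ← LinearMap.det_toMatrix b, h1, Matrix.det_permute', Matrix.det_diagonal,
    Equiv.prod_comp π.symm c]

/-- Monomial elements with signs constant up to a fourth root of unity. -/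
def signGroup : Subgroup (GL (Fin 4) F) where
  carrier := {g | ∃ (π : Equiv.Perm (Fin 4)) (c : Fin 4 → F), IsVier π ∧
    (∀ i, (g : Matrix (Fin 4) (Fin 4) F) *ᵥ b i = c i • b (π i)) ∧
    (∀ i, c i ^ 2 = c 0 ^ 2) ∧ ∏ i, c i = 1 ∧ c 0 ^ 4 = 1}
  mul_mem' := by
    rintro g g' ⟨π, c, hπ, hg, hs, hp, h4⟩ ⟨π', c', hπ', hg', hs', hp', h4'⟩
    refine ⟨π * π', fun i => c' i * c (π' i), (hπ.mul hπ').1, fun i => ?_, fun i => ?_, ?_, ?_⟩
    · rw [mulVec_mul, hg', Matrix.mulVec_smul, hg, smul_smul, Equiv.Perm.mul_apply]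
    · simp only [mul_pow, hs, hs' i]
    · rw [Finset.prod_mul_distrib, hp', Equiv.prod_comp π' c, hp, mul_one]
    · simp only [show ∀ x : F, x ^ 4 = (x ^ 2) ^ 2 from fun x => by ring, mul_pow, hs]
      rw [← pow_mul, ← pow_mul, h4', h4, mul_one]
  one_mem' := ⟨1, 1, ⟨mul_one _, map_one _⟩, fun i => by simp, fun i => by simp, by simp, by simp⟩
  inv_mem' := by
    rintro g ⟨π, c, hπ, hg, hs, hp, h4⟩
    have hc : ∀ i, c i ≠ 0 := fun i => frame_coeff_ne_zero b (hg i)
    have hππ : ∀ i, π (π i) = i := fun i => by rw [← Equiv.Perm.mul_apply, hπ.1, Equiv.Perm.one_apply]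
    refine ⟨π, fun i => (c (π i))⁻¹, hπ, fun i => ?_, fun i => ?_, ?_, ?_⟩
    · apply mulVec_injective g
      simp only
      rw [mulVec_inv, Matrix.mulVec_smul, hg, hππ, smul_smul, inv_mul_cancel₀ (hc _), one_smul]
    · simp only [inv_pow, hs]
    · rw [Finset.prod_inv_distrib, Equiv.prod_comp π c, hp, inv_one]
    · rw [inv_pow, show ∀ x : F, x ^ 4 = (x ^ 2) ^ 2 from fun x => by ring, hs, ← pow_mul, h4, inv_one]

/-- The monomial element with the given permutation and coefficients. -/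
theorem exists_monomial (π : Equiv.Perm (Fin 4)) (c : Fin 4 → F) (hc : ∏ i, c i ≠ 0) :
    ∃ g : GL (Fin 4) F, ∀ i, (g : Matrix (Fin 4) (Fin 4) F) *ᵥ b i = c i • b (π i) := by
  let A : Matrix (Fin 4) (Fin 4) F := LinearMap.toMatrix' (b.constr F fun i => c i • b (π i))
  have hA : ∀ i, A *ᵥ b i = c i • b (π i) := fun i => by
    rw [LinearMap.toMatrix'_mulVec, Module.Basis.constr_basis]
  refine ⟨Matrix.GeneralLinearGroup.mkOfDetNeZero A ?_, hA⟩
  rw [det_monomial b A π c hA]
  rcases Int.units_eq_one_or (Equiv.Perm.sign π) with h | h <;> simp [h, hc]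

/-- A monomial subgroup of `SL₄` with fourth roots of unity as coefficients normalises a group of
symplectic type containing a square root of `-1`. -/
theorem monomial_sign [Finite F] (h2 : (2 : F) ≠ 0) {i₀ : F} (hi₀ : i₀ ^ 2 = -1)
    {H : Subgroup (GL (Fin 4) F)} (hSL : H ≤ Geo.specialLinear (Fin 4) F)
    (hH : ∀ h ∈ H, ∃ σ : Equiv.Perm (Fin 4), ∀ i, ∃ c : F,
      (h : Matrix (Fin 4) (Fin 4) F) *ᵥ b i = c • b (σ i) ∧ c ^ 4 = 1) :
    SymType (signGroup b) ∧ H ≤ Geo.subgroupNormalizer (signGroup b) ∧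
      ∃ z ∈ signGroup b, (z : Matrix (Fin 4) (Fin 4) F) = i₀ • 1 := by
  have hdet : ∀ g ∈ signGroup b, (g : Matrix (Fin 4) (Fin 4) F).det = 1 := by
    rintro g ⟨π, c, hπ, hg, -, hp, -⟩
    rw [det_monomial b _ π c hg, hπ.2, hp]; simp
  refine ⟨⟨hdet, fun M hM => ?_, ?_, ⟨2, Nat.prime_two, ?_⟩⟩, ?_, ?_⟩
  · -- trivial commutant
    have hs : ∀ (c : Fin 4 → F), (∀ i, c i ^ 2 = 1) → ∏ i, c i = 1 → ∀ (π : Equiv.Perm (Fin 4)),
        IsVier π → ∀ j, M *ᵥ (c j • b (π j)) = ∑ i, (b.repr (M *ᵥ b j) i * c i) • b (π i) := by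
      intro c hc hp π hπ j
      obtain ⟨g, hg⟩ := exists_monomial b π c (by rw [hp]; exact one_ne_zero)
      have hmem : g ∈ signGroup b := ⟨π, c, hπ, hg, fun i => by rw [hc, hc], hp,
        by rw [show c 0 ^ 4 = (c 0 ^ 2) ^ 2 by ring, hc, one_pow]⟩
      rw [← hg, Matrix.mulVec_mulVec, ← hM g hmem, ← Matrix.mulVec_mulVec]
      conv_lhs => rw [← b.sum_repr (M *ᵥ b j), Matrix.mulVec_sum]
      simp only [Matrix.mulVec_smul, hg, smul_smul]
    have hdiag : ∀ i j, i ≠ j → b.repr (M *ᵥ b j) i = 0 := by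
      intro i j hij
      let c₁ : Fin 4 → F := ![1, 1, -1, -1]
      let c₂ : Fin 4 → F := ![1, -1, 1, -1]
      have e1 := congrArg (fun v => b.repr v i) (hs c₁ (fun k => by fin_cases k <;> simp [c₁])
        (by simp [c₁, Fin.prod_univ_four]) 1 ⟨mul_one _, map_one _⟩ j)
      have e2 := congrArg (fun v => b.repr v i) (hs c₂ (fun k => by fin_cases k <;> simp [c₂])
        (by simp [c₂, Fin.prod_univ_four]) 1 ⟨mul_one _, map_one _⟩ j)
      simp only [Matrix.mulVec_smul, Equiv.Perm.one_apply, map_smul, map_sum, Finsupp.smul_apply,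
        smul_eq_mul, Module.Basis.repr_self, Finsupp.finsetSum_apply, Finsupp.smul_single,
        Finsupp.single_apply, mul_one, Finset.sum_ite_eq', Finset.mem_univ, if_true] at e1 e2
      have key : (c₁ j ≠ c₁ i) ∨ (c₂ j ≠ c₂ i) := by
        have hne : (1 : F) ≠ -1 := fun h => h2 (by linear_combination h)
        fin_cases i <;> fin_cases j <;> simp [c₁, c₂, hne, hne.symm] at hij ⊢
      rcases key with h | h
      · exact (mul_eq_zero.1 (show (c₁ j - c₁ i) * b.repr (M *ᵥ b j) i = 0 by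
          linear_combination e1)).resolve_left (sub_ne_zero.2 h)
      · exact (mul_eq_zero.1 (show (c₂ j - c₂ i) * b.repr (M *ᵥ b j) i = 0 by
          linear_combination e2)).resolve_left (sub_ne_zero.2 h)
    have hd : ∀ j, M *ᵥ b j = b.repr (M *ᵥ b j) j • b j := fun j => by
      conv_lhs => rw [← b.sum_repr (M *ᵥ b j)]
      exact Finset.sum_eq_single j (fun i _ hij => by rw [hdiag i j hij, zero_smul]) (by simp)
    refine ⟨b.repr (M *ᵥ b 0) 0, Matrix.toLin'.injective (b.ext fun j => ?_)⟩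
    obtain ⟨π, hπ, rfl⟩ : ∃ π : Equiv.Perm (Fin 4), IsVier π ∧ π 0 = j := by
      revert j; decide +kernel
    have e := hs (fun _ => 1) (fun _ => one_pow 2) (by simp) π hπ 0
    simp only [one_smul, mul_one] at e
    rw [Matrix.toLin'_apply, Matrix.toLin'_apply, Matrix.smul_mulVec, Matrix.one_mulVec, e]
    exact Finset.sum_eq_single 0 (fun i _ hi => by rw [hdiag i 0 hi, zero_smul]) (by simp)
  · -- commutators are scalar
    rintro g ⟨π, c, hπ, hg, hs, hp, h4⟩ g' ⟨π', c', hπ', hg', hs', hp', h4'⟩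
    have hc : ∀ i, c i ≠ 0 := fun i => frame_coeff_ne_zero b (hg i)
    have hc' : ∀ i, c' i ≠ 0 := fun i => frame_coeff_ne_zero b (hg' i)
    refine ⟨(c (π' 0) * c 0 * c' 0 ^ 2) / (c 0 ^ 2 * (c' (π 0) * c' 0)),
      Matrix.toLin'.injective (b.ext fun i => ?_)⟩
    simp only [Matrix.toLin'_apply, Matrix.smul_mulVec, ← Matrix.mulVec_mulVec, hg, hg',
      Matrix.mulVec_smul, smul_smul]
    rw [show π' (π i) = π (π' i) by rw [← Equiv.Perm.mul_apply, ← (hπ.mul hπ').2]; rfl]
    congr 1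
    have hne : c 0 ^ 2 * (c' (π 0) * c' 0) ≠ 0 :=
      mul_ne_zero (pow_ne_zero _ (hc 0)) (mul_ne_zero (hc' _) (hc' _))
    rw [eq_comm, div_mul_eq_mul_div, div_eq_iff hne]
    have p1 := hπ'.pair hs hp h4 i 0
    have p2 := hπ.pair hs' hp' h4' i 0
    linear_combination (-(c' 0 ^ 2 * c i * c' (π i))) * p1 + (-(c' i * c (π' i) * c 0 ^ 2)) * (-p2) +
      (c (π' i) * c i * (c i * c' (π i))) * (hs' i) * (-1) + (c' i * c (π' i) * (c' (π i) * c' i)) * hs i
  · rintro g ⟨π, c, hπ, hg, hs, hp, h4⟩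
    refine ⟨c (π 0) * c 0, Matrix.toLin'.injective (b.ext fun i => ?_)⟩
    rw [Matrix.toLin'_apply, Matrix.toLin'_apply, Matrix.smul_mulVec, Matrix.one_mulVec, pow_two,
      ← Matrix.mulVec_mulVec, hg, Matrix.mulVec_smul, hg, smul_smul,
      show π (π i) = i by rw [← Equiv.Perm.mul_apply, hπ.1, Equiv.Perm.one_apply],
      ← hπ.pair hs hp h4 i 0, mul_comm]
  · -- normalised
    have hmem : ∀ h ∈ H, ∀ g ∈ signGroup b, h * g * h⁻¹ ∈ signGroup b := by
      rintro h hh g ⟨π, c, hπ, hg, hs, hp, h4⟩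
      obtain ⟨σ, hσ⟩ := hH h hh
      choose d hd hd4 using hσ
      have hd0 : ∀ i, d i ≠ 0 := fun i => frame_coeff_ne_zero b (hd i)
      have hc : ∀ i, c i ≠ 0 := fun i => frame_coeff_ne_zero b (hg i)
      have hdp : (∏ i, d i) ^ 2 = 1 := by
        have h1 := det_monomial b _ σ d hd
        rw [det_eq_one (hSL hh)] at h1
        rcases Int.units_eq_one_or (Equiv.Perm.sign σ) with h2 | h2 <;> rw [h2] at h1 <;>
          simp at h1 <;>
            first
              | linear_combination (-(∏ i, d i) - 1) * h1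
              | linear_combination ((∏ i, d i) - 1) * h1
      have hpair : ∀ i, d (π i) ^ 2 * d i ^ 2 = d (π (σ.symm 0)) ^ 2 * d (σ.symm 0) ^ 2 := fun i =>
        hπ.pair (f := fun i => d i ^ 2)
          (fun i => by rw [← pow_mul, hd4 i, ← pow_mul, hd4 0])
          (by rw [Finset.prod_pow, hdp]) (by rw [← pow_mul, show 2 * 4 = 4 * 2 by rfl, pow_mul,
            hd4 0, one_pow]) i _
      refine ⟨σ * π * σ⁻¹, fun j => c (σ.symm j) * d (π (σ.symm j)) * (d (σ.symm j))⁻¹,
        hπ.conj σ, fun j => ?_, fun j => ?_, ?_, ?_⟩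
      · obtain ⟨i, rfl⟩ : ∃ i, σ i = j := ⟨_, σ.apply_symm_apply j⟩
        have hinv : ((h⁻¹ : GL (Fin 4) F) : Matrix (Fin 4) (Fin 4) F) *ᵥ b (σ i) = (d i)⁻¹ • b i := by
          apply mulVec_injective h
          simp only
          rw [mulVec_inv, Matrix.mulVec_smul, hd, smul_smul, inv_mul_cancel₀ (hd0 i), one_smul]
        rw [mulVec_mul, mulVec_mul, hinv, Matrix.mulVec_smul, hg, Matrix.mulVec_smul,
          Matrix.mulVec_smul, hd, smul_smul, smul_smul]
        simp only [Equiv.Perm.mul_apply, Equiv.Perm.inv_def, Equiv.symm_apply_apply]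
        congr 1
        ring
      · have hp' := hpair (σ.symm j)
        have hsq : ∀ k, ((d k)⁻¹) ^ 2 = d k ^ 2 := fun k => by
          rw [inv_pow]
          exact inv_eq_of_mul_eq_one_right (by rw [← pow_add]; exact hd4 k)
        rw [mul_pow, mul_pow, mul_pow, mul_pow, hsq, hsq, hs, hs (σ.symm 0), mul_assoc, mul_assoc, hp']
      · rw [Finset.prod_mul_distrib, Finset.prod_mul_distrib, Equiv.prod_comp σ.symm c, hp,
          Equiv.prod_comp σ.symm (fun i => (d i)⁻¹),
          Equiv.prod_comp σ.symm (fun i => d (π i)), Equiv.prod_comp π d, Finset.prod_inv_distrib,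
          one_mul, mul_inv_cancel₀ (Finset.prod_ne_zero_iff.2 fun i _ => hd0 i)]
      · rw [mul_pow, mul_pow, inv_pow, hd4, hd4, show ∀ x : F, x ^ 4 = (x ^ 2) ^ 2 from fun x => by ring,
          hs, ← pow_mul, h4]
        simp
    intro h hh
    show h ∈ Subgroup.normalizer (signGroup b : Set (GL (Fin 4) F))
    rw [Subgroup.mem_normalizer_iff]
    exact fun g => ⟨hmem h hh g, fun hg => by simpa [mul_assoc] using hmem h⁻¹ (H.inv_mem hh) _ hg⟩
  · have h4 : i₀ ^ 4 = 1 := by linear_combination (i₀ ^ 2 - 1) * hi₀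
    have hi0 : i₀ ≠ 0 := fun h => by simp [h] at h4
    refine ⟨Matrix.GeneralLinearGroup.scalar (Fin 4) (Units.mk0 i₀ hi0),
      ⟨1, fun _ => i₀, ⟨mul_one _, map_one _⟩, fun i => ?_, fun i => rfl, ?_, h4⟩, ?_⟩
    · simp
    · simp only [Finset.prod_const, Finset.card_univ, Fintype.card_fin]
      exact h4
    · simp [Matrix.smul_one_eq_diagonal]

/-- Over the field with five elements a monomial subgroup of `SL₄` normalises a group of symplectic
type. -/
theorem monomial_five [Fintype F] (hq : Fintype.card F = 5) {H : Subgroup (GL (Fin 4) F)}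
    (hSL : H ≤ Geo.specialLinear (Fin 4) F)
    (hH : ∀ h ∈ H, ∃ σ : Equiv.Perm (Fin 4), ∀ i, ∃ c : F,
      (h : Matrix (Fin 4) (Fin 4) F) *ᵥ b i = c • b (σ i)) :
    SymType (signGroup b) ∧ H ≤ Geo.subgroupNormalizer (signGroup b) ∧
      ∃ i : F, i ^ 2 = -1 ∧
        ∃ z ∈ signGroup b, (z : Matrix (Fin 4) (Fin 4) F) = i • 1 := by
  have h5 : (5 : F) = 0 := by
    have := Nat.cast_card_eq_zero F
    rwa [hq, Nat.cast_ofNat] at this
  have h2 : (2 : F) ≠ 0 := fun h => one_ne_zero (α := F) (by linear_combination h5 - 2 * h)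
  have hi : (2 : F) ^ 2 = -1 := by linear_combination h5
  obtain ⟨hR, hle, hz⟩ := monomial_sign b h2 hi hSL fun h hh => by
    obtain ⟨σ, hσ⟩ := hH h hh
    refine ⟨σ, fun i => ?_⟩
    obtain ⟨c, hc⟩ := hσ i
    have h1 := FiniteField.pow_card_sub_one_eq_one c (frame_coeff_ne_zero b hc)
    rw [hq] at h1
    exact ⟨c, hc, h1⟩
  exact ⟨hR, hle, 2, hi, hz⟩

end Cfsg.Agent.AschbacherFour
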