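import Cfsg.Agent.Lib.Aschbacher.Unitary
import Cfsg.Agent.Lib.AschbacherFour.Eigen

/-!
Geometric subgroups of `SU₄(q)`: isotropic and anisotropic vectors, decompositions into planes or
orthonormal lines.
-/

set_option autoImplicit false

namespace Cfsg.Agent.AschbacherFour

open Matrix Aschbacher
open scoped MatrixGroups

variable {F : Type*} [Field F] [Fintype F] {q : ℕ} {σ : F ≃+* F}
  {f : (Fin 4 → F) → (Fin 4 → F) → F} {H : Subgroup (GL (Fin 4) F)}

/-- A maximal subgroup of the special unitary group of the standard Hermitian form. -/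
structure Ctx (q : ℕ) (σ : F ≃+* F) (f : (Fin 4 → F) → (Fin 4 → F) → F)
    (H : Subgroup (GL (Fin 4) F)) : Prop where
  herm : Herm q σ f
  std : ∀ u v, f u v = ∑ i, u i * σ (v i)
  basis : Orthonormal f (Pi.basisFun F (Fin 4))
  maximal : Geo.IsMaximalIn (unitarySL f) H

/-- The geometric possibilities for a maximal subgroup of the special unitary group. -/
def UGeometric (q : ℕ) (f : (Fin 4 → F) → (Fin 4 → F) → F) (H : Subgroup (GL (Fin 4) F)) : Prop :=
  (∃ W : Submodule F (Fin 4 → F), W ≠ ⊥ ∧ Geo.IsTotallySingularFor f W ∧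
      H = Geo.subspaceStabilizer W ⊓ unitarySL f) ∨
  (∃ W : Submodule F (Fin 4 → F), W ≠ ⊥ ∧ Geo.IsNondegenerateOn f W ∧
      2 * Module.finrank F W < 4 ∧ H = Geo.subspaceStabilizer W ⊓ unitarySL f) ∨
  (q ≠ 3 ∧ ∃ D : Fin 4 → Submodule F (Fin 4 → F), Geo.IsNondegenerateMDecomposition f 1 D ∧
      H = Geo.decompositionStabilizer D ⊓ unitarySL f) ∨
  (3 ≤ q ∧ ∃ D : Fin 2 → Submodule F (Fin 4 → F), Geo.IsNondegenerateMDecomposition f 2 D ∧
      H = Geo.decompositionStabilizer D ⊓ unitarySL f) ∨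
  (4 ≤ q ∧ ∃ D : Fin 2 → Submodule F (Fin 4 → F), Geo.IsMDecomposition 2 D ∧
      (∀ i, Geo.IsTotallySingularFor f (D i)) ∧ H = Geo.decompositionStabilizer D ⊓ unitarySL f) ∨
  (∃ (F₀ : Subfield F) (r : ℕ) (P : GL (Fin 4) F), r.Prime ∧ Odd r ∧
      Fintype.card F = Nat.card F₀ ^ r ∧ Geo.IsFormRationalStructure f F₀ 1 P ∧
      H = Geo.subfieldSubgroup F₀ P ⊓ unitarySL f) ∨
  (∃ (F₀ : Subfield F) (P : GL (Fin 4) F) (ζ : F), Fintype.card F = Nat.card F₀ ^ 2 ∧ ζ ≠ 0 ∧
      ζ + ζ ^ q = 0 ∧ Geo.IsFormRationalStructure f F₀ ζ P ∧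
      (∀ u : Fin 4 → F, (∀ i, u i ∈ F₀) →
        f ((P : Matrix (Fin 4) (Fin 4) F) *ᵥ u) ((P : Matrix (Fin 4) (Fin 4) F) *ᵥ u) = 0) ∧
      H = Geo.subfieldSubgroup F₀ P ⊓ unitarySL f) ∨
  (Odd q ∧ ∃ (F₀ : Subfield F) (P : GL (Fin 4) F), Fintype.card F = Nat.card F₀ ^ 2 ∧
      Geo.IsFormRationalStructure f F₀ 1 P ∧ H = Geo.subfieldSubgroup F₀ P ⊓ unitarySL f) ∨
  (∃ (p : ℕ) (R : Subgroup (GL (Fin 4) F)), p.Prime ∧ q = p ∧ p % 4 = 3 ∧
      Geo.IsSymplecticTypeGroup 2 R ∧ Geo.ActsAbsolutelyIrreducibly (Geo.matrixSet R) ∧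
      R ≤ Geo.similarityGroup f ∧ Nat.card R = 64 ∧ Nat.card (Subgroup.center R) = 4 ∧
      H = Geo.subgroupNormalizer R ⊓ unitarySL f)

namespace Ctx

theorem iso (c : Ctx q σ f H) {g : GL (Fin 4) F} (hg : g ∈ H) (u v : Fin 4 → F) :
    f ((g : Matrix (Fin 4) (Fin 4) F) *ᵥ u) ((g : Matrix (Fin 4) (Fin 4) F) *ᵥ v) = f u v :=
  (c.maximal.1.le hg).1 u v

theorem le_specialLinear (c : Ctx q σ f H) : H ≤ Geo.specialLinear (Fin 4) F :=
  c.maximal.1.le.trans inf_le_right

theorem fixes (c : Ctx q σ f H) {P : Subgroup (GL (Fin 4) F)} (hP : P ≤ H) :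
    Geo.FixesForm (Geo.matrixSet P) f := by
  rintro s ⟨x, hx, rfl⟩ u v
  exact c.iso (hP hx) u v

theorem eq_inf (c : Ctx q σ f H) {M : Subgroup (GL (Fin 4) F)} (hle : H ≤ M)
    (hnot : ¬ unitarySL f ≤ M) : H = M ⊓ unitarySL f :=
  eq_inf_of_maximal c.maximal hle hnot

end Ctx

/-- A subspace of isotropic vectors is totally isotropic. -/
theorem ts_of_isotropic (h : Herm q σ f) {W : Submodule F (Fin 4 → F)}
    (hW : ∀ w ∈ W, f w w = 0) : Geo.IsTotallySingularFor f W := by
  intro u hu v hv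
  obtain ⟨z, hz⟩ := h.exists_ne
  have h1 := hW _ (W.add_mem hu hv)
  have h2 := hW _ (W.add_mem (W.smul_mem z hu) hv)
  simp only [h.sesq.add_left, h.sesq.add_right, h.sesq.smul_left, h.sesq.smul_right,
    RingEquiv.toRingHom_eq_coe, RingHom.coe_coe, hW u hu, hW v hv, mul_zero, add_zero, zero_add] at h1 h2
  exact (mul_eq_zero.1 (show (z - σ z) * f u v = 0 by linear_combination h2 - σ z * h1)).resolve_left
    (sub_ne_zero.2 (Ne.symm hz))

/-- An anisotropic vector can be scaled to any non-zero fixed value. -/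
theorem exists_scale (h : Herm q σ f) {w : Fin 4 → F} (hw : f w w ≠ 0) {x : F} (hx0 : x ≠ 0)
    (hx : σ x = x) : ∃ a : F, a ≠ 0 ∧ f (a • w) (a • w) = x := by
  obtain ⟨a, ha⟩ := h.exists_norm (x := x / f w w) (div_ne_zero hx0 hw)
    (by rw [map_div₀, hx, ← h.form.herm])
  refine ⟨a, ?_, ?_⟩
  · rintro rfl
    rw [zero_mul] at ha
    exact div_ne_zero hx0 hw ha.symm
  · rw [h.sesq.smul_left, h.sesq.smul_right, RingEquiv.toRingHom_eq_coe, RingHom.coe_coe, ← mul_assoc,
      ha, div_mul_cancel₀ _ hw]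

/-- The functional `u ↦ f u v`. -/
def formLeft (h : Herm q σ f) (v : Fin 4 → F) : (Fin 4 → F) →ₗ[F] F where
  toFun u := f u v
  map_add' x y := h.sesq.add_left x y v
  map_smul' r x := h.sesq.smul_left r x v

/-- A subspace of dimension at least two has a non-zero isotropic vector. -/
theorem exists_isotropic (h : Herm q σ f) {W : Submodule F (Fin 4 → F)}
    (hW : 2 ≤ Module.finrank F W) : ∃ w ∈ W, w ≠ 0 ∧ f w w = 0 := by
  obtain ⟨w1, hw1, hw10⟩ := (Submodule.ne_bot_iff W).1 (fun h0 => by rw [h0, finrank_bot] at hW; omega)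
  by_cases h1 : f w1 w1 = 0
  · exact ⟨w1, hw1, hw10, h1⟩
  have hker : LinearMap.ker ((formLeft h w1).comp W.subtype) ≠ ⊥ := fun h0 => by
    have := LinearMap.finrank_le_finrank_of_injective (LinearMap.ker_eq_bot.1 h0)
    rw [Module.finrank_self] at this
    omega
  obtain ⟨⟨w2, hw2⟩, hker2, hne⟩ := (Submodule.ne_bot_iff _).1 hker
  have hw20 : w2 ≠ 0 := fun h0 => hne (Subtype.ext h0)
  have h21 : f w2 w1 = 0 := hker2
  by_cases h2 : f w2 w2 = 0
  · exact ⟨w2, hw2, hw20, h2⟩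
  obtain ⟨a, -, ha⟩ := exists_scale h h2 (x := -f w1 w1) (neg_ne_zero.2 h1)
    (by rw [map_neg, ← h.form.herm])
  refine ⟨w1 + a • w2, W.add_mem hw1 (W.smul_mem a hw2), fun h0 => ?_, ?_⟩
  · have := congrArg (fun u => f u w1) h0
    simp [h.sesq.add_left, h.sesq.smul_left, h21, h.zero_left, h1] at this
  · simp only [h.sesq.add_left, h.sesq.add_right, h.sesq.smul_left, h.sesq.smul_right, h21,
      h.eq_zero_comm h21, mul_zero, add_zero, zero_add] at ha ⊢
    linear_combination ha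

/-- A non-degenerate plane has an orthonormal basis. -/
theorem plane_basis (h : Herm q σ f) {D : Submodule F (Fin 4 → F)} (hd : Module.finrank F D = 2)
    (hnd : Geo.IsNondegenerateOn f D) :
    ∃ e : Fin 2 → (Fin 4 → F), (∀ k, e k ∈ D) ∧ (∀ k l, f (e k) (e l) = if k = l then 1 else 0) ∧
      ∀ w ∈ D, w = f w (e 0) • e 0 + f w (e 1) • e 1 := by
  obtain ⟨w0, hw0, hne0⟩ : ∃ w ∈ D, f w w ≠ 0 := by
    by_contra hc
    push Not at hc
    obtain ⟨w, hw, hw0⟩ := (Submodule.ne_bot_iff D).1 (fun h0 => by rw [h0, finrank_bot] at hd; omega)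
    obtain ⟨x, hx, hne⟩ := (hnd w hw hw0).2
    exact hne (ts_of_isotropic h hc w hw x hx)
  obtain ⟨a, -, ha⟩ := exists_scale h hne0 one_ne_zero (map_one σ)
  set e0 := a • w0 with he0
  have he0D : e0 ∈ D := D.smul_mem a hw0
  let K : Submodule F (Fin 4 → F) := D ⊓ LinearMap.ker (formLeft h e0)
  have hKD : K < D := lt_of_le_of_ne inf_le_left fun he => by
    have : e0 ∈ K := he ▸ he0D
    have h0 : f e0 e0 = 0 := this.2
    rw [ha] at h0
    exact one_ne_zero h0
  have hKlt : Module.finrank F K < 2 := hd ▸ Submodule.finrank_lt_finrank_of_lt hKD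
  have hker : LinearMap.ker ((formLeft h e0).comp D.subtype) ≠ ⊥ := fun h0 => by
    have := LinearMap.finrank_le_finrank_of_injective (LinearMap.ker_eq_bot.1 h0)
    rw [Module.finrank_self] at this
    omega
  obtain ⟨⟨w, hw⟩, hwk, hwne⟩ := (Submodule.ne_bot_iff _).1 hker
  have hwK : w ∈ K := ⟨hw, hwk⟩
  have hw0' : w ≠ 0 := fun h0 => hwne (Subtype.ext h0)
  have hKspan : ∀ r ∈ K, ∃ c : F, r = c • w := by
    intro r hr
    have h1 : Module.finrank F K = 1 := by
      have : 0 < Module.finrank F K := Module.finrank_pos_iff_exists_ne_zero.2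
        ⟨⟨w, hwK⟩, fun h0 => hw0' (congrArg Subtype.val h0)⟩
      omega
    obtain ⟨c, hc⟩ := (finrank_eq_one_iff_of_nonzero' (⟨w, hwK⟩ : K)
      (fun h0 => hw0' (congrArg Subtype.val h0))).1 h1 ⟨r, hr⟩
    exact ⟨c, (congrArg Subtype.val hc).symm⟩
  have hwe : f w e0 = 0 := hwk
  have hew : f e0 w = 0 := h.eq_zero_comm hwe
  have hdec : ∀ r ∈ D, ∃ c : F, r = f r e0 • e0 + c • w := by
    intro r hr
    obtain ⟨c, hc⟩ := hKspan (r - f r e0 • e0) ⟨D.sub_mem hr (D.smul_mem _ he0D), by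
      show formLeft h e0 (r - f r e0 • e0) = 0
      rw [map_sub, map_smul]
      show f r e0 - f r e0 * f e0 e0 = 0
      rw [ha, mul_one, sub_self]⟩
    exact ⟨c, by rw [← hc]; abel⟩
  have hww : f w w ≠ 0 := by
    intro h0
    obtain ⟨x, hx, hne⟩ := (hnd w hw hw0').1
    obtain ⟨c, hc⟩ := hdec x hx
    generalize f x e0 = r at hc
    subst hc
    rw [h.sesq.add_left, h.sesq.smul_left r e0, h.sesq.smul_left c w, hew, h0, mul_zero, mul_zero,
      add_zero] at hne
    exact hne rfl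
  obtain ⟨a1, ha10, ha1⟩ := exists_scale h hww one_ne_zero (map_one σ)
  have h01 : f e0 (a1 • w) = 0 := by rw [h.sesq.smul_right, hew, mul_zero]
  refine ⟨![e0, a1 • w], fun k => ?_, fun k l => ?_, fun r hr => ?_⟩
  · fin_cases k
    · exact he0D
    · exact D.smul_mem a1 hw
  · fin_cases k <;> fin_cases l
    · simpa using ha
    · simpa using h01
    · simpa using h.eq_zero_comm h01
    · simpa using ha1
  · obtain ⟨c, hc⟩ := hdec r hr
    simp only [Matrix.cons_val_zero, Matrix.cons_val_one, Matrix.cons_val_fin_one]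
    have h1 : f r (a1 • w) = c * a1⁻¹ := by
      conv_lhs => rw [hc, h.sesq.add_left, h.sesq.smul_left, h01, mul_zero, zero_add,
        show c • w = (c * a1⁻¹) • (a1 • w) by rw [smul_smul, inv_mul_cancel_right₀ ha10],
        h.sesq.smul_left, ha1, mul_one]
    rw [h1, smul_smul (c * a1⁻¹) a1, inv_mul_cancel_right₀ ha10]
    exact hc

/-- An orthonormal family of four vectors is a basis. -/
theorem orthonormal_basis (h : Herm q σ f) {v : Fin 4 → (Fin 4 → F)}
    (hv : ∀ i j, f (v i) (v j) = if i = j then 1 else 0) :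
    ∃ b : Module.Basis (Fin 4) F (Fin 4 → F), Orthonormal f b ∧ ∀ i, b i = v i := by
  have hli : LinearIndependent F v := by
    rw [Fintype.linearIndependent_iff]
    intro g hg i
    have h1 := congrArg (formLeft h (v i)) hg
    rw [map_sum, map_zero] at h1
    simpa [formLeft, h.sesq.smul_left, hv] using h1
  refine ⟨basisOfLinearIndependentOfCardEqFinrank hli (by simp), fun i j => ?_, fun i => by simp⟩
  simpa using hv i j

omit [Fintype F] in
theorem planes_sup {D : Fin 2 → Submodule F (Fin 4 → F)} (hD : Geo.IsMDecomposition 2 D) :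
    D 0 ⊔ D 1 = ⊤ := by
  rw [← hD.iSup_eq_top]
  refine le_antisymm (sup_le (le_iSup D 0) (le_iSup D 1)) (iSup_le fun i => ?_)
  fin_cases i
  · exact le_sup_left
  · exact le_sup_right

omit [Fintype F] in
theorem planes_disjoint {D : Fin 2 → Submodule F (Fin 4 → F)} (hD : Geo.IsMDecomposition 2 D)
    {v : Fin 4 → F} (h0 : v ∈ D 0) (h1 : v ∈ D 1) : v = 0 :=
  (Submodule.mem_bot F).1
    (disjoint_iff.1 (hD.indep.pairwiseDisjoint (show (0 : Fin 2) ≠ 1 by decide)) ▸ ⟨h0, h1⟩)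

/-- A transvection moves two planes carrying an isotropic vector as described. -/
theorem not_le_of_isotropic (h : Herm q σ f) {D : Fin 2 → Submodule F (Fin 4 → F)}
    (hD : Geo.IsMDecomposition 2 D) {x y u : Fin 4 → F} (hx : x ∈ D 0) (hy : y ∈ D 1) (hu : u ∈ D 0)
    (hy0 : y ≠ 0) (hv : f (x + y) (x + y) = 0) (hfu : f u (x + y) ≠ 0)
    (hux : ∀ a : F, u ≠ a • x) : ¬ unitarySL f ≤ Geo.decompositionStabilizer D := by
  intro hle
  obtain ⟨c, hc0, hc⟩ := h.exists_antifixed
  obtain ⟨g, hg, hgu⟩ := h.exists_transvection hv hc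
  obtain ⟨π, hπ⟩ := hle hg
  have h1 : (g : Matrix (Fin 4) (Fin 4) F) *ᵥ u ∈ D (π 0) := by
    rw [← hπ 0]; exact ⟨u, hu, Matrix.toLin'_apply _ _⟩
  rw [hgu, smul_add, ← add_assoc] at h1
  set a := c * f u (x + y) with ha
  have ha0 : a ≠ 0 := mul_ne_zero hc0 hfu
  obtain h2 | h2 : π 0 = 0 ∨ π 0 = 1 := by generalize π 0 = k; fin_cases k <;> simp
  · rw [h2] at h1
    have h3 : a • y ∈ D 0 := by
      simpa using Submodule.sub_mem _ h1 (Submodule.add_mem _ hu (Submodule.smul_mem _ a hx))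
    exact smul_ne_zero ha0 hy0 (planes_disjoint hD h3 (Submodule.smul_mem _ a hy))
  · rw [h2] at h1
    have h3 : u + a • x ∈ D 1 := by
      simpa using Submodule.sub_mem _ h1 (Submodule.smul_mem _ a hy)
    have h4 := planes_disjoint hD (Submodule.add_mem _ hu (Submodule.smul_mem _ a hx)) h3
    exact hux (-a) (by rw [neg_smul]; exact eq_neg_of_add_eq_zero_left h4)

theorem not_le_orth_planes (h : Herm q σ f) {D : Fin 2 → Submodule F (Fin 4 → F)}
    (hD : Geo.IsNondegenerateMDecomposition f 2 D) :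
    ¬ unitarySL f ≤ Geo.decompositionStabilizer D := by
  obtain ⟨e, heD, he, -⟩ := plane_basis h (hD.decomp.finrank_eq 0) (hD.nondegenerate 0)
  obtain ⟨e', he'D, he', -⟩ := plane_basis h (hD.decomp.finrank_eq 1) (hD.nondegenerate 1)
  obtain ⟨a, ha⟩ := h.exists_norm_neg_one
  have h00 : ∀ k l, f (e k) (e' l) = 0 := fun k l =>
    hD.orthogonal 0 1 (by decide) _ (heD k) _ (he'D l)
  have h11 : ∀ k l, f (e' l) (e k) = 0 := fun k l => h.eq_zero_comm (h00 k l)
  refine not_le_of_isotropic h hD.decomp (x := e 0) (y := a • e' 0) (u := e 0 + e 1) (heD 0)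
    (Submodule.smul_mem _ a (he'D 0)) (Submodule.add_mem _ (heD 0) (heD 1))
    (smul_ne_zero (Herm.norm_neg_one_ne_zero ha) fun h0 => ?_) ?_ ?_ fun r hr => ?_
  · have := he' 0 0
    rw [h0, h.zero_left, if_pos rfl] at this
    exact zero_ne_one this
  · simp [h.sesq.add_left, h.sesq.add_right, h.sesq.smul_left, h.sesq.smul_right, h00, h11, he, he', ha]
  · simp [h.sesq.add_left, h.sesq.add_right, h.sesq.smul_right, h00, he]
  · have := congrArg (fun w => f w (e 1)) hr
    simp [h.sesq.add_left, h.sesq.smul_left, he] at this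

theorem not_le_ts_planes (h : Herm q σ f) {D : Fin 2 → Submodule F (Fin 4 → F)}
    (hD : Geo.IsMDecomposition 2 D) (hts : ∀ i, Geo.IsTotallySingularFor f (D i)) :
    ¬ unitarySL f ≤ Geo.decompositionStabilizer D := by
  obtain ⟨y, hy, hy0⟩ := (Submodule.ne_bot_iff (D 1)).1 (fun h0 => by
    have := hD.finrank_eq 1
    rw [h0, finrank_bot] at this
    omega)
  have hker : LinearMap.ker ((formLeft h y).comp (D 0).subtype) ≠ ⊥ := fun h0 => by
    have := LinearMap.finrank_le_finrank_of_injective (LinearMap.ker_eq_bot.1 h0)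
    rw [Module.finrank_self, hD.finrank_eq 0] at this
    omega
  obtain ⟨⟨x, hx⟩, hxk, hxne⟩ := (Submodule.ne_bot_iff _).1 hker
  have hxy : f x y = 0 := hxk
  obtain ⟨u, hu, hfu⟩ : ∃ u ∈ D 0, f u y ≠ 0 := by
    obtain ⟨t, ht⟩ := (h.form.nondegenerate y hy0).1
    obtain ⟨t0, ht0, t1, ht1, rfl⟩ :=
      Submodule.mem_sup.1 ((planes_sup hD).ge (Submodule.mem_top : t ∈ ⊤))
    exact ⟨t0, ht0, fun h0 => ht (by rw [h.sesq.add_left, h0, hts 1 t1 ht1 y hy, add_zero])⟩
  refine not_le_of_isotropic h hD hx hy hu hy0 ?_ ?_ fun a ha => hfu ?_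
  · simp [h.sesq.add_left, h.sesq.add_right, hts 0 x hx x hx, hts 1 y hy y hy, hxy, h.eq_zero_comm hxy]
  · rwa [h.sesq.add_right, hts 0 u hu x hx, zero_add]
  · rw [ha, h.sesq.smul_left, hxy, mul_zero]

theorem not_le_lines (h : Herm q σ f) {b : Module.Basis (Fin 4) F (Fin 4 → F)} (hb : Orthonormal f b) :
    ¬ unitarySL f ≤ Geo.decompositionStabilizer (lines b) := by
  intro hle
  refine h.specialUnitary_not_le_frameStabilizer hb (by simp) (fun _ => by simp) fun g hg i => ?_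
  obtain ⟨π, hπ⟩ := hle hg
  have h1 : (g : Matrix (Fin 4) (Fin 4) F) *ᵥ b i ∈ lines b (π i) := by
    rw [← hπ i]; exact ⟨b i, Submodule.mem_span_singleton_self _, Matrix.toLin'_apply _ _⟩
  obtain ⟨d, hd⟩ := Submodule.mem_span_singleton.1 h1
  exact ⟨π i, d, hd.symm⟩

/-- Four orthonormal lines, `q ≠ 3`. -/
theorem geometric_lines_ne_three (c : Ctx q σ f H) (hq : q ≠ 3)
    {b : Module.Basis (Fin 4) F (Fin 4 → F)} (hb : Orthonormal f b)
    (hperm : ∀ g ∈ H, ∃ π : Equiv.Perm (Fin 4), ∀ i, ∃ d : F,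
      (g : Matrix (Fin 4) (Fin 4) F) *ᵥ b i = d • b (π i)) : UGeometric q f H :=
  Or.inr <| Or.inr <| Or.inl ⟨hq, lines b, c.herm.lines_isNondegenerate (by norm_num) hb,
    c.eq_inf (fun g hg => mem_decompositionStabilizer_lines b (hperm g hg)) (not_le_lines c.herm hb)⟩

/-- Two orthogonal planes; for `q = 2` they split into four lines. -/
theorem geometric_orth_planes (c : Ctx q σ f H) {D : Fin 2 → Submodule F (Fin 4 → F)}
    (hD : Geo.IsNondegenerateMDecomposition f 2 D) (hH : H ≤ Geo.decompositionStabilizer D) :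
    UGeometric q f H := by
  classical
  by_cases hq : 3 ≤ q
  · exact Or.inr <| Or.inr <| Or.inr <| Or.inl
      ⟨hq, D, hD, c.eq_inf hH (not_le_orth_planes c.herm hD)⟩
  obtain rfl : q = 2 := by have := one_lt_q c.herm.card; omega
  have h := c.herm
  choose e heD he hspan using fun i => plane_basis h (hD.decomp.finrank_eq i) (hD.nondegenerate i)
  -- the anisotropic vectors of norm one lie on two lines
  have hnorm : ∀ a : F, a * σ a = 0 ∨ a * σ a = 1 := by
    intro a
    by_cases ha : a = 0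
    · exact Or.inl (by rw [ha, zero_mul])
    · right
      have := FiniteField.pow_card_sub_one_eq_one a ha
      rw [h.card] at this
      rw [h.apply_eq, ← pow_succ']
      simpa using this
  have h2 : (2 : F) = 0 := by
    have := Nat.cast_card_eq_zero F
    rw [h.card] at this
    push_cast at this
    exact (pow_eq_zero_iff two_ne_zero).1 (show (2 : F) ^ 2 = 0 by linear_combination this)
  have hline : ∀ i, ∀ w ∈ D i, f w w = 1 → ∃ (k : Fin 2) (d : F), w = d • e i k := by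
    intro i w hw hww
    set a := f w (e i 0) with ha
    set a' := f w (e i 1) with ha'
    have hwe := hspan i w hw
    rw [← ha, ← ha'] at hwe
    rw [hwe] at hww
    simp [h.sesq.add_left, h.sesq.add_right, h.sesq.smul_left, h.sesq.smul_right, he] at hww
    by_cases h0 : a = 0
    · exact ⟨1, a', by rw [hwe, h0, zero_smul, zero_add]⟩
    by_cases h1 : a' = 0
    · exact ⟨0, a, by rw [hwe, h1, zero_smul, add_zero]⟩
    exfalso
    have n0 := (hnorm a).resolve_left (mul_ne_zero h0 (by simpa using h0))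
    have n1 := (hnorm a').resolve_left (mul_ne_zero h1 (by simpa using h1))
    exact one_ne_zero (α := F) (by linear_combination hww - n0 - n1)
  let idx : Fin 4 → Fin 2 × Fin 2 := ![(0, 0), (0, 1), (1, 0), (1, 1)]
  let v : Fin 4 → (Fin 4 → F) := fun n => e (idx n).1 (idx n).2
  have hidx : Function.Injective idx := by decide
  have hidx' : ∀ p, ∃ n, idx n = p := by decide
  have hv : ∀ m n, f (v m) (v n) = if m = n then 1 else 0 := by
    intro m n
    by_cases hp : (idx m).1 = (idx n).1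
    · simp only [v, hp, he]
      by_cases hmn : m = n
      · simp [hmn]
      · rw [if_neg hmn, if_neg]
        exact fun h2' => hmn (hidx (Prod.ext hp h2'))
    · have hmn : m ≠ n := fun h' => hp (by rw [h'])
      rw [if_neg hmn]
      exact hD.orthogonal _ _ hp _ (heD _ _) _ (heD _ _)
  obtain ⟨b, hb, hbv⟩ := orthonormal_basis h hv
  refine geometric_lines_ne_three c (by norm_num) hb fun g hg => ?_
  obtain ⟨π, hπ⟩ := hH hg
  have himg : ∀ n, ∃ (m : Fin 4) (d : F), (g : Matrix (Fin 4) (Fin 4) F) *ᵥ b n = d • b m := by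
    intro n
    have h1 : (g : Matrix (Fin 4) (Fin 4) F) *ᵥ v n ∈ D (π (idx n).1) := by
      rw [← hπ]; exact ⟨v n, heD _ _, Matrix.toLin'_apply _ _⟩
    obtain ⟨k, d, hd⟩ := hline _ _ h1 (by rw [c.iso hg, hv, if_pos rfl])
    obtain ⟨m, hm⟩ := hidx' (π (idx n).1, k)
    exact ⟨m, d, by rw [hbv, hbv, hd]; simp only [v, hm]⟩
  choose j d hjd using himg
  have hinj : Function.Injective j := by
    intro m n hmn
    by_contra hne
    have h1 := c.iso hg (b m) (b n)
    rw [hjd, hjd, hmn, h.sesq.smul_left, h.sesq.smul_right] at h1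
    rw [(hb (j n) (j n)).trans (if_pos rfl), (hb m n).trans (if_neg hne), mul_one] at h1
    exact mul_ne_zero (frame_coeff_ne_zero b (hjd m))
      (by simpa using frame_coeff_ne_zero b (hjd n)) h1
  exact ⟨Equiv.ofBijective j (Finite.injective_iff_bijective.1 hinj), fun n => ⟨d n, hjd n⟩⟩

end Cfsg.Agent.AschbacherFour
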