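import Cfsg.Agent.Lib.AschbacherFour.UnitaryPauli
import Cfsg.Agent.Lib.AschbacherFour.Frames

/-!
An absolutely irreducible subgroup of `SU₄(q)` consisting of similitudes of a symmetric or alternating
bilinear form lies in a subfield group of index two or permutes two planes.
-/

set_option autoImplicit false

namespace Cfsg.Agent.AschbacherFour

open Matrix Aschbacher
open scoped MatrixGroups

variable {F : Type*} [Field F] [Fintype F] {q : ℕ} {σ : F ≃+* F}
  {f : (Fin 4 → F) → (Fin 4 → F) → F} {H : Subgroup (GL (Fin 4) F)}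

theorem Ctx.odd_q (c : Ctx q σ f H) (h2 : (2 : F) ≠ 0) : Odd q := by
  obtain ⟨p, k, hp, hpC, -, hq, -⟩ := exists_frob c.herm.card
  haveI := hpC
  rw [hq]
  refine (hp.odd_of_ne_two fun h => h2 ?_).pow
  subst h
  exact_mod_cast CharP.cast_eq_zero F 2

theorem fixedField_card (h : Herm q σ f) : Nat.card (fixedField σ) = q := by
  classical
  haveI : Fintype (fixedField σ) := Fintype.ofFinite _
  have hq := one_lt_q h.card
  rw [Nat.card_eq_fintype_card]
  refine le_antisymm ?_ ?_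
  · let P : Polynomial F := Polynomial.X ^ q - Polynomial.X
    have hP0 : P ≠ 0 := FiniteField.X_pow_card_sub_X_ne_zero F hq
    calc Fintype.card (fixedField σ)
        = ((Finset.univ : Finset (fixedField σ)).map (Function.Embedding.subtype _)).card := by
          rw [Finset.card_map, Finset.card_univ]
      _ ≤ P.roots.toFinset.card := Finset.card_le_card fun x hx => by
          obtain ⟨a, -, rfl⟩ := Finset.mem_map.1 hx
          rw [Multiset.mem_toFinset, Polynomial.mem_roots hP0]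
          have := mem_fixedField.1 a.2
          rw [h.apply_eq] at this
          simpa [P, sub_eq_zero] using this
      _ ≤ q := (Multiset.toFinset_card_le _).trans ((Polynomial.card_roots' P).trans
          (FiniteField.X_pow_card_sub_X_natDegree_eq F hq).le)
  · -- every element is a combination of two fixed ones
    obtain ⟨z, hz⟩ := h.exists_ne
    let m : fixedField σ × fixedField σ → F := fun p => p.1 + z * p.2
    have hsurj : Function.Surjective m := by
      intro x
      set y := (σ x - x) / (σ z - z) with hy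
      have hne := sub_ne_zero.2 hz
      have hyf : σ y = y := by
        rw [hy, map_div₀, map_sub, map_sub, h.form.involutive, h.form.involutive,
          show x - σ x = -(σ x - x) by ring, show z - σ z = -(σ z - z) by ring, neg_div_neg_eq]
      have hyz : σ x - x = y * (σ z - z) := by rw [hy, div_mul_cancel₀ _ hne]
      refine ⟨(⟨x - z * y, mem_fixedField.2 ?_⟩, ⟨y, mem_fixedField.2 hyf⟩), by simp [m]⟩
      rw [map_sub, map_mul, hyf]
      linear_combination hyz
    have h1 := Fintype.card_le_of_surjective m hsurj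
    rw [Fintype.card_prod, h.card, pow_two] at h1
    exact Nat.mul_self_le_mul_self_iff.1 h1

/-- The semilinear map with `f u (J v) = B u v`. -/
theorem exists_adjointMap (c : Ctx q σ f H) {B : (Fin 4 → F) → (Fin 4 → F) → F}
    (hB : Geo.IsBilinearForm B) (hnd : Geo.IsNondegenerateForm B) :
    ∃ J : (Fin 4 → F) → (Fin 4 → F), (∀ u v, f u (J v) = B u v) ∧
      (∀ v w, J (v + w) = J v + J w) ∧ (∀ (a : F) v, J (a • v) = σ a • J v) ∧
      (∀ v, J v = 0 → v = 0) ∧
      ∀ g ∈ H, ∀ a : F, (∀ u v, B ((g : Matrix (Fin 4) (Fin 4) F) *ᵥ u)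
          ((g : Matrix (Fin 4) (Fin 4) F) *ᵥ v) = a * B u v) →
        ∀ v, J ((g : Matrix (Fin 4) (Fin 4) F) *ᵥ v) =
          σ a • ((g : Matrix (Fin 4) (Fin 4) F) *ᵥ J v) := by
  have h := c.herm
  let J : (Fin 4 → F) → (Fin 4 → F) := fun v i => σ (B (Pi.single i 1) v)
  have hJ : ∀ u v, f u (J v) = B u v := by
    intro u v
    let ψ : (Fin 4 → F) →ₗ[F] F :=
      { toFun := fun w => B w v, map_add' := fun x y => hB.add_left x y v
        map_smul' := fun r x => hB.smul_left r x v }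
    show _ = ψ u
    rw [c.std]
    conv_rhs => rw [pi_eq_sum_univ' u, map_sum]
    refine Finset.sum_congr rfl fun i _ => ?_
    rw [map_smul, smul_eq_mul]
    show _ * σ (σ _) = _
    rw [h.form.involutive]
    rfl
  have hext : ∀ {v w : Fin 4 → F}, (∀ u, f u v = f u w) → v = w := by
    intro v w hvw
    funext i
    have h1 := hvw (Pi.single i 1)
    simpa [c.std, Pi.single_apply, ite_mul] using h1
  refine ⟨J, hJ, fun v w => hext fun u => by rw [hJ, h.sesq.add_right, hJ, hJ, hB.add_right],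
    fun a v => hext fun u => ?_, fun v hv => ?_, fun g hg a ha v => hext fun u => ?_⟩
  · rw [hJ, h.sesq.smul_right, hJ, hB.smul_right]
    show a * B u v = σ (σ a) * B u v
    rw [h.form.involutive]
  · by_contra h0
    obtain ⟨u, hu⟩ := (hnd v h0).1
    exact hu (by rw [← hJ, hv, h.zero_right])
  · obtain ⟨u, rfl⟩ : ∃ w, (g : Matrix (Fin 4) (Fin 4) F) *ᵥ w = u := ⟨_, mulVec_inv g u⟩
    rw [hJ, ha, h.sesq.smul_right, c.iso hg, hJ, RingEquiv.toRingHom_eq_coe, RingHom.coe_coe,
      h.form.involutive]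

/-- A multiplier of a non-degenerate bilinear form on a group of determinant one. -/
theorem multiplier_pow_four {B : (Fin 4 → F) → (Fin 4 → F) → F} (hB : Geo.IsBilinearForm B)
    (hnd : Geo.IsNondegenerateForm B) {g : GL (Fin 4) F}
    (hg : (g : Matrix (Fin 4) (Fin 4) F).det = 1) {a : F}
    (ha : ∀ u v, B ((g : Matrix (Fin 4) (Fin 4) F) *ᵥ u) ((g : Matrix (Fin 4) (Fin 4) F) *ᵥ v) =
      a * B u v) : a ^ 4 = 1 := by
  let M : Matrix (Fin 4) (Fin 4) F := Matrix.of fun i j => B (Pi.single i 1) (Pi.single j 1)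
  have hM : ∀ u v, B u v = u ⬝ᵥ M *ᵥ v := by
    intro u v
    let ψ : (Fin 4 → F) → (Fin 4 → F) →ₗ[F] F := fun v =>
      { toFun := fun w => B w v, map_add' := fun x y => hB.add_left x y v
        map_smul' := fun r x => hB.smul_left r x v }
    let χ : (Fin 4 → F) → (Fin 4 → F) →ₗ[F] F := fun u =>
      { toFun := fun w => B u w, map_add' := fun x y => hB.add_right u x y
        map_smul' := fun r x => hB.smul_right r u x }
    show ψ v u = _
    conv_lhs => rw [pi_eq_sum_univ' u, map_sum]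
    refine Finset.sum_congr rfl fun i _ => ?_
    rw [map_smul, smul_eq_mul]
    congr 1
    show χ (Pi.single i (1 : F) : Fin 4 → F) v = _
    conv_lhs => rw [pi_eq_sum_univ' v, map_sum]
    show _ = ∑ j, M i j * v j
    refine Finset.sum_congr rfl fun j _ => ?_
    rw [map_smul, smul_eq_mul, mul_comm]
    rfl
  have hdet : M.det ≠ 0 := by
    intro h0
    obtain ⟨w, hw0, hw⟩ := Matrix.exists_vecMul_eq_zero_iff.2 h0
    obtain ⟨x, hx⟩ := (hnd w hw0).2
    exact hx (by rw [hM, Matrix.dotProduct_mulVec, hw, zero_dotProduct])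
  have heq : (g : Matrix (Fin 4) (Fin 4) F)ᵀ * M * (g : Matrix (Fin 4) (Fin 4) F) = a • M := by
    ext i j
    have h1 := ha (Pi.single i 1) (Pi.single j 1)
    rw [hM, hM, Matrix.mulVec_mulVec, ← Matrix.vecMul_transpose, ← Matrix.dotProduct_mulVec,
      Matrix.mulVec_mulVec] at h1
    simpa [mul_assoc] using h1
  have h2 := congrArg Matrix.det heq
  rw [Matrix.det_mul, Matrix.det_mul, Matrix.det_transpose, Matrix.det_smul, hg, one_mul, mul_one,
    Fintype.card_fin] at h2
  exact mul_right_cancel₀ hdet (h2.symm.trans (one_mul _).symm)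

/-- A semilinear involution has a basis of fixed vectors. -/
theorem exists_fixed_basis (h : Herm q σ f) {J : (Fin 4 → F) → (Fin 4 → F)}
    (hadd : ∀ v w, J (v + w) = J v + J w) (hsmul : ∀ (a : F) v, J (a • v) = σ a • J v)
    (hJJ : ∀ v, J (J v) = v) :
    ∃ e : Module.Basis (Fin 4) F (Fin 4 → F), (∀ i, J (e i) = e i) ∧
      ∀ w, J w = w → ∀ i, σ (e.repr w i) = e.repr w i := by
  classical
  let S : Set (Fin 4 → F) := {v | J v = v}
  have hS : Submodule.span F S = ⊤ := by
    refine top_le_iff.1 fun v _ => ?_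
    obtain ⟨z, hz⟩ := h.exists_ne
    have h1 : v + J v ∈ Submodule.span F S := Submodule.subset_span (by
      show J (v + J v) = v + J v
      rw [hadd, hJJ, add_comm])
    have h2 : z • v + σ z • J v ∈ Submodule.span F S := Submodule.subset_span (by
      show J (z • v + σ z • J v) = _
      rw [hadd, hsmul, hsmul, hJJ, h.form.involutive, add_comm])
    have h3 := Submodule.sub_mem _ h2 (Submodule.smul_mem _ (σ z) h1)
    rw [smul_add, add_sub_add_right_eq_sub, ← sub_smul] at h3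
    exact (Submodule.smul_mem_iff _ (sub_ne_zero.2 (Ne.symm hz))).1 h3
  obtain ⟨t, htS, hts, hli⟩ := exists_linearIndependent F S
  let bt : Module.Basis t F (Fin 4 → F) :=
    Module.Basis.mk hli (by rw [Subtype.range_coe_subtype, Set.ofPred_mem_eq, hts, hS])
  haveI : Fintype t := FiniteDimensional.fintypeBasisIndex bt
  let e : Module.Basis (Fin 4) F (Fin 4 → F) :=
    bt.reindex (bt.indexEquiv (Pi.basisFun F (Fin 4)))
  have he : ∀ i, J (e i) = e i := fun i => by
    rw [Module.Basis.reindex_apply, Module.Basis.mk_apply]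
    exact htS ((bt.indexEquiv (Pi.basisFun F (Fin 4))).symm i).2
  refine ⟨e, he, fun w hw i => ?_⟩
  let φ : (Fin 4 → F) →+ (Fin 4 → F) :=
    { toFun := J, map_zero' := by simpa using hsmul 0 0, map_add' := hadd }
  have h1 : φ w = ∑ k, σ (e.repr w k) • e k := by
    conv_lhs => rw [← e.sum_repr w, map_sum]
    exact Finset.sum_congr rfl fun k _ => by
      show J _ = _
      rw [hsmul, he]
  have h2 := congrArg (fun u => e.repr u i) (h1.symm.trans hw)
  simpa [map_sum, Finsupp.single_apply] using h2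

/-- Similitudes whose multipliers have norm one: a subfield group of index two. -/
theorem similitude_norm_one (c : Ctx q σ f H) (hHa : AbsIrr H)
    {B : (Fin 4 → F) → (Fin 4 → F) → F} (hB : Geo.IsBilinearForm B)
    (hnd : Geo.IsNondegenerateForm B) (hle : H ≤ Geo.similarityGroup B)
    (hsym : (Odd q ∧ ∀ u v, B u v = B v u) ∨ ∀ u, B u u = 0)
    (hnorm : ∀ g ∈ H, ∀ a : F, (∀ u v, B ((g : Matrix (Fin 4) (Fin 4) F) *ᵥ u)
      ((g : Matrix (Fin 4) (Fin 4) F) *ᵥ v) = a * B u v) → a * σ a = 1) :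
    UGeometric q f H := by
  classical
  have h := c.herm
  obtain ⟨J, hJ, hJadd, hJsmul, hJ0, hJg⟩ := exists_adjointMap c hB hnd
  let L : (Fin 4 → F) →ₗ[F] (Fin 4 → F) :=
    { toFun := fun v => J (J v)
      map_add' := fun x y => by rw [hJadd, hJadd]
      map_smul' := fun a x => by rw [hJsmul, hJsmul, h.form.involutive, RingHom.id_apply] }
  obtain ⟨l, hl⟩ := hHa.2 (LinearMap.toMatrix' L) (by
    rintro s ⟨g, hg, rfl⟩
    obtain ⟨a, ha⟩ := hle hg
    refine Matrix.ext_of_mulVec_single fun i => ?_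
    simp only [← Matrix.mulVec_mulVec, LinearMap.toMatrix'_mulVec]
    show J (J _) = (g : Matrix (Fin 4) (Fin 4) F) *ᵥ J (J _)
    rw [hJg g hg a ha, hJsmul, hJg g hg a ha, smul_smul, h.form.involutive, hnorm g hg a ha,
      one_smul])
  have hJJ : ∀ v, J (J v) = l • v := fun v => by
    have := congrArg (· *ᵥ v) hl
    simpa [Matrix.smul_mulVec, LinearMap.toMatrix'_mulVec, L] using this
  have he0 : (Pi.single 0 1 : Fin 4 → F) ≠ 0 := by simp
  have hl0 : l ≠ 0 := by
    rintro rfl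
    exact he0 (hJ0 _ (hJ0 _ (by rw [hJJ, zero_smul])))
  have hlσ : σ l = l := by
    have h1 : σ l • J (Pi.single 0 1) = l • J (Pi.single 0 1) := by rw [← hJsmul, ← hJJ, hJJ]
    exact smul_left_injective F (fun h0 => he0 (hJ0 _ h0)) h1
  obtain ⟨μ, hμ⟩ := h.exists_norm (inv_ne_zero hl0) (by rw [map_inv₀, hlσ])
  let J' : (Fin 4 → F) → (Fin 4 → F) := fun v => μ • J v
  have hJ'add : ∀ v w, J' (v + w) = J' v + J' w := fun v w => by simp only [J', hJadd, smul_add]
  have hJ'smul : ∀ (a : F) v, J' (a • v) = σ a • J' v := fun a v => by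
    show μ • J (a • v) = σ a • μ • J v
    rw [hJsmul]
    exact smul_comm _ _ _
  have hJ'J' : ∀ v, J' (J' v) = v := fun v => by
    simp only [J', hJsmul, hJJ, smul_smul]
    rw [show μ * (σ μ * l) = 1 by rw [← mul_assoc, hμ, inv_mul_cancel₀ hl0], one_smul]
  obtain ⟨e, he, hefix⟩ := exists_fixed_basis h hJ'add hJ'smul hJ'J'
  let T : Matrix (Fin 4) (Fin 4) F := LinearMap.toMatrix' e.equivFun.toLinearMap
  let T' : Matrix (Fin 4) (Fin 4) F := LinearMap.toMatrix' e.equivFun.symm.toLinearMap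
  let P : GL (Fin 4) F := ⟨T', T, by simp [T, T', ← LinearMap.toMatrix'_comp],
    by simp [T, T', ← LinearMap.toMatrix'_comp]⟩
  have hP : ∀ u, (P : Matrix (Fin 4) (Fin 4) F) *ᵥ u = ∑ i, u i • e i := fun u => by
    show T' *ᵥ u = _
    rw [LinearMap.toMatrix'_mulVec, LinearEquiv.coe_coe, Module.Basis.equivFun_symm_apply]
  have hPi : ∀ v, ((P⁻¹ : GL (Fin 4) F) : Matrix (Fin 4) (Fin 4) F) *ᵥ v = fun i => e.repr v i :=
    fun v => by
      apply mulVec_injective P
      simp only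
      rw [mulVec_inv, hP, e.sum_repr]
  set F₀ := fixedField σ
  -- `H` lies in the subfield group
  have hHsub : H ≤ Geo.subfieldSubgroup F₀ P := by
    intro g hg
    obtain ⟨a, ha⟩ := hle hg
    have hκ : σ (a : F) * σ (σ (a : F)) = 1 := by
      rw [h.form.involutive, mul_comm]; exact hnorm g hg a ha
    set κ := σ (a : F) with hκdef
    have hJ'g : ∀ v, J' ((g : Matrix (Fin 4) (Fin 4) F) *ᵥ v) =
        κ • ((g : Matrix (Fin 4) (Fin 4) F) *ᵥ J' v) := fun v => by
      simp only [J', hJg g hg a ha, Matrix.mulVec_smul]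
      exact smul_comm _ _ _
    clear_value κ
    obtain ⟨ω, hω0, hω⟩ : ∃ ω : F, ω ≠ 0 ∧ κ * σ ω = ω := by
      have key : ∀ x, κ * σ (x + κ * σ x) = x + κ * σ x := fun x => by
        rw [map_add, map_mul, h.form.involutive]
        linear_combination x * hκ
      by_cases h1 : 1 + κ * σ 1 = 0
      · obtain ⟨z, hz⟩ := h.exists_ne
        refine ⟨z + κ * σ z, fun h2 => hz ?_, key z⟩
        rw [map_one, mul_one] at h1
        linear_combination σ z * h1 - h2
      · exact ⟨1 + κ * σ 1, h1, key 1⟩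
    let z : GL (Fin 4) F :=
      Units.map (Matrix.scalar (Fin 4) : F →+* Matrix (Fin 4) (Fin 4) F).toMonoidHom (Units.mk0 ω hω0)
    have hzs : z ∈ Geo.scalars (Fin 4) F := ⟨_, rfl⟩
    set s := z * (P⁻¹ * g * P) with hs
    have hz' : ∀ w, (z : Matrix (Fin 4) (Fin 4) F) *ᵥ w = ω • w := fun w => by
      show Matrix.scalar (Fin 4) ω *ᵥ w = _
      rw [Matrix.scalar_apply, ← Matrix.smul_one_eq_diagonal, Matrix.smul_mulVec, Matrix.one_mulVec]
    have hent : ∀ i j, (s : Matrix (Fin 4) (Fin 4) F) i j ∈ F₀ := by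
      intro i j
      have h1 : (s : Matrix (Fin 4) (Fin 4) F) i j =
          ((s : Matrix (Fin 4) (Fin 4) F) *ᵥ Pi.single j 1) i := by simp
      have hPj : (P : Matrix (Fin 4) (Fin 4) F) *ᵥ Pi.single j 1 = e j := by
        rw [hP]; simp [Pi.single_apply]
      rw [h1, hs, mulVec_mul, mulVec_mul, mulVec_mul, hPj, hz', hPi, mem_fixedField]
      have h2 := hefix (ω • ((g : Matrix (Fin 4) (Fin 4) F) *ᵥ e j)) (by
        rw [hJ'smul, hJ'g, he, smul_smul, mul_comm, hω]) i
      simpa using h2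
    let s₀ : Matrix (Fin 4) (Fin 4) F₀ := Matrix.of fun i j => ⟨_, hent i j⟩
    have hmap : s₀.map F₀.subtype = (s : Matrix (Fin 4) (Fin 4) F) := rfl
    have hdet : s₀.det ≠ 0 := fun h0 => by
      have h1 := congrArg F₀.subtype h0
      rw [RingHom.map_det, map_zero, RingHom.mapMatrix_apply, hmap] at h1
      exact (Matrix.isUnits_det_units s).ne_zero h1
    have hsmem : P⁻¹ * g * P ∈ (Matrix.GeneralLinearGroup.map (n := Fin 4)
        (F₀.subtype : F₀ →+* F)).range ⊔ Geo.scalars (Fin 4) F := by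
      rw [show P⁻¹ * g * P = z⁻¹ * s by rw [hs, inv_mul_cancel_left]]
      refine Subgroup.mul_mem _ (Subgroup.mem_sup_right (inv_mem hzs)) (Subgroup.mem_sup_left
        ⟨Matrix.GeneralLinearGroup.mkOfDetNeZero s₀ hdet, Units.ext ?_⟩)
      exact hmap
    exact ⟨_, hsmem, by simp [mul_assoc]⟩
  have hcard : Fintype.card F = Nat.card F₀ ^ 2 := by rw [fixedField_card h, h.card]
  have heq := c.eq_inf hHsub
    (h.specialUnitary_not_le_subfieldSubgroup c.basis (by simp) Nat.prime_two hcard P)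
  -- the form on fixed vectors
  have hfixP : ∀ u : Fin 4 → F, (∀ i, u i ∈ F₀) →
      J' ((P : Matrix (Fin 4) (Fin 4) F) *ᵥ u) = (P : Matrix (Fin 4) (Fin 4) F) *ᵥ u := by
    intro u hu
    let φ : (Fin 4 → F) →+ (Fin 4 → F) :=
      { toFun := J', map_zero' := by simpa using hJ'smul 0 0, map_add' := hJ'add }
    show φ _ = _
    rw [hP, map_sum]
    exact Finset.sum_congr rfl fun i _ => by
      show J' _ = _
      rw [hJ'smul, he, mem_fixedField.1 (hu i)]
  have hval : ∀ x y, J' y = y → f x y = σ μ * B x y := fun x y hy => by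
    conv_lhs => rw [← hy]
    show f x (μ • J y) = _
    rw [h.sesq.smul_right, hJ]
    rfl
  rcases hsym with ⟨hodd, hs⟩ | hs
  · refine Or.inr <| Or.inr <| Or.inr <| Or.inr <| Or.inr <| Or.inr <| Or.inr <| Or.inl
      ⟨hodd, F₀, P, hcard, fun u v hu hv => ?_, heq⟩
    rw [one_mul, mem_fixedField, ← h.form.herm, hval _ _ (hfixP u hu), hval _ _ (hfixP v hv), hs]
  · have hskew : ∀ x y, B y x = -B x y := fun x y => by
      have h1 := hs (x + y)
      rw [hB.add_left, hB.add_right, hB.add_right, hs, hs] at h1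
      linear_combination h1
    obtain ⟨ζ, hζ0, hζ⟩ := h.exists_antifixed
    refine Or.inr <| Or.inr <| Or.inr <| Or.inr <| Or.inr <| Or.inr <| Or.inl
      ⟨F₀, P, ζ, hcard, hζ0, by rwa [← h.apply_eq], fun u v hu hv => ?_, fun u hu => ?_, heq⟩
    · rw [mem_fixedField, map_mul, ← h.form.herm, hval _ _ (hfixP u hu), hval _ _ (hfixP v hv),
        hskew ((P : Matrix (Fin 4) (Fin 4) F) *ᵥ u), eq_neg_of_add_eq_zero_right hζ]
      ring
    · rw [hval _ _ (hfixP u hu), hs, mul_zero]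

/-- Two totally isotropic planes. -/
theorem geometric_ts_planes (c : Ctx q σ f H) (hHa : AbsIrr H)
    {D : Fin 2 → Submodule F (Fin 4 → F)} (hD : Geo.IsMDecomposition 2 D)
    (hts : ∀ i, Geo.IsTotallySingularFor f (D i)) (hH : H ≤ Geo.decompositionStabilizer D) :
    UGeometric q f H := by
  classical
  by_cases h4 : 4 ≤ q
  · exact Or.inr <| Or.inr <| Or.inr <| Or.inr <| Or.inl
      ⟨h4, D, hD, hts, c.eq_inf hH (not_le_ts_planes c.herm hD hts)⟩
  have h := c.herm
  -- a dual basis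
  let e : Fin 2 → (Fin 4 → F) := fun k => (Module.finBasisOfFinrankEq F (D 0) (hD.finrank_eq 0) k : _)
  have he : ∀ k, e k ∈ D 0 := fun k => Subtype.prop _
  let Φ : D 1 →ₗ[F] (Fin 2 → F) := LinearMap.pi fun k => (formLeft h (e k)).comp (D 1).subtype
  have hinj : Function.Injective Φ := by
    rw [injective_iff_map_eq_zero]
    rintro ⟨v, hv⟩ hΦ
    by_contra hne
    obtain ⟨t, ht⟩ := (h.form.nondegenerate v fun h0 => hne (Subtype.ext h0)).2
    obtain ⟨t0, ht0, t1, ht1, rfl⟩ :=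
      Submodule.mem_sup.1 ((planes_sup hD).ge (Submodule.mem_top : t ∈ ⊤))
    apply ht
    rw [h.sesq.add_right, hts 1 v hv t1 ht1, add_zero]
    let φ : D 0 →+ F :=
      { toFun := fun w => f v w, map_zero' := h.zero_right v
        map_add' := fun a b => h.sesq.add_right v a b }
    show φ ⟨t0, ht0⟩ = 0
    rw [← (Module.finBasisOfFinrankEq F (D 0) (hD.finrank_eq 0)).sum_repr ⟨t0, ht0⟩, map_sum]
    refine Finset.sum_eq_zero fun k _ => ?_
    show f v (_ • e k) = 0
    rw [h.sesq.smul_right, show f v (e k) = 0 from congrFun hΦ k, mul_zero]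
  have hsurj : Function.Surjective Φ := (LinearMap.injective_iff_surjective_of_finrank_eq_finrank
    (by rw [hD.finrank_eq 1, Module.finrank_fintype_fun_eq_card, Fintype.card_fin])).1 hinj
  choose w hw using fun k : Fin 2 => hsurj (Pi.single k 1)
  have hwe : ∀ l k, f (w l : Fin 4 → F) (e k) = if k = l then 1 else 0 := fun l k => by
    have := congrFun (hw l) k
    simpa [Φ, formLeft, Pi.single_apply] using this
  let v : Fin 4 → (Fin 4 → F) := ![e 0, e 1, w 0, w 1]
  let r : Fin 4 → Fin 4 := ![2, 3, 0, 1]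
  have hrr : ∀ i, r (r i) = i := by decide
  have hv : ∀ i j, f (v i) (v j) = if j = r i then 1 else 0 := by
    have hew : ∀ l k, f (e k) (w l : Fin 4 → F) = if k = l then 1 else 0 := fun l k => by
      rw [h.form.herm, hwe]; split <;> simp
    intro i j
    fin_cases i <;> fin_cases j <;>
      simp [v, r, hwe, hew, hts 0 _ (he _) _ (he _), hts 1 _ (w _).2 _ (w _).2]
  have hli : LinearIndependent F v := by
    rw [Fintype.linearIndependent_iff]
    intro g hg i
    have h1 := congrArg (formLeft h (v (r i))) hg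
    rw [map_sum, map_zero] at h1
    simp only [map_smul, smul_eq_mul] at h1
    rw [Finset.sum_eq_single i] at h1
    · simpa [formLeft, hv] using h1
    · intro j _ hj
      show g j * f (v j) (v (r i)) = 0
      rw [hv, if_neg (fun he' => hj (by rw [← hrr j, ← he', hrr])), mul_zero]
    · simp
  let b : Module.Basis (Fin 4) F (Fin 4 → F) := basisOfLinearIndependentOfCardEqFinrank hli (by simp)
  have hb : ∀ i, b i = v i := fun i => by simp [b]
  have hrepr : ∀ u i, b.repr u i = f u (b (r i)) := fun u i => by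
    conv_rhs => rw [← b.sum_repr u]
    show _ = formLeft h _ _
    rw [map_sum, Finset.sum_eq_single i]
    · rw [map_smul, smul_eq_mul]
      show _ = _ * f (b i) (b (r i))
      rw [hb, hb, hv, if_pos rfl, mul_one]
    · intro j _ hj
      rw [map_smul, smul_eq_mul]
      show _ * f (b j) (b (r i)) = 0
      rw [hb j, hb, hv, if_neg (fun he' => hj (by rw [← hrr j, ← he', hrr])), mul_zero]
    · simp
  have hform : ∀ x y, f x y = ∑ i, b.repr x i * σ (b.repr y (r i)) := fun x y => by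
    conv_lhs => rw [← b.sum_repr x]
    show formLeft h y _ = _
    rw [map_sum]
    refine Finset.sum_congr rfl fun i _ => ?_
    rw [map_smul, smul_eq_mul, hrepr y (r i), hrr]
    show _ * f (b i) y = _
    rw [h.form.herm]
  have hmem : b 0 ∈ D 0 ∧ b 1 ∈ D 0 ∧ b 2 ∈ D 1 ∧ b 3 ∈ D 1 := by
    simp only [hb]; exact ⟨he 0, he 1, (w 0).2, (w 1).2⟩
  have hz0 : ∀ u ∈ D 0, b.repr u 2 = 0 ∧ b.repr u 3 = 0 := fun u hu =>
    ⟨by rw [hrepr]; exact hts 0 u hu _ hmem.1, by rw [hrepr]; exact hts 0 u hu _ hmem.2.1⟩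
  have hz1 : ∀ u ∈ D 1, b.repr u 0 = 0 ∧ b.repr u 1 = 0 := fun u hu =>
    ⟨by rw [hrepr]; exact hts 1 u hu _ hmem.2.2.1, by rw [hrepr]; exact hts 1 u hu _ hmem.2.2.2⟩
  have hsq : ∀ x y : F, x * y = 1 → x * σ y = 1 → x = y ∧ x * σ x = 1 := by
    intro x y hxy hxs
    have hx0 : x ≠ 0 := left_ne_zero_of_mul_eq_one hxy
    have hy0 : y ≠ 0 := right_ne_zero_of_mul_eq_one hxy
    have hfix : σ y = y := mul_left_cancel₀ hx0 (hxs.trans hxy.symm)
    have hy2 : y * y = 1 := by
      rw [h.apply_eq] at hfix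
      have hq := one_lt_q h.card
      obtain rfl | rfl : q = 2 ∨ q = 3 := by omega
      · have : y = 1 := mul_right_cancel₀ hy0 (by rw [one_mul]; linear_combination hfix)
        rw [this, one_mul]
      · exact mul_right_cancel₀ hy0 (by rw [one_mul]; linear_combination hfix)
    have hxy' : x = y := mul_right_cancel₀ hy0 (hxy.trans hy2.symm)
    exact ⟨hxy', by rw [hxy', hfix, hy2]⟩
  have hsim : ∀ g ∈ H, ∃ a : F, a * σ a = 1 ∧ ∀ x y,
      planesForm b ((g : Matrix (Fin 4) (Fin 4) F) *ᵥ x) ((g : Matrix (Fin 4) (Fin 4) F) *ᵥ y) =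
        a * planesForm b x y := by
    intro g hg
    obtain ⟨π, hπ⟩ := hH hg
    have himg : ∀ i : Fin 2, ∀ u ∈ D i, (g : Matrix (Fin 4) (Fin 4) F) *ᵥ u ∈ D (π i) :=
      fun i u hu => by rw [← hπ i]; exact ⟨u, hu, Matrix.toLin'_apply _ _⟩
    set M := LinearMap.toMatrix b b (Matrix.toLin' (g : Matrix (Fin 4) (Fin 4) F))
    have hdet : M.det = 1 := by
      rw [LinearMap.det_toMatrix, LinearMap.det_toLin', det_eq_one (c.le_specialLinear hg)]
    have hM : ∀ i j, M i j = b.repr ((g : Matrix (Fin 4) (Fin 4) F) *ᵥ b j) i := fun i j => by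
      simp [M, LinearMap.toMatrix_apply]
    have hcoord : ∀ u i, b.repr ((g : Matrix (Fin 4) (Fin 4) F) *ᵥ u) i =
        ∑ j, M i j * b.repr u j := by
      intro u i
      conv_lhs => rw [← b.sum_repr u]
      simp only [Matrix.mulVec_sum, Matrix.mulVec_smul, map_sum, map_smul, Finsupp.finsetSum_apply,
        Finsupp.smul_apply, smul_eq_mul, hM, mul_comm]
    have hE : ∀ i j, ∑ k, M k i * σ (M (r k) j) = if j = r i then 1 else 0 := fun i j => by
      simp only [hM]
      rw [← hform, c.iso hg, hb, hb, hv]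
    obtain ⟨s0, s1⟩ | ⟨s0, s1⟩ := (show ∀ s : Equiv.Perm (Fin 2),
      (s 0 = 0 ∧ s 1 = 1) ∨ (s 0 = 1 ∧ s 1 = 0) by decide) π
    · have z0 := hz0 _ (s0 ▸ himg 0 _ hmem.1)
      have z1 := hz0 _ (s0 ▸ himg 0 _ hmem.2.1)
      have z2 := hz1 _ (s1 ▸ himg 1 _ hmem.2.2.1)
      have z3 := hz1 _ (s1 ▸ himg 1 _ hmem.2.2.2)
      simp only [← hM] at z0 z1 z2 z3
      have hAB : (M 0 0 * M 1 1 - M 0 1 * M 1 0) * (M 2 2 * M 3 3 - M 2 3 * M 3 2) = 1 := by
        rw [← hdet, Matrix.det_succ_row_zero]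
        simp [Fin.sum_univ_succ, Matrix.det_fin_three, Fin.succAbove, z0, z1, z2, z3]
        ring
      have e02 := hE 0 2
      have e03 := hE 0 3
      have e12 := hE 1 2
      have e13 := hE 1 3
      simp [Fin.sum_univ_four, r, z0, z1, z2, z3] at e02 e03 e12 e13
      have hAσB : (M 0 0 * M 1 1 - M 0 1 * M 1 0) * σ (M 2 2 * M 3 3 - M 2 3 * M 3 2) = 1 := by
        simp only [map_sub, map_mul]
        linear_combination (M 0 1 * σ (M 2 3) + M 1 1 * σ (M 3 3)) * e02 + e13 -
          (M 0 1 * σ (M 2 2) + M 1 1 * σ (M 3 2)) * e03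
      obtain ⟨hAeq, hAn⟩ := hsq _ _ hAB hAσB
      refine ⟨_, hAn, fun x y => ?_⟩
      simp only [planesForm, hcoord, Fin.sum_univ_four, z0.1, z0.2, z1.1, z1.2, z2.1, z2.2, z3.1,
        z3.2]
      linear_combination -(b.repr x 2 * b.repr y 3 - b.repr x 3 * b.repr y 2) * hAeq
    · have z0 := hz1 _ (s0 ▸ himg 0 _ hmem.1)
      have z1 := hz1 _ (s0 ▸ himg 0 _ hmem.2.1)
      have z2 := hz0 _ (s1 ▸ himg 1 _ hmem.2.2.1)
      have z3 := hz0 _ (s1 ▸ himg 1 _ hmem.2.2.2)
      simp only [← hM] at z0 z1 z2 z3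
      have hAB : (M 2 0 * M 3 1 - M 2 1 * M 3 0) * (M 0 2 * M 1 3 - M 0 3 * M 1 2) = 1 := by
        rw [← hdet, Matrix.det_succ_row_zero]
        simp [Fin.sum_univ_succ, Matrix.det_fin_three, Fin.succAbove, z0, z1, z2, z3]
        ring
      have e02 := hE 0 2
      have e03 := hE 0 3
      have e12 := hE 1 2
      have e13 := hE 1 3
      simp [Fin.sum_univ_four, r, z0, z1, z2, z3] at e02 e03 e12 e13
      have hAσB : (M 2 0 * M 3 1 - M 2 1 * M 3 0) * σ (M 0 2 * M 1 3 - M 0 3 * M 1 2) = 1 := by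
        simp only [map_sub, map_mul]
        linear_combination (M 2 1 * σ (M 0 3) + M 3 1 * σ (M 1 3)) * e02 + e13 -
          (M 2 1 * σ (M 0 2) + M 3 1 * σ (M 1 2)) * e03
      obtain ⟨hAeq, hAn⟩ := hsq _ _ hAB hAσB
      refine ⟨_, hAn, fun x y => ?_⟩
      simp only [planesForm, hcoord, Fin.sum_univ_four, z0.1, z0.2, z1.1, z1.2, z2.1, z2.2, z3.1,
        z3.2]
      linear_combination -(b.repr x 2 * b.repr y 3 - b.repr x 3 * b.repr y 2) * hAeq
  have hsymp := planesForm_isSymplectic b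
  refine similitude_norm_one c hHa hsymp.bilinear hsymp.nondegenerate (fun g hg => ?_)
    (Or.inr hsymp.alternating) fun g hg a ha => ?_
  · obtain ⟨a, ha, hga⟩ := hsim g hg
    exact ⟨Units.mk0 a (left_ne_zero_of_mul_eq_one ha), hga⟩
  · obtain ⟨a', ha', hga⟩ := hsim g hg
    have h1 := (ha (b 0) (b 1)).symm.trans (hga (b 0) (b 1))
    simp [planesForm] at h1
    rw [h1]
    exact ha'

/-- Orthogonal planes are non-degenerate. -/
theorem nondeg_of_orth (h : Herm q σ f) {D : Fin 2 → Submodule F (Fin 4 → F)}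
    (hD : Geo.IsMDecomposition 2 D) (ho : ∀ u ∈ D 0, ∀ v ∈ D 1, f u v = 0) :
    Geo.IsNondegenerateMDecomposition f 2 D := by
  have horth : ∀ i j, i ≠ j → Geo.AreOrthogonalFor f (D i) (D j) := by
    intro i j hij u hu v hv
    fin_cases i <;> fin_cases j <;> simp at hij
    · exact ho u hu v hv
    · exact h.eq_zero_comm (ho v hv u hu)
  refine ⟨hD, fun i w hw hw0 => ?_, horth⟩
  obtain ⟨t, ht⟩ := (h.form.nondegenerate w hw0).2
  obtain ⟨t0, ht0, t1, ht1, rfl⟩ :=
    Submodule.mem_sup.1 ((planes_sup hD).ge (Submodule.mem_top : t ∈ ⊤))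
  rw [h.sesq.add_right] at ht
  fin_cases i
  · rw [horth 0 1 (by decide) w hw t1 ht1, add_zero] at ht
    exact ⟨⟨t0, ht0, fun h0 => ht (h.eq_zero_comm h0)⟩, t0, ht0, ht⟩
  · rw [horth 1 0 (by decide) w hw t0 ht0, zero_add] at ht
    exact ⟨⟨t1, ht1, fun h0 => ht (h.eq_zero_comm h0)⟩, t1, ht1, ht⟩

/-- Similitudes of a symmetric or alternating form. -/
theorem geometric_similitude (c : Ctx q σ f H) (hHa : AbsIrr H)
    {B : (Fin 4 → F) → (Fin 4 → F) → F} (hB : Geo.IsBilinearForm B)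
    (hnd : Geo.IsNondegenerateForm B) (hle : H ≤ Geo.similarityGroup B)
    (hsym : (Odd q ∧ ∀ u v, B u v = B v u) ∨ ∀ u, B u u = 0) : UGeometric q f H := by
  classical
  have h := c.herm
  -- norms of multipliers square to one
  have hN2 : ∀ g ∈ H, ∀ a : F, (∀ u v, B ((g : Matrix (Fin 4) (Fin 4) F) *ᵥ u)
      ((g : Matrix (Fin 4) (Fin 4) F) *ᵥ v) = a * B u v) → a * σ a = 1 ∨ a * σ a = -1 := by
    intro g hg a ha
    have h4 := multiplier_pow_four hB hnd (det_eq_one (c.le_specialLinear hg)) ha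
    refine sq_eq_one_iff.1 ?_
    rcases sq_eq_one_iff.1 (show (a ^ 2) ^ 2 = 1 by rw [← pow_mul]; exact h4) with h2 | h2 <;>
      rw [mul_pow, ← map_pow, h2] <;> simp
  by_cases hall : ∀ g ∈ H, ∀ a : F, (∀ u v, B ((g : Matrix (Fin 4) (Fin 4) F) *ᵥ u)
      ((g : Matrix (Fin 4) (Fin 4) F) *ᵥ v) = a * B u v) → a * σ a = 1
  · exact similitude_norm_one c hHa hB hnd hle hsym hall
  push Not at hall
  obtain ⟨g₀, hg₀, a₀, ha₀, hne⟩ := hall
  have hm1 := (hN2 g₀ hg₀ a₀ ha₀).resolve_left hne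
  have h2 : (2 : F) ≠ 0 := fun h0 => hne (by rw [hm1]; linear_combination -h0)
  obtain ⟨J, hJ, hJadd, hJsmul, hJ0, hJg⟩ := exists_adjointMap c hB hnd
  let L : (Fin 4 → F) →ₗ[F] (Fin 4 → F) :=
    { toFun := fun v => J (J v)
      map_add' := fun x y => by rw [hJadd, hJadd]
      map_smul' := fun a x => by rw [hJsmul, hJsmul, h.form.involutive, RingHom.id_apply] }
  have hLg : ∀ g ∈ H, ∀ a : F, (∀ u v, B ((g : Matrix (Fin 4) (Fin 4) F) *ᵥ u)
      ((g : Matrix (Fin 4) (Fin 4) F) *ᵥ v) = a * B u v) → ∀ v,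
      L ((g : Matrix (Fin 4) (Fin 4) F) *ᵥ v) =
        (a * σ a) • ((g : Matrix (Fin 4) (Fin 4) F) *ᵥ L v) := by
    intro g hg a ha v
    show J (J _) = (a * σ a) • ((g : Matrix (Fin 4) (Fin 4) F) *ᵥ J (J v))
    rw [hJg g hg a ha, hJsmul, hJg g hg a ha, smul_smul, h.form.involutive]
  obtain ⟨l, hl⟩ := hHa.2 (LinearMap.toMatrix' (L.comp L)) (by
    rintro s ⟨g, hg, rfl⟩
    obtain ⟨a, ha⟩ := hle hg
    refine Matrix.ext_of_mulVec_single fun i => ?_
    simp only [← Matrix.mulVec_mulVec, LinearMap.toMatrix'_mulVec, LinearMap.comp_apply]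
    rw [hLg g hg a ha, map_smul, hLg g hg a ha, smul_smul]
    rcases hN2 g hg a ha with h1 | h1 <;> rw [h1] <;> simp)
  have hLL : ∀ v, L (L v) = l • v := fun v => by
    have := congrArg (· *ᵥ v) hl
    simpa [Matrix.smul_mulVec, LinearMap.toMatrix'_mulVec] using this
  have hL0 : ∀ v, L v = 0 → v = 0 := fun v hv => hJ0 _ (hJ0 _ hv)
  have he0 : (Pi.single 0 1 : Fin 4 → F) ≠ 0 := by simp
  have hl0 : l ≠ 0 := by
    rintro rfl
    exact he0 (hL0 _ (hL0 _ (by rw [hLL, zero_smul])))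
  have hlσ : σ l = l := by
    have hJ4 : ∀ v, J (L (L v)) = L (L (J v)) := fun v => rfl
    have h1 := hJ4 (Pi.single 0 1)
    rw [hLL, hLL, hJsmul] at h1
    exact smul_left_injective F (fun h0 => he0 (hJ0 _ h0)) h1
  obtain ⟨m, hm⟩ := c.odd_q h2
  obtain ⟨a, ha⟩ := h.exists_norm hl0 hlσ
  obtain ⟨s, hs⟩ : ∃ s : F, s * s = l := ⟨a ^ (m + 1), by
    rw [← ha, h.apply_eq, hm, ← pow_succ', ← pow_add]; ring_nf⟩
  have hs0 : s ≠ 0 := fun h0 => hl0 (by rw [← hs, h0, zero_mul])
  let E : Fin 2 → Submodule F (Fin 4 → F) :=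
    fun i => LinearMap.ker (L - (![s, -s] i) • LinearMap.id)
  have hmem : ∀ {i : Fin 2} {v}, v ∈ E i ↔ L v = (![s, -s] i) • v := fun {i v} => by
    simp [E, sub_eq_zero]
  have hm0 : ∀ v, v ∈ E 0 ↔ L v = s • v := fun v => by rw [hmem]; rfl
  have hm1' : ∀ v, v ∈ E 1 ↔ L v = (-s) • v := fun v => by rw [hmem]; rfl
  have hdis : ∀ v, v ∈ E 0 → v ∈ E 1 → v = 0 := fun v h0 h1 => by
    have := ((hm0 v).1 h0).symm.trans ((hm1' v).1 h1)
    rw [neg_smul, eq_neg_iff_add_eq_zero, ← two_smul F, smul_smul] at this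
    exact (smul_eq_zero.1 this).resolve_left (mul_ne_zero h2 hs0)
  have hsup : E 0 ⊔ E 1 = ⊤ := eq_top_iff.2 fun v _ => by
    refine Submodule.mem_sup.2 ⟨(2 * s)⁻¹ • (L v + s • v), (hm0 _).2 ?_,
      -((2 * s)⁻¹ • (L v - s • v)), (hm1' _).2 ?_, ?_⟩
    · rw [map_smul, map_add, map_smul, hLL, ← hs]
      module
    · rw [map_neg, map_smul, map_sub, map_smul, hLL, ← hs]
      module
    · rw [← sub_eq_add_neg, ← smul_sub, show L v + s • v - (L v - s • v) = (2 * s) • v by module,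
        smul_smul, inv_mul_cancel₀ (mul_ne_zero h2 hs0), one_smul]
  -- images
  have himg : ∀ g ∈ H, ∃ π : Equiv.Perm (Fin 2), ∀ i, ∀ v ∈ E i,
      (g : Matrix (Fin 4) (Fin 4) F) *ᵥ v ∈ E (π i) := by
    intro g hg
    obtain ⟨a', ha'⟩ := hle hg
    rcases hN2 g hg a' ha' with h1 | h1
    · refine ⟨1, fun i v hv => hmem.2 ?_⟩
      rw [hLg g hg a' ha', h1, one_smul, hmem.1 hv, Matrix.mulVec_smul]
      rfl
    · refine ⟨Equiv.swap 0 1, fun i v hv => hmem.2 ?_⟩
      rw [hLg g hg a' ha', h1, hmem.1 hv, Matrix.mulVec_smul, smul_smul]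
      fin_cases i <;> simp
  have hd : ∀ i, Module.finrank F (E i) = 2 := by
    have key : ∀ i j : Fin 2, (∀ v ∈ E i, (g₀ : Matrix (Fin 4) (Fin 4) F) *ᵥ v ∈ E j) →
        Module.finrank F (E i) ≤ Module.finrank F (E j) := fun i j hij => by
      rw [← finrank_translate g₀ (E i)]
      refine Submodule.finrank_mono fun w hw => ?_
      obtain ⟨v, hv, rfl⟩ := mem_translate.1 hw
      exact hij v hv
    have hsw : ∀ i, ∀ v ∈ E i, (g₀ : Matrix (Fin 4) (Fin 4) F) *ᵥ v ∈ E (Equiv.swap 0 1 i) := by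
      intro i v hv
      refine hmem.2 ?_
      rw [hLg g₀ hg₀ a₀ ha₀, hm1, hmem.1 hv, Matrix.mulVec_smul, smul_smul]
      fin_cases i <;> simp
    have h01 := key 0 1 (hsw 0)
    have h10 := key 1 0 (hsw 1)
    have h1 := Submodule.finrank_sup_add_finrank_inf_eq (E 0) (E 1)
    rw [hsup, finrank_top, (Submodule.eq_bot_iff (E 0 ⊓ E 1)).2 (fun v hv => hdis v hv.1 hv.2), finrank_bot,
      Module.finrank_fintype_fun_eq_card, Fintype.card_fin] at h1
    intro i
    fin_cases i <;> simp <;> omega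
  have hD : Geo.IsMDecomposition 2 E := by
    refine ⟨le_rfl, two_pos, hd, ?_, ?_⟩
    · rw [iSupIndep_pair (show (0 : Fin 2) ≠ 1 by decide) (fun i => by fin_cases i <;> simp)]
      exact disjoint_iff.2 ((Submodule.eq_bot_iff _).2 fun v hv => hdis v hv.1 hv.2)
    · exact eq_top_iff.2 (hsup ▸ sup_le (le_iSup E 0) (le_iSup E 1))
  have hH : H ≤ Geo.decompositionStabilizer E := by
    intro g hg
    obtain ⟨π, hπ⟩ := himg g hg
    refine ⟨π, fun i => Submodule.eq_of_le_of_finrank_le (fun w hw => ?_) ?_⟩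
    · obtain ⟨v, hv, rfl⟩ := Submodule.mem_map.1 hw
      rw [Matrix.toLin'_apply]
      exact hπ i v hv
    · rw [hd, show (E i).map (Matrix.toLin' (g : Matrix (Fin 4) (Fin 4) F)) = translate g (E i)
        from rfl, finrank_translate, hd]
  -- `L` is self-adjoint
  obtain ⟨ε, hε, hεσ, hεε⟩ : ∃ ε : F, (∀ x y, B y x = ε * B x y) ∧ σ ε = ε ∧ ε * ε = 1 := by
    rcases hsym with ⟨-, hs'⟩ | hs'
    · exact ⟨1, fun x y => by rw [one_mul, hs'], map_one σ, one_mul 1⟩
    · refine ⟨-1, fun x y => ?_, by rw [map_neg, map_one], by ring⟩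
      have h1 := hs' (x + y)
      rw [hB.add_left, hB.add_right, hB.add_right, hs', hs'] at h1
      linear_combination h1
  have hLadj : ∀ u v, f (L u) v = f u (L v) := by
    intro u v
    show f (J (J u)) v = f u (J (J v))
    rw [h.form.herm (J (J u)) v, hJ, hε (J u) v, map_mul, hεσ, ← hJ (J u) v,
      ← h.form.herm (J v) (J u), hJ (J v) u, hJ u (J v), hε u (J v), ← mul_assoc, hεε, one_mul]
  have hσs : σ s = s ∨ σ s = -s := mul_self_eq_mul_self_iff.1 (by rw [← map_mul, hs, hlσ])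
  rcases hσs with hσs | hσs
  · refine geometric_orth_planes c (nondeg_of_orth h hD fun u hu v hv => ?_) hH
    have h1 := hLadj u v
    rw [(hm0 u).1 hu, (hm1' v).1 hv, h.sesq.smul_left, h.sesq.smul_right] at h1
    simp only [RingEquiv.toRingHom_eq_coe, RingHom.coe_coe, map_neg, hσs] at h1
    exact (mul_eq_zero.1 (show (2 * s) * f u v = 0 by linear_combination h1)).resolve_left
      (mul_ne_zero h2 hs0)
  · refine geometric_ts_planes c hHa hD (fun i u hu v hv => ?_) hH
    have h1 := hLadj u v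
    rw [hmem.1 hu, hmem.1 hv, h.sesq.smul_left, h.sesq.smul_right] at h1
    simp only [RingEquiv.toRingHom_eq_coe, RingHom.coe_coe] at h1
    have h3 : σ (![s, -s] i) = -(![s, -s] i) := by fin_cases i <;> simp [hσs]
    rw [h3] at h1
    exact (mul_eq_zero.1 (show (2 * ![s, -s] i) * f u v = 0 by linear_combination h1)).resolve_left
      (mul_ne_zero h2 (by fin_cases i <;> simp [hs0]))

end Cfsg.Agent.AschbacherFour
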