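import Mathlib
import Cfsg.Prelude.Def_GeometricClasses

/-!
# Absolutely irreducible groups in GL₄ that are elementary abelian modulo scalars

Such a group of determinant one has order `16 * |scalars|`, consists of square roots of `±1`,
spans the matrix algebra, and fixes a non-degenerate form.
-/

namespace Cfsg.Agent.AschbacherFour

open Matrix

variable {F : Type*} [Field F]

/-- `N` has determinant one, trivial commutant, commutators scalar and `r`-th powers scalar. -/
structure SymType (N : Subgroup (GL (Fin 4) F)) : Prop where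
  det_one : ∀ x ∈ N, ((x : GL (Fin 4) F) : Matrix (Fin 4) (Fin 4) F).det = 1
  irred : ∀ M : Matrix (Fin 4) (Fin 4) F, (∀ x ∈ N, (x : Matrix (Fin 4) (Fin 4) F) * M = M * x) →
    ∃ c : F, M = c • 1
  comm : ∀ x ∈ N, ∀ y ∈ N, ∃ c : F,
    (x : Matrix (Fin 4) (Fin 4) F) * y = c • ((y : Matrix (Fin 4) (Fin 4) F) * x)
  pow : ∃ r : ℕ, r.Prime ∧ ∀ x ∈ N, ∃ c : F, (x : Matrix (Fin 4) (Fin 4) F) ^ r = c • 1

/-- the matrix is a scalar -/
def IsScalarMat (M : Matrix (Fin 4) (Fin 4) F) : Prop := ∃ c : F, M = c • 1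

theorem isScalarMat_mul_comm {M : Matrix (Fin 4) (Fin 4) F} (h : IsScalarMat M)
    (A : Matrix (Fin 4) (Fin 4) F) : A * M = M * A := by
  obtain ⟨c, rfl⟩ := h
  simp

variable {N : Subgroup (GL (Fin 4) F)}

theorem SymType.exists_noncomm (hN : SymType N) {x : GL (Fin 4) F}
    (hns : ¬ IsScalarMat (x : Matrix (Fin 4) (Fin 4) F)) :
    ∃ y ∈ N, (y : Matrix (Fin 4) (Fin 4) F) * x ≠ x * y := by
  by_contra h
  simp only [not_exists, not_and, not_not] at h
  exact hns (hN.irred _ h)

theorem SymType.exists_nonscalar (hN : SymType N) :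
    ∃ x ∈ N, ¬ IsScalarMat (x : Matrix (Fin 4) (Fin 4) F) := by
  by_contra h
  simp only [not_exists, not_and, not_not] at h
  obtain ⟨c, hc⟩ := hN.irred (Matrix.single 0 1 1) fun x hx =>
    (isScalarMat_mul_comm (h x hx) _).symm
  have := congrFun (congrFun hc 0) 1
  simp [Matrix.single] at this

theorem coe_mul_ne {x y : GL (Fin 4) F} :
    (x : Matrix (Fin 4) (Fin 4) F) * y ≠ 0 := by
  rw [← Units.val_mul]
  exact Units.ne_zero _

theorem SymType.two_ne_zero_and_anti (hN : SymType N) :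
    (2 : F) ≠ 0 ∧ (∀ x ∈ N, ∀ y ∈ N, (x : Matrix (Fin 4) (Fin 4) F) * y = y * x ∨
        (x : Matrix (Fin 4) (Fin 4) F) * y = -((y : Matrix (Fin 4) (Fin 4) F) * x)) ∧
      ∀ x ∈ N, ∃ c : F, (x : Matrix (Fin 4) (Fin 4) F) ^ 2 = c • 1 := by
  obtain ⟨r, hr, hrp⟩ := hN.pow
  have key : ∀ x ∈ N, ∀ y ∈ N, ∀ c : F,
      (y : Matrix (Fin 4) (Fin 4) F) * x = c • ((x : Matrix (Fin 4) (Fin 4) F) * y) →
        c ^ 4 = 1 ∧ c ^ r = 1 := by
    intro x hx y hy c hc
    refine ⟨?_, ?_⟩
    · have := congrArg Matrix.det hc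
      rw [Matrix.det_mul, Matrix.det_smul, Matrix.det_mul, hN.det_one x hx, hN.det_one y hy] at this
      simpa using this.symm
    · have hpow : ∀ k : ℕ, (y : Matrix (Fin 4) (Fin 4) F) * (x : Matrix (Fin 4) (Fin 4) F) ^ k =
          c ^ k • ((x : Matrix (Fin 4) (Fin 4) F) ^ k * y) := by
        intro k
        induction k with
        | zero => simp
        | succ k ih =>
          rw [pow_succ, ← mul_assoc, ih, Matrix.smul_mul, mul_assoc, hc, Matrix.mul_smul, smul_smul,
            ← pow_succ, ← mul_assoc]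
      have h := hpow r
      obtain ⟨d, hd⟩ := hrp x hx
      rw [hd, Matrix.mul_smul, mul_one, Matrix.smul_mul, one_mul, smul_smul] at h
      have hd0 : d ≠ 0 := by
        rintro rfl
        rw [zero_smul, ← Units.val_pow_eq_pow_val] at hd
        exact Units.ne_zero _ hd
      have h' := smul_left_injective F (Units.ne_zero y) h
      exact mul_right_cancel₀ hd0 (by rw [one_mul]; exact h'.symm)
  obtain ⟨x, hx, hns⟩ := hN.exists_nonscalar
  obtain ⟨y, hy, hxy⟩ := hN.exists_noncomm hns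
  obtain ⟨c, hc⟩ := hN.comm y hy x hx
  have hc1 : c ≠ 1 := fun h => hxy (by rw [hc, h, one_smul])
  obtain ⟨h4, hr'⟩ := key x hx y hy c hc
  have hr2 : r = 2 := by
    by_contra hne
    refine hc1 ?_
    have hco : Nat.Coprime 4 r := by
      rw [show (4 : ℕ) = 2 ^ 2 by norm_num]
      exact Nat.Coprime.pow_left 2 ((Nat.coprime_primes Nat.prime_two hr).2 (Ne.symm hne))
    have : orderOf c ∣ 1 := by
      rw [← hco.gcd_eq_one]
      exact Nat.dvd_gcd (orderOf_dvd_of_pow_eq_one h4) (orderOf_dvd_of_pow_eq_one hr')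
    rwa [Nat.dvd_one, orderOf_eq_one_iff] at this
  subst hr2
  have hneg : c = -1 := (sq_eq_one_iff.1 hr').resolve_left hc1
  have h2 : (2 : F) ≠ 0 := fun h => hc1 (by
    rw [hneg]; linear_combination (-1 : F) * h)
  refine ⟨h2, fun a ha b hb => ?_, hrp⟩
  obtain ⟨e, he⟩ := hN.comm a ha b hb
  rcases sq_eq_one_iff.1 (key b hb a ha e he).2 with h | h
  · left; rw [he, h, one_smul]
  · right; rw [he, h, neg_one_smul]

theorem SymType.two_ne_zero (hN : SymType N) : (2 : F) ≠ 0 := hN.two_ne_zero_and_anti.1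

theorem SymType.four_ne_zero (hN : SymType N) : (4 : F) ≠ 0 := by
  rw [show (4 : F) = 2 * 2 by norm_num]
  exact mul_ne_zero hN.two_ne_zero hN.two_ne_zero

theorem SymType.anti (hN : SymType N) {x y : GL (Fin 4) F} (hx : x ∈ N) (hy : y ∈ N) :
    (x : Matrix (Fin 4) (Fin 4) F) * y = y * x ∨
      (x : Matrix (Fin 4) (Fin 4) F) * y = -((y : Matrix (Fin 4) (Fin 4) F) * x) :=
  hN.two_ne_zero_and_anti.2.1 x hx y hy

theorem SymType.trace_eq_zero (hN : SymType N) {x : GL (Fin 4) F} (hx : x ∈ N)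
    (hns : ¬ IsScalarMat (x : Matrix (Fin 4) (Fin 4) F)) :
    (x : Matrix (Fin 4) (Fin 4) F).trace = 0 := by
  obtain ⟨y, hy, hxy⟩ := hN.exists_noncomm hns
  have h := (hN.anti hy hx).resolve_left hxy
  have : ((y⁻¹ : GL (Fin 4) F) : Matrix (Fin 4) (Fin 4) F) * (y * x : Matrix (Fin 4) (Fin 4) F) =
      -(((y⁻¹ : GL (Fin 4) F) : Matrix (Fin 4) (Fin 4) F) * (x * y)) := by
    rw [h, mul_neg]
  rw [← mul_assoc, ← Units.val_mul, inv_mul_cancel, Units.val_one, one_mul] at this
  have h' := congrArg Matrix.trace this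
  rw [Matrix.trace_neg, Matrix.trace_mul_comm, mul_assoc, ← Units.val_mul, mul_inv_cancel,
    Units.val_one, mul_one] at h'
  have : (2 : F) * (x : Matrix (Fin 4) (Fin 4) F).trace = 0 := by linear_combination h'
  exact (mul_eq_zero.1 this).resolve_left hN.two_ne_zero

theorem SymType.sq (hN : SymType N) {x : GL (Fin 4) F} (hx : x ∈ N)
    (hns : ¬ IsScalarMat (x : Matrix (Fin 4) (Fin 4) F)) :
    (x : Matrix (Fin 4) (Fin 4) F) ^ 2 = 1 ∨ (x : Matrix (Fin 4) (Fin 4) F) ^ 2 = -1 := by
  obtain ⟨c, hc⟩ := hN.two_ne_zero_and_anti.2.2 x hx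
  suffices hcc : c * c = 1 by
    rcases mul_self_eq_one_iff.1 hcc with h | h
    · left; rw [hc, h, one_smul]
    · right; rw [hc, h, neg_one_smul]
  set K := AlgebraicClosure F
  set A := (x : Matrix (Fin 4) (Fin 4) F).map (algebraMap F K) with hA
  have htr : A.trace = 0 := by
    rw [hA, ← AddMonoidHom.map_trace, hN.trace_eq_zero hx hns, map_zero]
  have hdet : A.det = 1 := by
    rw [hA, ← RingHom.mapMatrix_apply, ← RingHom.map_det, hN.det_one x hx, map_one]
  have hsq : A * A = algebraMap F K c • 1 := by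
    rw [hA, ← Matrix.map_mul, ← pow_two, hc]
    ext i j
    simp [Matrix.one_apply, apply_ite (algebraMap F K)]
  obtain ⟨μ, hμ⟩ := IsAlgClosed.exists_pow_nat_eq (algebraMap F K c) (show 0 < 2 by norm_num)
  have hroot : ∀ r ∈ A.charpoly.roots, r = μ ∨ r = -μ := by
    intro r hr
    have hspec : r ∈ spectrum K A := Matrix.mem_spectrum_iff_isRoot_charpoly.2
      (Polynomial.isRoot_of_mem_roots hr)
    rw [← Matrix.spectrum_toLin'] at hspec
    obtain ⟨v, hv⟩ := (Module.End.hasEigenvalue_iff_mem_spectrum.2 hspec).exists_hasEigenvector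
    have hv1 : A *ᵥ v = r • v := by simpa using hv.apply_eq_smul
    have h := congrArg (· *ᵥ v) hsq
    simp only [← Matrix.mulVec_mulVec, hv1, Matrix.mulVec_smul, smul_smul, Matrix.smul_mulVec,
      Matrix.one_mulVec] at h
    have h' := smul_left_injective K hv.2 h
    exact sq_eq_sq_iff_eq_or_eq_neg.1 (by rw [hμ, ← h', pow_two])
  have hsum : A.charpoly.roots.sum = 0 := by
    rw [← htr, Matrix.trace_eq_sum_roots_charpoly]
  have hcard : A.charpoly.roots.card = 4 := by
    rw [IsAlgClosed.card_roots_eq_natDegree, Matrix.charpoly_natDegree_eq_dim, Fintype.card_fin]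
  have hprod : A.charpoly.roots.prod = 1 := by
    rw [← hdet, Matrix.det_eq_prod_roots_charpoly]
  obtain ⟨a, b, cc, d, habcd⟩ := Multiset.card_eq_four.1 hcard
  rw [habcd] at hsum hprod hroot
  simp only [Multiset.insert_eq_cons, Multiset.sum_cons, Multiset.sum_singleton,
    Multiset.prod_cons, Multiset.prod_singleton, Multiset.mem_cons, Multiset.mem_singleton,
    forall_eq_or_imp, forall_eq] at hsum hprod hroot
  have hμ0 : μ ≠ 0 := by
    rintro rfl
    rw [zero_pow (show 2 ≠ 0 by norm_num), eq_comm, map_eq_zero] at hμ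
    rw [hμ, zero_smul, ← Units.val_pow_eq_pow_val] at hc
    exact Units.ne_zero _ hc
  have h2K : (2 : K) ≠ 0 := fun h => hN.two_ne_zero
    ((algebraMap F K).injective (by rw [map_ofNat, map_zero]; exact h))
  have hμ4 : μ ^ 4 = 1 := by
    obtain ⟨ha, hb, hc', hd⟩ := hroot
    rcases ha with rfl | rfl <;> rcases hb with rfl | rfl <;> rcases hc' with rfl | rfl <;>
      rcases hd with rfl | rfl <;>
      first
        | linear_combination hprod
        | (exfalso; apply mul_ne_zero (mul_ne_zero h2K h2K) hμ0; linear_combination hsum)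
        | (exfalso; apply mul_ne_zero (mul_ne_zero h2K h2K) hμ0; linear_combination -hsum)
        | (exfalso; apply mul_ne_zero h2K hμ0; linear_combination hsum)
        | (exfalso; apply mul_ne_zero h2K hμ0; linear_combination -hsum)
  apply (algebraMap F K).injective
  rw [map_mul, map_one, ← hμ, ← hμ4]
  ring

variable [Finite F]

/-- `N` modulo scalars -/
abbrev Quot (N : Subgroup (GL (Fin 4) F)) := N ⧸ (Cfsg.Geo.scalars (Fin 4) F).subgroupOf N

theorem mem_scalars {x : GL (Fin 4) F} :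
    x ∈ Cfsg.Geo.scalars (Fin 4) F ↔ IsScalarMat (x : Matrix (Fin 4) (Fin 4) F) := by
  rw [Cfsg.Geo.mem_scalars_iff]
  refine ⟨fun ⟨c, hc⟩ => ⟨c, hc⟩, fun ⟨c, hc⟩ => ⟨Units.mk0 c fun h => ?_, hc⟩⟩
  rw [h, zero_smul] at hc
  exact Units.ne_zero x hc

theorem SymType.isPGroup (hN : SymType N) : IsPGroup 2 N := by
  intro x
  refine ⟨2, Subtype.ext (Units.ext ?_)⟩
  simp only [SubgroupClass.coe_pow, Units.val_pow_eq_pow_val, OneMemClass.coe_one, Units.val_one]
  by_cases h : IsScalarMat ((x : GL (Fin 4) F) : Matrix (Fin 4) (Fin 4) F)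
  · obtain ⟨c, hc⟩ := h
    have := hN.det_one x x.2
    rw [hc, Matrix.det_smul, Matrix.det_one, mul_one, Fintype.card_fin] at this
    rw [hc, smul_pow, one_pow, show 2 ^ 2 = 4 by norm_num, this, one_smul]
  · rcases hN.sq x.2 h with h | h <;> rw [show 2 ^ 2 = 2 * 2 by norm_num, pow_mul, h] <;> simp

open Classical in
theorem SymType.trace_inv_mul (hN : SymType N) {q q' : Quot N} :
    ((((Quotient.out q : N) : GL (Fin 4) F)⁻¹ * ((Quotient.out q' : N) : GL (Fin 4) F) :
      GL (Fin 4) F) : Matrix (Fin 4) (Fin 4) F).trace = if q = q' then (4 : F) else 0 := by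
  split
  · next h => subst h; simp
  · next h =>
    refine hN.trace_eq_zero (mul_mem (inv_mem (Quotient.out q).2) (Quotient.out q').2) fun hs => h ?_
    conv_lhs => rw [← QuotientGroup.out_eq' q]
    conv_rhs => rw [← QuotientGroup.out_eq' q']
    rw [QuotientGroup.eq, Subgroup.mem_subgroupOf]
    exact mem_scalars.2 hs

theorem SymType.linearIndependent (hN : SymType N) :
    LinearIndependent F fun q : Quot N =>
      (((Quotient.out q : N) : GL (Fin 4) F) : Matrix (Fin 4) (Fin 4) F) := by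
  classical
  haveI := Fintype.ofFinite (Quot N)
  rw [Fintype.linearIndependent_iff]
  intro g hg i
  have h := congrArg (fun M => (((((Quotient.out i : N) : GL (Fin 4) F)⁻¹ : GL (Fin 4) F) :
    Matrix (Fin 4) (Fin 4) F) * M).trace) hg
  simp only [Matrix.mul_sum, Matrix.mul_smul, Matrix.trace_sum, Matrix.trace_smul, mul_zero,
    Matrix.trace_zero, smul_eq_mul, ← Units.val_mul, hN.trace_inv_mul, mul_ite] at h
  rw [Finset.sum_ite_eq Finset.univ i] at h
  simpa [hN.four_ne_zero] using h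

omit [Finite F] in
theorem conj_scalar {x : GL (Fin 4) F} (hx : IsScalarMat (x : Matrix (Fin 4) (Fin 4) F))
    (A : Matrix (Fin 4) (Fin 4) F) :
    (x : Matrix (Fin 4) (Fin 4) F) * A * ((x⁻¹ : GL (Fin 4) F) : Matrix (Fin 4) (Fin 4) F) = A := by
  rw [← isScalarMat_mul_comm hx, mul_assoc, ← Units.val_mul, mul_inv_cancel, Units.val_one,
    mul_one]

theorem SymType.natCast_ne_zero (hN : SymType N) {m k : ℕ} (h : m = 2 ^ k) : (m : F) ≠ 0 := by
  rw [h, Nat.cast_pow]
  exact pow_ne_zero _ hN.two_ne_zero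

theorem SymType.span_eq_top (hN : SymType N) :
    Submodule.span F (Set.range fun q : Quot N =>
      (((Quotient.out q : N) : GL (Fin 4) F) : Matrix (Fin 4) (Fin 4) F)) = ⊤ := by
  classical
  haveI := Fintype.ofFinite (Quot N)
  let c : GL (Fin 4) F → Matrix (Fin 4) (Fin 4) F → Matrix (Fin 4) (Fin 4) F := fun x A =>
    (x : Matrix (Fin 4) (Fin 4) F) * A * ((x⁻¹ : GL (Fin 4) F) : Matrix (Fin 4) (Fin 4) F)
  have hcongr : ∀ (x : N) A, c x A = c (Quotient.out (x : Quot N) : N) A := by
    intro x A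
    obtain ⟨⟨h, hh⟩, he⟩ :=
      QuotientGroup.mk_out_eq_mul ((Cfsg.Geo.scalars (Fin 4) F).subgroupOf N) x
    rw [he]
    have hs := conj_scalar (x := (h : GL (Fin 4) F)) (mem_scalars.1 (Subgroup.mem_subgroupOf.1 hh)) A
    simp only [c, Subgroup.coe_mul, Units.val_mul, _root_.mul_inv_rev]
    rw [show ((x : GL (Fin 4) F) : Matrix (Fin 4) (Fin 4) F) * (h : GL (Fin 4) F) * A *
      ((((h : GL (Fin 4) F)⁻¹ : GL (Fin 4) F) : Matrix (Fin 4) (Fin 4) F) *
        (((x : GL (Fin 4) F)⁻¹ : GL (Fin 4) F) : Matrix (Fin 4) (Fin 4) F)) =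
      ((x : GL (Fin 4) F) : Matrix (Fin 4) (Fin 4) F) * (((h : GL (Fin 4) F) :
        Matrix (Fin 4) (Fin 4) F) * A * (((h : GL (Fin 4) F)⁻¹ : GL (Fin 4) F) :
        Matrix (Fin 4) (Fin 4) F)) *
        (((x : GL (Fin 4) F)⁻¹ : GL (Fin 4) F) : Matrix (Fin 4) (Fin 4) F) by
      simp only [mul_assoc], hs]
  set d : F := (Fintype.card (Quot N) : F) with hd
  have hd0 : d ≠ 0 := by
    obtain ⟨k, hk⟩ := IsPGroup.iff_card.1 (hN.isPGroup.to_quotient
      ((Cfsg.Geo.scalars (Fin 4) F).subgroupOf N))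
    rw [hd, ← Nat.card_eq_fintype_card]
    exact hN.natCast_ne_zero hk
  have havg : ∀ A, 4 • ∑ q : Quot N, c (Quotient.out q : N) A =
      (d * A.trace) • (1 : Matrix (Fin 4) (Fin 4) F) := by
    intro A
    set S := ∑ q : Quot N, c (Quotient.out q : N) A with hS
    obtain ⟨e, he⟩ := hN.irred S fun x hx => by
      have : (x : Matrix (Fin 4) (Fin 4) F) * S *
          ((x⁻¹ : GL (Fin 4) F) : Matrix (Fin 4) (Fin 4) F) = S := by
        rw [hS, Finset.mul_sum, Finset.sum_mul]
        refine Fintype.sum_equiv (Equiv.mulLeft ((⟨x, hx⟩ : N) : Quot N)) _ _ fun q => ?_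
        have e : Equiv.mulLeft ((⟨x, hx⟩ : N) : Quot N) q =
            (((⟨x, hx⟩ : N) * Quotient.out q : N) : Quot N) := by
          rw [QuotientGroup.mk_mul, QuotientGroup.out_eq']; rfl
        rw [e, ← hcongr]
        simp only [c, Subgroup.coe_mul, Units.val_mul, _root_.mul_inv_rev, mul_assoc]
      calc (x : Matrix (Fin 4) (Fin 4) F) * S
          = (x : Matrix (Fin 4) (Fin 4) F) * S *
              ((x⁻¹ : GL (Fin 4) F) : Matrix (Fin 4) (Fin 4) F) * x := by
            rw [mul_assoc _ _ (x : Matrix (Fin 4) (Fin 4) F), ← Units.val_mul, inv_mul_cancel,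
              Units.val_one, mul_one]
        _ = S * x := by rw [this]
    have htr : S.trace = d * A.trace := by
      rw [hS, Matrix.trace_sum, hd]
      have : ∀ x : GL (Fin 4) F, (c x A).trace = A.trace := fun x => by
        rw [Matrix.trace_mul_comm, ← mul_assoc, ← Units.val_mul, inv_mul_cancel, Units.val_one,
          one_mul]
      simp [this]
    rw [he, Matrix.trace_smul, Matrix.trace_one, Fintype.card_fin, smul_eq_mul] at htr
    rw [he, ← htr, ← smul_assoc, nsmul_eq_mul]
    congr 1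
    push_cast
    ring
  refine eq_top_iff.2 fun M _ => ?_
  let t : Quot N → F := fun q => (M * ((((Quotient.out q : N) : GL (Fin 4) F)⁻¹ : GL (Fin 4) F) :
    Matrix (Fin 4) (Fin 4) F)).trace
  have key : (4 : F) • ∑ q : Quot N,
      t q • (((Quotient.out q : N) : GL (Fin 4) F) : Matrix (Fin 4) (Fin 4) F) = d • M := by
    ext k i
    have h1 : ∀ j l : Fin 4, (4 : F) * ∑ q : Quot N,
        (((Quotient.out q : N) : GL (Fin 4) F) : Matrix (Fin 4) (Fin 4) F) k i *
        ((((Quotient.out q : N) : GL (Fin 4) F)⁻¹ : GL (Fin 4) F) : Matrix (Fin 4) (Fin 4) F) j l =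
        if i = j ∧ k = l then d else 0 := by
      intro j l
      have h := congrFun (congrFun (havg (Matrix.single i j 1)) k) l
      simp only [Matrix.smul_apply, Matrix.sum_apply, c, nsmul_eq_mul, Nat.cast_ofNat,
        smul_eq_mul] at h
      have hterm : ∀ x : GL (Fin 4) F, (((x : Matrix (Fin 4) (Fin 4) F) *
          (Matrix.single i j (1 : F) : Matrix (Fin 4) (Fin 4) F) *
          ((x⁻¹ : GL (Fin 4) F) : Matrix (Fin 4) (Fin 4) F) : Matrix (Fin 4) (Fin 4) F)) k l =
          (x : Matrix (Fin 4) (Fin 4) F) k i *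
            ((x⁻¹ : GL (Fin 4) F) : Matrix (Fin 4) (Fin 4) F) j l := fun x => by
        rw [Matrix.mul_apply, Finset.sum_eq_single j]
        · rw [Matrix.mul_single_apply_same, mul_one]
        · intro b _ hb
          rw [Matrix.mul_single_apply_of_ne (hbj := hb), zero_mul]
        · simp
      simp only [hterm] at h
      rw [h]
      by_cases hij : i = j <;> by_cases hkl : k = l <;>
        simp [hij, hkl, Matrix.one_apply, Matrix.trace_single_eq_same, Matrix.trace_single_eq_of_ne]
    simp only [Matrix.smul_apply, Matrix.sum_apply, smul_eq_mul, t, Matrix.trace, Matrix.diag,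
      Matrix.mul_apply, Finset.mul_sum, Finset.sum_mul]
    rw [Finset.sum_comm]
    calc ∑ l, ∑ q : Quot N, ∑ j, (4 : F) * (M l j * ((((Quotient.out q : N) : GL (Fin 4) F)⁻¹ :
          GL (Fin 4) F) : Matrix (Fin 4) (Fin 4) F) j l *
          (((Quotient.out q : N) : GL (Fin 4) F) : Matrix (Fin 4) (Fin 4) F) k i)
        = ∑ l, ∑ j, M l j * (if i = j ∧ k = l then d else 0) := by
          refine Finset.sum_congr rfl fun l _ => ?_
          rw [Finset.sum_comm]
          refine Finset.sum_congr rfl fun j _ => ?_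
          rw [← h1 j l, Finset.mul_sum, Finset.mul_sum]
          exact Finset.sum_congr rfl fun q _ => by ring
      _ = d * M k i := by
          simp [ite_and, mul_comm]
  have hmem : M = (4 / d) • ∑ q : Quot N,
      t q • (((Quotient.out q : N) : GL (Fin 4) F) : Matrix (Fin 4) (Fin 4) F) := by
    rw [div_eq_inv_mul, ← smul_smul, key, smul_smul, inv_mul_cancel₀ hd0, one_smul]
  rw [hmem]
  exact Submodule.smul_mem _ _
    (Submodule.sum_mem _ fun q _ => Submodule.smul_mem _ _ (Submodule.subset_span ⟨q, rfl⟩))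

/-- `N` modulo scalars has order 16. -/
theorem SymType.card_quot (hN : SymType N) : Nat.card (Quot N) = 16 := by
  classical
  haveI := Fintype.ofFinite (Quot N)
  rw [Nat.card_eq_fintype_card, ← Module.finrank_eq_card_basis
    (Module.Basis.mk hN.linearIndependent hN.span_eq_top.ge), Module.finrank_matrix]
  simp

/-- the centre of `N` consists of scalars -/
theorem SymType.center_eq (hN : SymType N) :
    Subgroup.center N = (Cfsg.Geo.scalars (Fin 4) F).subgroupOf N := by
  ext x
  rw [Subgroup.mem_center_iff, Subgroup.mem_subgroupOf, mem_scalars]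
  constructor
  · exact fun h => hN.irred _ fun y hy => congrArg Units.val (congrArg Subtype.val (h ⟨y, hy⟩))
  · exact fun h g => Subtype.ext (Units.ext (isScalarMat_mul_comm h _))

theorem SymType.card_eq (hN : SymType N) :
    Nat.card N = 16 * Nat.card (Subgroup.center N) := by
  rw [hN.center_eq, Subgroup.card_eq_card_quotient_mul_card_subgroup
    ((Cfsg.Geo.scalars (Fin 4) F).subgroupOf N), hN.card_quot]

theorem SymType.exists_form (hN : SymType N) (σ : F →+* F)
    (hc : ∀ c : F, (∃ x ∈ N, (x : Matrix (Fin 4) (Fin 4) F) = c • 1) → c * σ c = 1) :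
    ∃ B : Matrix (Fin 4) (Fin 4) F, B ≠ 0 ∧ ∀ x ∈ N,
      (x : Matrix (Fin 4) (Fin 4) F)ᵀ * B * ((x : Matrix (Fin 4) (Fin 4) F).map σ) = B := by
  classical
  haveI := Fintype.ofFinite N
  let f : GL (Fin 4) F → Matrix (Fin 4) (Fin 4) F → Matrix (Fin 4) (Fin 4) F := fun x A =>
    (x : Matrix (Fin 4) (Fin 4) F)ᵀ * A * ((x : Matrix (Fin 4) (Fin 4) F).map σ)
  suffices h : ∃ A, ∑ x : N, f x A ≠ 0 by
    obtain ⟨A, hA⟩ := h
    refine ⟨_, hA, fun y hy => ?_⟩
    rw [Finset.mul_sum, Finset.sum_mul]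
    refine Fintype.sum_equiv (Equiv.mulRight (⟨y, hy⟩ : N)) _ _ fun x => ?_
    simp only [f, Equiv.coe_mulRight, Subgroup.coe_mul, Units.val_mul, Matrix.transpose_mul,
      Matrix.map_mul, mul_assoc]
  by_contra hcon
  simp only [not_exists, not_not] at hcon
  have h0 : ∀ i l : Fin 4, ∑ x : N, ((x : GL (Fin 4) F) : Matrix (Fin 4) (Fin 4) F) i i *
      σ (((x : GL (Fin 4) F) : Matrix (Fin 4) (Fin 4) F) l l) = 0 := by
    intro i l
    have h := congrFun (congrFun (hcon (Matrix.single i l 1)) i) l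
    simp only [f, Matrix.sum_apply, Matrix.zero_apply] at h
    refine (Finset.sum_congr rfl fun x _ => ?_).trans h
    rw [Matrix.mul_apply, Finset.sum_eq_single l]
    · rw [Matrix.mul_single_apply_same, Matrix.transpose_apply, mul_one, Matrix.map_apply]
    · intro b _ hb
      rw [Matrix.mul_single_apply_of_ne (hbj := hb), zero_mul]
    · simp
  have h1 : ∑ x : N, ((x : GL (Fin 4) F) : Matrix (Fin 4) (Fin 4) F).trace *
      σ (((x : GL (Fin 4) F) : Matrix (Fin 4) (Fin 4) F).trace) = 0 := by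
    simp only [Matrix.trace, Matrix.diag, map_sum, Finset.sum_mul, Finset.mul_sum]
    rw [Finset.sum_comm]
    refine Finset.sum_eq_zero fun i _ => ?_
    rw [Finset.sum_comm]
    exact Finset.sum_eq_zero fun l _ => h0 l i
  have h2 : ∀ x : N, ((x : GL (Fin 4) F) : Matrix (Fin 4) (Fin 4) F).trace *
      σ (((x : GL (Fin 4) F) : Matrix (Fin 4) (Fin 4) F).trace) =
      if IsScalarMat ((x : GL (Fin 4) F) : Matrix (Fin 4) (Fin 4) F) then 16 else 0 := by
    intro x
    split
    · next h =>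
      obtain ⟨c, hcx⟩ := h
      have := hc c ⟨x, x.2, hcx⟩
      rw [hcx, Matrix.trace_smul, Matrix.trace_one, Fintype.card_fin, smul_eq_mul, map_mul,
        Nat.cast_ofNat, map_ofNat]
      linear_combination (16 : F) * this
    · next h => rw [hN.trace_eq_zero x.2 h, zero_mul]
  rw [Finset.sum_congr rfl fun x _ => h2 x, ← Finset.sum_filter, Finset.sum_const, nsmul_eq_mul]
    at h1
  have hne : ((Finset.univ.filter fun x : N =>
      IsScalarMat ((x : GL (Fin 4) F) : Matrix (Fin 4) (Fin 4) F)).card : F) ≠ 0 := by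
    have : (Finset.univ.filter fun x : N =>
        IsScalarMat ((x : GL (Fin 4) F) : Matrix (Fin 4) (Fin 4) F)).card =
        Nat.card ((Cfsg.Geo.scalars (Fin 4) F).subgroupOf N) := by
      rw [← Fintype.card_subtype, ← Nat.card_eq_fintype_card]
      exact Nat.card_congr (Equiv.subtypeEquivRight fun x => mem_scalars.symm)
    rw [this]
    obtain ⟨k, hk⟩ := IsPGroup.iff_card.1
      (hN.isPGroup.to_subgroup ((Cfsg.Geo.scalars (Fin 4) F).subgroupOf N))
    exact hN.natCast_ne_zero hk
  rcases mul_eq_zero.1 h1 with h | h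
  · exact hne h
  · exact pow_ne_zero 4 hN.two_ne_zero (by rw [← h]; norm_num)

end Cfsg.Agent.AschbacherFour
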