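import Cfsg.Agent.Lib.AschbacherFour.Clifford
import Cfsg.Agent.Lib.AschbacherFour.Symplectic

/-!
The structure of a subgroup of `SL₄` all of whose non-scalar normal subgroups are absolutely
irreducible: elementary abelian modulo scalars, or almost simple modulo scalars.
-/

set_option autoImplicit false

namespace Cfsg.Agent.AschbacherFour

open Matrix Aschbacher
open scoped MatrixGroups commutatorElement

variable {F : Type*} [Field F]

theorem commutator_le_self {G : Type*} [Group G] (U : Subgroup G) : ⁅U, U⁆ ≤ U := by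
  rw [Subgroup.commutator_le]
  exact fun a ha b hb => U.mul_mem (U.mul_mem (U.mul_mem ha hb) (U.inv_mem ha)) (U.inv_mem hb)

/-- Commutators of quadratic similitudes fix the form. -/
theorem commutator_fixesQuadForm {Q : (Fin 4 → F) → F} {M : Subgroup (GL (Fin 4) F)}
    (hM : M ≤ Geo.quadSimilarityGroup Q) : Geo.FixesQuadForm (Geo.matrixSet ⁅M, M⁆) Q := by
  let K : Subgroup (GL (Fin 4) F) :=
    { carrier := {g | ∀ u, Q ((g : Matrix (Fin 4) (Fin 4) F) *ᵥ u) = Q u}
      mul_mem' := fun {a b} ha hb u => by rw [mulVec_mul, ha, hb]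
      one_mem' := fun u => by simp
      inv_mem' := fun {a} ha u => by conv_rhs => rw [← mulVec_inv a u, ha] }
  have hle : ⁅M, M⁆ ≤ K := by
    rw [Subgroup.commutator_le]
    intro a ha b hb u
    obtain ⟨c, hc⟩ := hM ha
    obtain ⟨d, hd⟩ := hM hb
    have key : ∀ (g : GL (Fin 4) F) (e : Fˣ),
        (∀ u, Q ((g : Matrix (Fin 4) (Fin 4) F) *ᵥ u) = (e : F) * Q u) →
        ∀ u, Q u = (e : F) * Q (((g⁻¹ : GL (Fin 4) F) : Matrix (Fin 4) (Fin 4) F) *ᵥ u) :=
      fun g e hg u => by rw [← hg, mulVec_inv]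
    rw [commutatorElement_def, mulVec_mul, mulVec_mul, mulVec_mul, hc, hd]
    conv_rhs => rw [key b d hd u, key a c hc]
    ring
  rintro s ⟨x, hx, rfl⟩ u
  exact hle hx u

/-- The normaliser of an absolutely irreducible group fixing a quadratic form consists of its
similitudes, in every characteristic. -/
theorem quadSimilarity_of_fixed [Fintype F] {N : Subgroup (GL (Fin 4) F)} (hN : AbsIrr N)
    {Q : (Fin 4 → F) → F} (hQ : Geo.IsNondegenerateQuadraticForm Q)
    (hQN : Geo.FixesQuadForm (Geo.matrixSet N) Q) {H : Subgroup (GL (Fin 4) F)}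
    (hn : NormalIn H N) : H ≤ Geo.quadSimilarityGroup Q := by
  classical
  intro h hh
  obtain ⟨c, hc⟩ := hN.le_similarityGroup (IsSesq.of_bilinear hQ.polar_bilinear) hQ.nondegenerate
    (fun s hs u v => by simp only [QuadraticMap.polar, ← Matrix.mulVec_add, hQN s hs]) hn hh
  let D : (Fin 4 → F) → F := fun v => Q ((h : Matrix (Fin 4) (Fin 4) F) *ᵥ v) - (c : F) * Q v
  have hadd : ∀ u v, D (u + v) = D u + D v := fun u v => by
    have h1 := hc u v
    simp only [QuadraticMap.polar, ← Matrix.mulVec_add] at h1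
    simp only [D]
    linear_combination h1
  have hsmul : ∀ (a : F) v, D (a • v) = a ^ 2 * D v := fun a v => by
    simp only [D, Matrix.mulVec_smul, hQ.smul]
    ring
  let K : Submodule F (Fin 4 → F) :=
    { carrier := {v | D v = 0}
      zero_mem' := by simpa using hsmul 0 0
      add_mem' := fun {u v} hu hv => by
        show D (u + v) = 0
        rw [hadd, show D u = 0 from hu, show D v = 0 from hv, add_zero]
      smul_mem' := fun a v hv => by
        show D (a • v) = 0
        rw [hsmul, show D v = 0 from hv, mul_zero] }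
  rcases irr_iff.1 hN.1 K (fun x hx v hv => by
    show D _ = 0
    have h1 : (h : Matrix (Fin 4) (Fin 4) F) *ᵥ ((x : Matrix (Fin 4) (Fin 4) F) *ᵥ v) =
        ((h * x * h⁻¹ : GL (Fin 4) F) : Matrix (Fin 4) (Fin 4) F) *ᵥ
          ((h : Matrix (Fin 4) (Fin 4) F) *ᵥ v) := by
      rw [← mulVec_mul, ← mulVec_mul, inv_mul_cancel_right]
    simp only [D, h1, hQN _ ⟨_, hn h hh x hx, rfl⟩, hQN _ ⟨x, hx, rfl⟩]
    exact hv) with hbot | htop
  · exfalso
    have hinj : Function.Injective D := fun u v huv => by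
      have hm : u - v ∈ K := by
        show D (u - v) = 0
        have h1 := hadd (u - v) v
        rw [sub_add_cancel, huv] at h1
        linear_combination -h1
      rwa [hbot, Submodule.mem_bot, sub_eq_zero] at hm
    have h1 := Fintype.card_le_of_injective _ hinj
    rw [Fintype.card_fun, Fintype.card_fin] at h1
    exact absurd h1 (not_le.2 (lt_of_eq_of_lt (pow_one _).symm
      (Nat.pow_lt_pow_right Fintype.one_lt_card (by norm_num))))
  · exact ⟨c, fun v => sub_eq_zero.1 (htop.ge (Submodule.mem_top : v ∈ ⊤))⟩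

set_option maxHeartbeats 1000000 in
/-- The dichotomy when every non-scalar normal subgroup is absolutely irreducible. -/
theorem structure_four [Fintype F] {H : Subgroup (GL (Fin 4) F)}
    (hSL : H ≤ Geo.specialLinear (Fin 4) F) (hirr : Irr H)
    (hnorm : ∀ A, A ≤ H → NormalIn H A → ¬ A ≤ Geo.scalars (Fin 4) F → AbsIrr A)
    (hform : ∀ Q : (Fin 4 → F) → F, Geo.IsNondegenerateQuadraticForm Q →
      ¬ H ≤ Geo.quadSimilarityGroup Q) :
    (∃ N, N ≤ H ∧ NormalIn H N ∧ AbsIrr N ∧ SymType N ∧ H ⊓ Geo.scalars (Fin 4) F ≤ N) ∨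
    (∃ P, SimpleCore H P) := by
  classical
  have hab : ∀ A, A ≤ H → NormalIn H A → Abelian A → A ≤ Geo.scalars (Fin 4) F := by
    intro A hle hn ha
    by_contra hns
    exact hns ((hnorm A hle hn hns).le_scalars_of_abelian ha)
  set Z := H ⊓ Geo.scalars (Fin 4) F with hZ
  haveI hZn : Z.Normal :=
    ⟨fun z hz g => by rw [Aschbacher.conj_scalar hz.2 g]; exact hz⟩
  have hHns : ¬ H ≤ Geo.scalars (Fin 4) F := fun h => not_irr_of_le_scalars (by simp) h hirr
  let S : Set (Subgroup (GL (Fin 4) F)) :=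
    {N | N ≤ H ∧ NormalIn H N ∧ ¬ N ≤ Geo.scalars (Fin 4) F ∧ Z ≤ N}
  obtain ⟨N, ⟨hNH, hNn, hNs, hZN⟩, hNmin⟩ := wellFounded_lt.has_min S
    ⟨H, le_rfl, fun h hh x hx => H.mul_mem (H.mul_mem hh hx) (H.inv_mem hh), hHns, inf_le_left⟩
  have hNabs : AbsIrr N := hnorm N hNH hNn hNs
  by_cases hcl : ⁅N, N⁆ ≤ Geo.scalars (Fin 4) F
  · refine Or.inl ⟨N, hNH, hNn, hNabs, ⟨fun x hx => det_eq_one (hSL (hNH hx)), fun M hM =>
      hNabs.2 M (by rintro s ⟨x, hx, rfl⟩; exact (hM x hx).symm), fun x hx y hy => ?_, ?_⟩, hZN⟩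
    · obtain ⟨c, hc⟩ := (Geo.mem_scalars_iff _).1 (hcl (Subgroup.commutator_mem_commutator hx hy))
      refine ⟨c, ?_⟩
      have h1 : x * y = ⁅x, y⁆ * (y * x) := by rw [commutatorElement_def]; group
      have h2 := congrArg Units.val h1
      simp only [Units.val_mul] at h2
      rw [h2, hc, Matrix.smul_mul, one_mul]
    · let π := QuotientGroup.mk' (Geo.scalars (Fin 4) F)
      have hcomm : ∀ x ∈ N, ∀ y ∈ N, Commute (π x) (π y) := by
        intro x hx y hy
        rw [commute_iff_eq, ← commutatorElement_eq_one_iff_mul_comm, ← map_commutatorElement]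
        exact (QuotientGroup.eq_one_iff _).2 (hcl (Subgroup.commutator_mem_commutator hx hy))
      obtain ⟨x, hx, hxs⟩ := SetLike.not_le_iff_exists.1 hNs
      have ho1 : orderOf (π x) ≠ 1 := fun h =>
        hxs ((QuotientGroup.eq_one_iff _).1 (orderOf_eq_one_iff.1 h))
      set r := (orderOf (π x)).minFac with hr
      have hrp : r.Prime := Nat.minFac_prime ho1
      let K : Subgroup (GL (Fin 4) F) :=
        { carrier := {g | g ∈ N ∧ π g ^ r = 1}
          mul_mem' := fun {a b} ha hb => ⟨N.mul_mem ha.1 hb.1, by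
            rw [map_mul, (hcomm a ha.1 b hb.1).mul_pow, ha.2, hb.2, one_mul]⟩
          one_mem' := ⟨N.one_mem, by rw [map_one, one_pow]⟩
          inv_mem' := fun {a} ha => ⟨N.inv_mem ha.1, by rw [map_inv, inv_pow, ha.2, inv_one]⟩ }
      have hKn : NormalIn H K := fun h hh g hg => ⟨hNn h hh g hg.1, by
        rw [map_mul, map_mul, map_inv, conj_pow, hg.2, mul_one, mul_inv_cancel]⟩
      have hZK : Z ≤ K := fun z hz => ⟨hZN hz, by
        rw [show π z = 1 from (QuotientGroup.eq_one_iff _).2 hz.2, one_pow]⟩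
      have hKs : ¬ K ≤ Geo.scalars (Fin 4) F := by
        intro hle
        set k := orderOf (π x) / r
        have hkr : k * r = orderOf (π x) := Nat.div_mul_cancel (Nat.minFac_dvd _)
        have hmem : x ^ k ∈ K := ⟨N.pow_mem hx k, by
          rw [map_pow, ← pow_mul, hkr, pow_orderOf_eq_one]⟩
        have h1 : π x ^ k = 1 := by
          rw [← map_pow]; exact (QuotientGroup.eq_one_iff _).2 (hle hmem)
        have hpos : 0 < orderOf (π x) := (isOfFinOrder_of_finite _).orderOf_pos
        have h2 := Nat.le_of_dvd (Nat.pos_of_ne_zero fun h0 => by simp [h0] at hkr; omega)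
          (orderOf_dvd_of_pow_eq_one h1)
        have := hrp.two_le
        nlinarith
      have hKN : K = N := by
        rcases lt_or_eq_of_le (show K ≤ N from fun g hg => hg.1) with h | h
        · exact absurd h (hNmin K ⟨fun g hg => hNH hg.1, hKn, hKs, hZK⟩)
        · exact h
      refine ⟨r, hrp, fun y hy => ?_⟩
      have hyK : y ∈ K := by rw [hKN]; exact hy
      have h2 : π (y ^ r) = 1 := by rw [map_pow]; exact hyK.2
      obtain ⟨c, hc⟩ := (Geo.mem_scalars_iff _).1 ((QuotientGroup.eq_one_iff _).1 h2)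
      exact ⟨c, by simpa using hc⟩
  refine Or.inr ?_
  set P := ⁅N, N⁆ with hP
  have hPN : P ≤ N := commutator_le_self N
  have hPn : NormalIn H P := hNn.commutator
  -- a normal subgroup of `H` inside `N`, not scalar, generates `N` with `Z`
  have hgen : ∀ K, K ≤ N → NormalIn H K → ¬ K ≤ Geo.scalars (Fin 4) F → K ⊔ Z = N := by
    intro K hKN hKn hKs
    have hle : K ⊔ Z ≤ N := sup_le hKN hZN
    rcases lt_or_eq_of_le hle with h | h
    · exact absurd h (hNmin _ ⟨hle.trans hNH, hKn.sup (normalIn_of_le_scalars inf_le_right),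
        fun hs => hKs (le_sup_left.trans hs), le_sup_right⟩)
    · exact h
  have hcomm_le : ∀ K, K ⊔ Z = N → ⁅N, N⁆ ≤ ⁅K, K⁆ := by
    intro K hK
    rw [Subgroup.commutator_le]
    intro a ha b hb
    rw [← hK] at ha hb
    obtain ⟨p, hp', z, hz, rfl⟩ := Subgroup.mem_sup_of_normal_right.1 ha
    obtain ⟨p', hp'', z', hz', rfl⟩ := Subgroup.mem_sup_of_normal_right.1 hb
    have c1 := scalar_comm hz.2
    have c2 := scalar_comm hz'.2
    have : ⁅p * z, p' * z'⁆ = ⁅p, p'⁆ := by
      rw [commutatorElement_def, commutatorElement_def, _root_.mul_inv_rev, _root_.mul_inv_rev]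
      calc p * z * (p' * z') * (z⁻¹ * p⁻¹) * (z'⁻¹ * p'⁻¹)
          = p * (z * (p' * z')) * z⁻¹ * p⁻¹ * z'⁻¹ * p'⁻¹ := by group
        _ = p * ((p' * z') * z) * z⁻¹ * p⁻¹ * z'⁻¹ * p'⁻¹ := by rw [c1]
        _ = p * p' * (z' * p⁻¹) * z'⁻¹ * p'⁻¹ := by group
        _ = p * p' * (p⁻¹ * z') * z'⁻¹ * p'⁻¹ := by rw [c2]
        _ = p * p' * p⁻¹ * p'⁻¹ := by group
    rw [this]
    exact Subgroup.commutator_mem_commutator hp' hp''
  have hperf : ⁅P, P⁆ = P :=
    le_antisymm (Subgroup.commutator_mono hPN hPN) (hcomm_le P (hgen P hPN hPn hcl))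
  have hPabs : AbsIrr P := hnorm P (hPN.trans hNH) hPn hcl
  have hPH : P ≤ H := hPN.trans hNH
  -- normal subgroups of `P` containing its scalars
  have hsimple : ∀ T, T ≤ P → NormalIn P T → P ⊓ Geo.scalars (Fin 4) F ≤ T →
      ¬ T ≤ Geo.scalars (Fin 4) F → T = P := by
    intro T hTP hTn hTc hTs
    let S' : Set (Subgroup (GL (Fin 4) F)) :=
      {U | U ≤ P ∧ NormalIn P U ∧ P ⊓ Geo.scalars (Fin 4) F ≤ U ∧ ¬ U ≤ Geo.scalars (Fin 4) F}
    by_contra hne
    have hTlt : T < P := lt_of_le_of_ne hTP hne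
    obtain ⟨U, ⟨⟨hUP, hUn, hUc, hUs⟩, hUne⟩, hUmin⟩ :=
      wellFounded_lt.has_min {U | U ∈ S' ∧ U < P} ⟨T, ⟨hTP, hTn, hTc, hTs⟩, hTlt⟩
    let cj : GL (Fin 4) F → Subgroup (GL (Fin 4) F) := fun h => U.map (MulAut.conj h).toMonoidHom
    have hcjP : ∀ h ∈ H, cj h ≤ P := by
      rintro h hh _ ⟨u, hu, rfl⟩
      exact hPn h hh u (hUP hu)
    have hcjn : ∀ h ∈ H, NormalIn P (cj h) := by
      rintro h hh p hp' _ ⟨u, hu, rfl⟩
      refine ⟨(h⁻¹ * p * h) * u * (h⁻¹ * p * h)⁻¹, hUn _ ?_ u hu, ?_⟩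
      · simpa using hPn h⁻¹ (H.inv_mem hh) p hp'
      · simp [mul_assoc]
    have hinter : ∀ h ∈ H, cj h = U ∨ U ⊓ cj h ≤ Geo.scalars (Fin 4) F := by
      intro h hh
      by_contra hcon
      push Not at hcon
      have hmem : U ⊓ cj h ∈ S' := ⟨inf_le_left.trans hUP,
        fun p hp' x hx => ⟨hUn p hp' x hx.1, hcjn h hh p hp' x hx.2⟩,
        le_inf hUc fun z hz => ⟨z, hUc hz, Aschbacher.conj_scalar hz.2 h⟩, hcon.2⟩
      rcases lt_or_eq_of_le (inf_le_left : U ⊓ cj h ≤ U) with hlt | heq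
      · exact hUmin _ ⟨hmem, hlt.trans hUne⟩ hlt
      · exact hcon.1 (Subgroup.eq_of_le_of_card_ge (inf_eq_left.1 heq)
          (Nat.card_congr (U.equivMapOfInjective _ (MulAut.conj h).injective).toEquiv).symm.le).symm
    -- some conjugate differs from `U`
    obtain ⟨h₀, hh₀, hdiff⟩ : ∃ h ∈ H, cj h ≠ U := by
      by_contra hcon
      push Not at hcon
      have hUH : NormalIn H U := normalIn_iff_map.2 fun h hh => (hcon h hh).le
      exact (not_le_of_gt hUne) ((hcomm_le U (hgen U (hUP.trans hPN) hUH hUs)).trans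
        (commutator_le_self U))
    have hdis : U ⊓ cj h₀ ≤ Geo.scalars (Fin 4) F := (hinter h₀ hh₀).resolve_left hdiff
    by_cases hD : ⁅U, U⁆ ≤ Geo.scalars (Fin 4) F
    · let C : Set (GL (Fin 4) F) := {g | ∃ h ∈ H, g ∈ cj h}
      have hCn : NormalIn H (Subgroup.closure C) := by
        rw [normalIn_iff_map]
        intro g hg
        rw [MonoidHom.map_closure, Subgroup.closure_le]
        rintro _ ⟨x, ⟨h, hh, u, hu, rfl⟩, rfl⟩
        exact Subgroup.subset_closure ⟨g * h, H.mul_mem hg hh, u, hu, by simp [mul_assoc]⟩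
      have hCN : Subgroup.closure C ≤ N :=
        (Subgroup.closure_le _).2 fun x ⟨h, hh, hx⟩ => hPN (hcjP h hh hx)
      have hCs : ¬ Subgroup.closure C ≤ Geo.scalars (Fin 4) F := fun hs => hUs fun u hu =>
        hs (Subgroup.subset_closure ⟨1, H.one_mem, u, hu, by simp⟩)
      refine hcl ((hcomm_le _ (hgen _ hCN hCn hCs)).trans (commutator_closure_le_scalars ?_))
      rintro _ ⟨h, hh, u, hu, rfl⟩ _ ⟨h', hh', u', hu', rfl⟩
      have hw : h⁻¹ * h' ∈ H := H.mul_mem (H.inv_mem hh) hh'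
      suffices hs : u * ((h⁻¹ * h') * u' * (h⁻¹ * h')⁻¹) * u⁻¹ *
          ((h⁻¹ * h') * u' * (h⁻¹ * h')⁻¹)⁻¹ ∈ Geo.scalars (Fin 4) F by
        have := Geo.scalars_normal.conj_mem _ hs h
        convert this using 1
        simp [mul_assoc]
      have hv : (h⁻¹ * h') * u' * (h⁻¹ * h')⁻¹ ∈ cj (h⁻¹ * h') := ⟨u', hu', rfl⟩
      generalize (h⁻¹ * h') * u' * (h⁻¹ * h')⁻¹ = v at hv ⊢
      rcases hinter _ hw with he | hd
      · exact hD (Subgroup.commutator_mem_commutator hu (he ▸ hv))
      · refine hd ⟨?_, ?_⟩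
        · have := hUn v (hcjP _ hw hv) _ (U.inv_mem hu)
          simpa [mul_assoc] using U.mul_mem hu this
        · have := hcjn _ hw u (hUP hu) v hv
          exact (cj (h⁻¹ * h')).mul_mem this ((cj _).inv_mem hv)
    · set D := ⁅U, U⁆ with hDdef
      have hDU : D ≤ U := commutator_le_self U
      -- conjugates of `U` other than itself centralise `D`
      have hcent : ∀ h ∈ H, U ⊓ cj h ≤ Geo.scalars (Fin 4) F → ∀ t ∈ cj h, ∀ d ∈ D, t * d = d * t :=
        fun h hh hdh t ht => commute_of_mem_commutator fun a ha => hdh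
          ⟨U.mul_mem (hUn t (hcjP h hh ht) a ha) (U.inv_mem ha),
            by
              have := hcjn h hh a (hUP ha) t⁻¹ ((cj h).inv_mem ht)
              simpa [mul_assoc] using (cj h).mul_mem ht this⟩
      -- `D` is not abelian
      have hDna : ¬ Abelian D := by
        intro hDab
        have hle : D ⊔ (P ⊓ Geo.scalars (Fin 4) F) ≤ U := sup_le hDU hUc
        have hmem : D ⊔ (P ⊓ Geo.scalars (Fin 4) F) ∈ S' := ⟨hle.trans hUP,
          (NormalIn.commutator hUn).sup (normalIn_of_le_scalars inf_le_right), le_sup_right,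
          fun hs => hD (le_sup_left.trans hs)⟩
        rcases lt_or_eq_of_le hle with hlt | heq
        · exact hUmin _ ⟨hmem, hlt.trans hUne⟩ hlt
        · refine hD (le_trans ?_ (commutator_closure_le_scalars
            (S := (D : Set (GL (Fin 4) F)) ∪ ((P ⊓ Geo.scalars (Fin 4) F : Subgroup _) : Set _)) ?_))
          · rw [← Subgroup.sup_eq_closure, heq]
          rintro a ha b hb
          have hz : a * b = b * a := by
            rcases ha with ha | ha
            · rcases hb with hb | hb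
              · exact hDab a ha b hb
              · exact (scalar_comm hb.2 a).symm
            · exact scalar_comm ha.2 b
          rw [hz, mul_inv_cancel_right, mul_inv_cancel]
          exact one_mem _
      have hDmem : ∀ d ∈ D, h₀ * d * h₀⁻¹ ∈ cj h₀ := fun d hd => ⟨d, hDU hd, rfl⟩
      rcases classify hPabs.1 (NormalIn.commutator hUn) with hDabs | hDten | ⟨hDa | hDc, -⟩
      · refine hUs fun u hu => ?_
        have hmem : h₀ * u * h₀⁻¹ ∈ cj h₀ := ⟨u, hu, rfl⟩
        have hsc := hDabs.scalar_of_comm (hcent h₀ hh₀ hdis _ hmem)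
        have := Geo.scalars_normal.conj_mem _ hsc h₀⁻¹
        simpa [mul_assoc] using this
      · obtain ⟨-, Q, hQ, -, hDQ, hcQ⟩ := hDten
        let C : Set (GL (Fin 4) F) := {g | ∃ h ∈ H, ∃ d ∈ D, h * d * h⁻¹ = g}
        have hCn : NormalIn H (Subgroup.closure C) := by
          rw [normalIn_iff_map]
          intro g hg
          rw [MonoidHom.map_closure, Subgroup.closure_le]
          rintro _ ⟨x, ⟨h, hh, d, hd, rfl⟩, rfl⟩
          exact Subgroup.subset_closure ⟨g * h, H.mul_mem hg hh, d, hd, by simp [mul_assoc]⟩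
        have hCQ : Subgroup.closure C ≤ Geo.quadSimilarityGroup Q := by
          rw [Subgroup.closure_le]
          rintro _ ⟨h, hh, d, hd, rfl⟩
          rcases hinter h hh with he | hdh
          · refine hDQ ?_
            have h1 : D.map (MulAut.conj h).toMonoidHom = D := by
              rw [hDdef, Subgroup.map_commutator]
              exact congrArg₂ (fun A B : Subgroup (GL (Fin 4) F) => ⁅A, B⁆) he he
            exact h1.le ⟨d, hd, rfl⟩
          · exact hcQ _ (hcent h hh hdh _ ⟨d, hDU hd, rfl⟩)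
        have hCN : Subgroup.closure C ≤ N :=
          (Subgroup.closure_le _).2 fun x ⟨h, hh, d, hd, hx⟩ =>
            hx ▸ hPN (hPn h hh d (hUP (hDU hd)))
        have hCs : ¬ Subgroup.closure C ≤ Geo.scalars (Fin 4) F := fun hs => hD fun u hu =>
          hs (Subgroup.subset_closure ⟨1, H.one_mem, u, hu, by simp⟩)
        have hMs : ¬ ⁅Subgroup.closure C, Subgroup.closure C⁆ ≤ Geo.scalars (Fin 4) F := fun hs =>
          hcl ((hcomm_le _ (hgen _ hCN hCn hCs)).trans hs)
        exact hform Q hQ (quadSimilarity_of_fixed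
          (hnorm _ ((commutator_le_self _).trans (hCN.trans hNH)) hCn.commutator hMs) hQ
          (commutator_fixesQuadForm hCQ) hCn.commutator)
      · exact hDna hDa
      · refine hDna fun a ha b hb => ?_
        have hA : ∀ d ∈ D, CommMat D ((h₀ * d * h₀⁻¹ : GL (Fin 4) F) : Matrix (Fin 4) (Fin 4) F) := by
          intro d hd x hx
          rw [← Units.val_mul, ← Units.val_mul, hcent h₀ hh₀ hdis _ (hDmem d hd) x hx]
        have h1 := hDc _ _ (hA a ha) (hA b hb)
        rw [← Units.val_mul, ← Units.val_mul] at h1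
        have h2 := congrArg (fun g => h₀⁻¹ * g * h₀) (Units.ext h1)
        simpa [mul_assoc] using h2
  refine ⟨P, hPH, hPn, hPabs, hperf, ?_, ?_, ?_⟩
  · haveI : ((Geo.scalars (Fin 4) F).subgroupOf P).Normal := inferInstance
    haveI : Nontrivial (P ⧸ (Geo.scalars (Fin 4) F).subgroupOf P) :=
      QuotientGroup.nontrivial_iff.2 fun h => hcl (Subgroup.subgroupOf_eq_top.1 h)
    refine ⟨fun K hK => ?_⟩
    set K' := K.comap (QuotientGroup.mk' ((Geo.scalars (Fin 4) F).subgroupOf P)) with hK'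
    by_cases hs : K'.map P.subtype ≤ Geo.scalars (Fin 4) F
    · refine Or.inl (eq_bot_iff.2 fun q hq => ?_)
      obtain ⟨x, rfl⟩ := QuotientGroup.mk'_surjective _ q
      exact Subgroup.mem_bot.2 ((QuotientGroup.eq_one_iff x).2 (hs ⟨x, hq, rfl⟩))
    · refine Or.inr (eq_top_iff.2 fun q _ => ?_)
      obtain ⟨x, rfl⟩ := QuotientGroup.mk'_surjective _ q
      have hT := hsimple (K'.map P.subtype) (Subgroup.map_subtype_le K') ?_ ?_ hs
      · obtain ⟨y, hy, hxy⟩ := (hT.ge x.2 : (x : GL (Fin 4) F) ∈ K'.map P.subtype)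
        obtain rfl : y = x := Subtype.ext hxy
        exact hy
      · rintro p hp' _ ⟨y, hy, rfl⟩
        exact ⟨⟨p, hp'⟩ * y * (⟨p, hp'⟩ : P)⁻¹, (inferInstance : K'.Normal).conj_mem y hy _, rfl⟩
      · rintro z ⟨hz, hz'⟩
        refine ⟨⟨z, hz⟩, ?_, rfl⟩
        show QuotientGroup.mk' _ (⟨z, hz⟩ : P) ∈ K
        rw [show QuotientGroup.mk' ((Geo.scalars (Fin 4) F).subgroupOf P) (⟨z, hz⟩ : P) = 1 from
          (QuotientGroup.eq_one_iff _).2 hz']
        exact K.one_mem
  · intro hc
    apply hcl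
    show P ≤ Geo.scalars (Fin 4) F
    rw [← hperf, Subgroup.commutator_le]
    intro a ha b hb
    have h1 := hc.is_comm.comm (QuotientGroup.mk' ((Geo.scalars (Fin 4) F).subgroupOf P) ⟨a, ha⟩)
      (QuotientGroup.mk' _ ⟨b, hb⟩)
    rw [← commutatorElement_eq_one_iff_mul_comm, ← map_commutatorElement, QuotientGroup.mk'_apply,
      QuotientGroup.eq_one_iff] at h1
    exact h1
  · intro h hh hcent
    refine hPabs.scalar_of_comm fun x hx => ?_
    exact commute_of_mem_commutator hcent x (hperf.symm ▸ hx)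

end Cfsg.Agent.AschbacherFour
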