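import Cfsg.Agent.Lib.AschbacherFour.UnitarySubfieldFour
import Cfsg.Agent.Lib.AschbacherFour.Structure

/-!
Aschbacher's theorem for `SU₄(q)`: a maximal subgroup is of geometric type or lies in the residual
class.
-/

set_option autoImplicit false

namespace Cfsg.Agent.AschbacherFour

open Matrix Aschbacher
open scoped MatrixGroups

variable {F : Type*} [Field F] [Fintype F] {q : ℕ} {σ : F ≃+* F}
  {f : (Fin 4 → F) → (Fin 4 → F) → F} {H : Subgroup (GL (Fin 4) F)}

/-- A reducible maximal subgroup. -/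
theorem geometric_reducible (c : Ctx q σ f H) (hirr : ¬ Irr H) : UGeometric q f H := by
  classical
  have h := c.herm
  rw [irr_iff] at hirr
  push Not at hirr
  obtain ⟨W, hW, hW0, hW1⟩ := hirr
  let V : Submodule F (Fin 4 → F) :=
    { carrier := {u | ∀ w ∈ W, f u w = 0}
      zero_mem' := fun w _ => h.zero_left w
      add_mem' := fun {u v} hu hv w hw => by rw [h.sesq.add_left, hu w hw, hv w hw, add_zero]
      smul_mem' := fun r u hu w hw => by rw [h.sesq.smul_left, hu w hw, mul_zero] }
  have hV : Invariant H V := by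
    intro g hg u hu w hw
    have h1 := c.iso hg u (((g⁻¹ : GL (Fin 4) F) : Matrix (Fin 4) (Fin 4) F) *ᵥ w)
    rw [mulVec_inv] at h1
    rw [h1]
    exact hu _ (hW g⁻¹ (H.inv_mem hg) w hw)
  have hstab : ∀ {U : Submodule F (Fin 4 → F)}, Invariant H U → U ≠ ⊥ → U ≠ ⊤ →
      H = Geo.subspaceStabilizer U ⊓ unitarySL f := fun {U} hU h0 h1 =>
    c.eq_inf (fun g hg => mem_subspaceStabilizer (hU g hg))
      (h.specialUnitary_not_le_subspaceStabilizer c.basis (by simp) h0 h1)
  by_cases hWV : W ⊓ V = ⊥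
  swap
  · exact Or.inl ⟨W ⊓ V, hWV, fun u hu v hv => hu.2 v hv.1,
      hstab (hW.inf hV) hWV fun h0 => hW1 (top_le_iff.1 (h0 ▸ inf_le_left))⟩
  have hWnd : Geo.IsNondegenerateOn f W := by
    intro w hw hw0
    obtain ⟨x, hx, hne⟩ : ∃ x ∈ W, f w x ≠ 0 := by
      by_contra hcon
      push Not at hcon
      have : w ∈ W ⊓ V := ⟨hw, hcon⟩
      rw [hWV, Submodule.mem_bot] at this
      exact hw0 this
    exact ⟨⟨x, hx, fun h0 => hne (h.eq_zero_comm h0)⟩, x, hx, hne⟩
  let bW := Module.finBasis F W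
  let L : (Fin 4 → F) →ₗ[F] (Fin (Module.finrank F W) → F) :=
    LinearMap.pi fun i => formLeft h (bW i : Fin 4 → F)
  have hker : LinearMap.ker L ≤ V := by
    intro u hu w hw
    let φ : W →+ F :=
      { toFun := fun w => f u w, map_zero' := h.zero_right u
        map_add' := fun a b => h.sesq.add_right u a b }
    show φ ⟨w, hw⟩ = 0
    rw [← bW.sum_repr ⟨w, hw⟩, map_sum]
    refine Finset.sum_eq_zero fun i _ => ?_
    show f u ((bW.repr ⟨w, hw⟩ i) • (bW i : Fin 4 → F)) = 0
    rw [h.sesq.smul_right, show f u (bW i) = 0 from congrFun (show L u = 0 from hu) i, mul_zero]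
  have hdim : 4 ≤ Module.finrank F W + Module.finrank F V := by
    have h1 := LinearMap.finrank_range_add_finrank_ker L
    have h2 := Submodule.finrank_le (LinearMap.range L)
    have h3 := Submodule.finrank_mono hker
    simp [Module.finrank_fintype_fun_eq_card] at h1 h2
    omega
  have h1 := Submodule.finrank_sup_add_finrank_inf_eq W V
  have h2 := Submodule.finrank_le (W ⊔ V)
  rw [hWV, finrank_bot, add_zero] at h1
  rw [Module.finrank_fintype_fun_eq_card, Fintype.card_fin] at h2
  have hsum : Module.finrank F W + Module.finrank F V = 4 := by omega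
  have hsup : W ⊔ V = ⊤ := Submodule.eq_top_of_finrank_eq (by
    rw [h1, hsum, Module.finrank_fintype_fun_eq_card, Fintype.card_fin])
  have hW2 : 0 < Module.finrank F W := Module.finrank_pos_iff_exists_ne_zero.2 (by
    obtain ⟨w, hw, hw0⟩ := (Submodule.ne_bot_iff W).1 hW0
    exact ⟨⟨w, hw⟩, fun h0 => hw0 (congrArg Subtype.val h0)⟩)
  have hW4 : Module.finrank F W < 4 := by
    have := Submodule.finrank_lt_finrank_of_lt (lt_top_iff_ne_top.2 hW1)
    rwa [finrank_top, Module.finrank_fintype_fun_eq_card, Fintype.card_fin] at this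
  obtain hd | hd | hd : Module.finrank F W = 1 ∨ Module.finrank F W = 2 ∨ Module.finrank F W = 3 := by
    omega
  · exact Or.inr (Or.inl ⟨W, hW0, hWnd, by omega, hstab hW hW0 hW1⟩)
  · -- two orthogonal planes
    have hD : Geo.IsMDecomposition 2 ![W, V] := by
      refine ⟨le_rfl, two_pos, fun i => ?_, ?_, ?_⟩
      · fin_cases i
        · exact hd
        · show Module.finrank F V = 2
          omega
      · rw [iSupIndep_pair (show (0 : Fin 2) ≠ 1 by decide) (fun i => by fin_cases i <;> simp)]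
        simpa [disjoint_iff] using hWV
      · exact eq_top_iff.2 (hsup ▸ sup_le (le_iSup ![W, V] 0) (le_iSup ![W, V] 1))
    refine geometric_orth_planes c
      (nondeg_of_orth h hD fun u hu v hv => h.eq_zero_comm (hv u hu)) fun g hg => ⟨1, fun i => ?_⟩
    have hi : Invariant H (![W, V] i) := by fin_cases i <;> assumption
    refine Submodule.eq_of_le_of_finrank_eq (Submodule.map_le_iff_le_comap.2 fun v hv => ?_)
      (finrank_translate g (![W, V] i))
    simpa using hi g hg v hv
  · have hV0 : V ≠ ⊥ := by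
      intro h0
      rw [h0, finrank_bot] at hsum
      omega
    have hV1 : V ≠ ⊤ := fun h0 => hW0 (by rwa [h0, inf_top_eq] at hWV)
    have hVnd : Geo.IsNondegenerateOn f V := by
      intro v hv hv0
      obtain ⟨x, hx, hne⟩ : ∃ x ∈ V, f v x ≠ 0 := by
        by_contra hcon
        push Not at hcon
        obtain ⟨u, hu⟩ := (h.form.nondegenerate v hv0).2
        obtain ⟨a, ha, b, hb, rfl⟩ := Submodule.mem_sup.1 (hsup.ge (Submodule.mem_top : u ∈ ⊤))
        exact hu (by rw [h.sesq.add_right, hv a ha, hcon b hb, add_zero])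
      exact ⟨⟨x, hx, fun h0 => hne (h.eq_zero_comm h0)⟩, x, hx, hne⟩
    exact Or.inr (Or.inl ⟨V, hV0, hVnd, by omega, hstab hV hV0 hV1⟩)

/-- A symplectic type normal subgroup gives a geometric subgroup. -/
theorem geometric_symType_unitary (c : Ctx q σ f H) (hHa : AbsIrr H)
    {N : Subgroup (GL (Fin 4) F)} (hNH : N ≤ H) (hNn : NormalIn H N) (hNa : AbsIrr N)
    (hN : SymType N) : UGeometric q f H := by
  classical
  have h := c.herm
  have h2 := hN.two_ne_zero
  by_cases hc : ∀ a : F, (∃ x ∈ N, (x : Matrix (Fin 4) (Fin 4) F) = a • 1) → a * a = 1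
  · rcases hN.bilinear_form hNa hc with ⟨Q, hQ, hfix⟩ | ⟨B, hB, hfix⟩
    · refine geometric_polar_similitude c hHa hQ (hNa.le_similarityGroup
        (IsSesq.of_bilinear hQ.polar_bilinear) hQ.nondegenerate (fun s hs u v => ?_) hNn)
      simp only [QuadraticMap.polar, ← Matrix.mulVec_add, hfix s hs]
    · exact geometric_similitude c hHa hB.bilinear hB.nondegenerate
        (hNa.le_similarityGroup (IsSesq.of_bilinear hB.bilinear) hB.nondegenerate hfix hNn)
        (Or.inr hB.alternating)
  push Not at hc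
  obtain ⟨i, ⟨z, hz, hzi⟩, hi1⟩ := hc
  have h4 := hN.scalar_pow_four hz hzi
  have hi : i ^ 2 = -1 := by
    rcases sq_eq_one_iff.1 (show (i ^ 2) ^ 2 = 1 by rw [← pow_mul]; exact h4) with h' | h'
    · exact absurd (by rw [← pow_two]; exact h') hi1
    · exact h'
  have hnorm : i ^ (q + 1) = 1 := by
    have hb : f (Pi.basisFun F (Fin 4) 0) (Pi.basisFun F (Fin 4) 0) = 1 :=
      (c.basis 0 0).trans (if_pos rfl)
    have h1 := c.iso (hNH hz) (Pi.basisFun F (Fin 4) 0) (Pi.basisFun F (Fin 4) 0)
    rw [hzi, Matrix.smul_mulVec, Matrix.one_mulVec, h.sesq.smul_left, h.sesq.smul_right, hb,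
      mul_one] at h1
    rw [pow_succ', ← h.apply_eq]
    exact h1
  obtain ⟨p, k, hp, hpC, hk, hq, hcard⟩ := exists_frob h.card
  haveI := hpC
  haveI : Fact p.Prime := ⟨hp⟩
  obtain ⟨m, hm⟩ := c.odd_q h2
  have hq4 : q % 4 = 3 := by
    rcases (show q % 4 = 1 ∨ q % 4 = 3 by omega) with h1 | h1
    · exfalso
      rw [show q + 1 = 4 * (q / 4) + 2 by omega, pow_add, pow_mul, h4, one_pow, one_mul, hi] at hnorm
      exact h2 (by linear_combination -hnorm)
    · exact h1
  have hp2 : p % 2 = 1 := by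
    rcases hp.eq_two_or_odd with h1 | h1
    · exact absurd (by subst h1; exact_mod_cast CharP.cast_eq_zero F 2) h2
    · exact h1
  have hp4 : p % 4 = 3 := by
    rcases (show p % 4 = 1 ∨ p % 4 = 3 by omega) with h1 | h1
    · exfalso
      rw [hq, Nat.pow_mod, h1, one_pow] at hq4
      norm_num at hq4
    · exact h1
  by_cases hk1 : k = 1
  · subst hk1
    exact geometric_pauli c hp (by rw [hq, pow_one]) hp4 hN (fun g hg => c.iso (hNH hg))
      (fun g hg => by
        show g ∈ Subgroup.normalizer (N : Set (GL (Fin 4) F))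
        rw [Subgroup.mem_normalizer_iff]
        exact fun x => ⟨fun hx => hNn g hg x hx, fun hx => by
          simpa [mul_assoc] using hNn g⁻¹ (H.inv_mem hg) _ hx⟩) hi hz hzi
  · refine geometric_realisable c hHa hNH hNa hNn (F₁ := fixedBy p 2)
      (fixedBy_ne_top p two_pos (by
        rw [hcard]; exact Nat.pow_lt_pow_right hp.one_lt (by omega)))
      (hN.realisable hi hz hzi _ ((mem_fixedBy p).2 ?_))
    have hsq : p ^ 2 % 4 = 1 := by rw [Nat.pow_mod, hp4]
    rw [show p ^ 2 = 4 * (p ^ 2 / 4) + 1 by omega, pow_succ, pow_mul, h4, one_pow, one_mul]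

theorem unitary_four {F : Type*} [Field F] [Fintype F] (q : ℕ) (hF : Fintype.card F = q ^ 2)
    (H : Subgroup (GL (Fin 4) F))
    (hH : Geo.IsMaximalIn (GU 4 F q ⊓ Geo.specialLinear (Fin 4) F) H) :
    UGeometric q (hermForm 4 F q) H ∨ Geo.InUnitaryResidualClass H := by
  classical
  obtain ⟨σ, h, hb⟩ := hermForm_herm (n := 4) (by norm_num) hF
  have c : Ctx q σ (hermForm 4 F q) H :=
    ⟨h, fun u v => by simp only [hermForm, h.apply_eq], hb, hH⟩
  by_cases hG : UGeometric q (hermForm 4 F q) H
  · exact Or.inl hG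
  right
  have hirr : Irr H := by
    by_contra hirr
    exact hG (geometric_reducible c hirr)
  have hHa := absIrr_of_irr c hirr
  have hnorm : ∀ A, A ≤ H → NormalIn H A → ¬ A ≤ Geo.scalars (Fin 4) F → AbsIrr A :=
    fun A hA hn hs => (unitary_cases c hirr hA hn hs).resolve_right hG
  rcases structure_four c.le_specialLinear hirr hnorm
    (fun Q hQ hle => hG (geometric_polar_similitude c hHa hQ
      (hle.trans quadSimilarity_le_similarity))) with
    ⟨N, hNH, hNn, hNa, hN, -⟩ | ⟨P, hP⟩
  · exact absurd (geometric_symType_unitary c hHa hNH hNn hNa hN) hG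
  · refine ⟨P, hP.isResidualCore fun F₁ h1 h2 =>
      hG (geometric_realisable c hHa hP.le hP.absIrred hP.normal h1 h2), ?_, ?_⟩
    · rintro ⟨Q, hQ, hfix⟩
      refine hG (geometric_polar_similitude c hHa hQ (hP.absIrred.le_similarityGroup
        (IsSesq.of_bilinear hQ.polar_bilinear) hQ.nondegenerate (fun s hs u v => ?_) hP.normal))
      simp only [QuadraticMap.polar, ← Matrix.mulVec_add, hfix s hs]
    · rintro ⟨B, hB, hfix⟩
      exact hG (geometric_similitude c hHa hB.bilinear hB.nondegenerate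
        (hP.absIrred.le_similarityGroup (IsSesq.of_bilinear hB.bilinear) hB.nondegenerate hfix
          hP.normal) (Or.inr hB.alternating))

end Cfsg.Agent.AschbacherFour
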