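import Cfsg.Agent.Lib.AschbacherFour.UnitarySimilitude
import Cfsg.Agent.Lib.AschbacherFour.Clifford

/-!
Adjoints of commutants of normal subgroups of a subgroup of `SU₄(q)`.
-/

set_option autoImplicit false

namespace Cfsg.Agent.AschbacherFour

open Matrix Aschbacher
open scoped MatrixGroups

variable {F : Type*} [Field F] [Fintype F] {q : ℕ} {σ : F ≃+* F}
  {f : (Fin 4 → F) → (Fin 4 → F) → F} {H A : Subgroup (GL (Fin 4) F)}

/-- The adjoint for the standard Hermitian form. -/
def adj (σ : F ≃+* F) (M : Matrix (Fin 4) (Fin 4) F) : Matrix (Fin 4) (Fin 4) F := Mᵀ.map σ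

theorem adj_mul (σ : F ≃+* F) (M N : Matrix (Fin 4) (Fin 4) F) :
    adj σ (M * N) = adj σ N * adj σ M := by
  rw [adj, Matrix.transpose_mul, Matrix.map_mul]; rfl

theorem adj_one (σ : F ≃+* F) : adj σ (1 : Matrix (Fin 4) (Fin 4) F) = 1 := by
  simp [adj]

theorem adj_add (σ : F ≃+* F) (M N : Matrix (Fin 4) (Fin 4) F) :
    adj σ (M + N) = adj σ M + adj σ N := by
  ext i j; simp [adj]

theorem adj_smul (σ : F ≃+* F) (a : F) (M : Matrix (Fin 4) (Fin 4) F) :
    adj σ (a • M) = σ a • adj σ M := by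
  ext i j; simp [adj]

theorem adj_adj (h : Herm q σ f) (M : Matrix (Fin 4) (Fin 4) F) : adj σ (adj σ M) = M := by
  ext i j; simp [adj, h.form.involutive]

theorem adj_pow (σ : F ≃+* F) (M : Matrix (Fin 4) (Fin 4) F) (n : ℕ) :
    adj σ (M ^ n) = adj σ M ^ n := by
  induction n with
  | zero => simp [adj_one]
  | succ n ih => rw [pow_succ', adj_mul, ih, pow_succ]

theorem adj_spec (c : Ctx q σ f H) (M : Matrix (Fin 4) (Fin 4) F) (u v : Fin 4 → F) :
    f (M *ᵥ u) v = f u (adj σ M *ᵥ v) := by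
  simp only [c.std, adj, Matrix.mulVec, dotProduct, Matrix.map_apply, Matrix.transpose_apply, map_sum,
    map_mul, c.herm.form.involutive, Finset.sum_mul, Finset.mul_sum]
  rw [Finset.sum_comm]
  exact Finset.sum_congr rfl fun i _ => Finset.sum_congr rfl fun j _ => by ring

theorem adj_mul_self (c : Ctx q σ f H) {g : GL (Fin 4) F} (hg : g ∈ H) :
    adj σ (g : Matrix (Fin 4) (Fin 4) F) * g = 1 := by
  refine Matrix.ext_of_mulVec_single fun j => funext fun i => ?_
  generalize (Pi.single j 1 : Fin 4 → F) = v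
  have h1 := (adj_spec c _ (Pi.single i 1) ((g : Matrix (Fin 4) (Fin 4) F) *ᵥ v)).symm.trans
    (c.iso hg (Pi.single i 1) v)
  rw [Matrix.mulVec_mulVec] at h1
  simp only [c.std, Pi.single_apply, ite_mul, one_mul, zero_mul, Finset.sum_ite_eq', Finset.mem_univ,
    if_true] at h1
  rw [Matrix.one_mulVec]
  exact σ.injective h1

theorem CommMat.adj (c : Ctx q σ f H) (hAH : A ≤ H) {M : Matrix (Fin 4) (Fin 4) F}
    (hM : CommMat A M) : CommMat A (AschbacherFour.adj σ M) := by
  intro x hx
  set N := AschbacherFour.adj σ M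
  set x' := AschbacherFour.adj σ (x : Matrix (Fin 4) (Fin 4) F)
  have h1 : x' * (x : Matrix (Fin 4) (Fin 4) F) = 1 := adj_mul_self c (hAH hx)
  have h2 : (x : Matrix (Fin 4) (Fin 4) F) * x' = 1 := mul_eq_one_comm.1 h1
  have h3 : N * x' = x' * N := by rw [← adj_mul, ← adj_mul, hM x hx]
  calc (x : Matrix (Fin 4) (Fin 4) F) * N
      = (x : Matrix (Fin 4) (Fin 4) F) * (N * x') * x := by
        rw [mul_assoc, mul_assoc, h1, mul_one]
    _ = N * x := by rw [h3, ← mul_assoc (x : Matrix (Fin 4) (Fin 4) F), h2, one_mul]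

theorem CentralComm.adj (c : Ctx q σ f H) (hAH : A ≤ H) {M : Matrix (Fin 4) (Fin 4) F}
    (hM : CentralComm A M) : CentralComm A (AschbacherFour.adj σ M) := by
  refine ⟨hM.1.adj c hAH, fun B hB => ?_⟩
  have h1 := congrArg (AschbacherFour.adj σ) (hM.2 _ (hB.adj c hAH))
  rw [adj_mul, adj_mul, adj_adj c.herm] at h1
  exact h1.symm

/-- The centre of a commutant of isometries contains no quadratic field. -/
theorem field_absurd (c : Ctx q σ f H) (hAH : A ≤ H) (hf : FieldCase H A) : False := by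
  classical
  obtain ⟨K, hK, -, hmem⟩ := hf
  have h := c.herm
  have hKadj : ∀ k ∈ K, AschbacherFour.adj σ k ∈ K := fun k hk => by
    rw [hmem] at hk ⊢
    exact ⟨hk.1.adj c hAH, by rw [← adj_pow, hk.2]⟩
  obtain ⟨k, hkK, hkfix, hkns⟩ : ∃ k ∈ K, AschbacherFour.adj σ k = k ∧
      ∀ s : F, k ≠ s • (1 : Matrix (Fin 4) (Fin 4) F) := by
    obtain ⟨a, ha, hans⟩ : ∃ a ∈ K, ∀ s : F, a ≠ s • (1 : Matrix (Fin 4) (Fin 4) F) := by
      by_contra hcon
      push Not at hcon
      have hbot : K = ⊥ := by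
        refine eq_bot_iff.2 fun k hk => ?_
        obtain ⟨s, rfl⟩ := hcon k hk
        exact Algebra.mem_bot.2 ⟨s, by rw [Algebra.algebraMap_eq_smul_one]⟩
      have := hK.finrank_eq
      rw [hbot, Subalgebra.finrank_bot] at this
      omega
    obtain ⟨z, hz⟩ := h.exists_ne
    have e1 : AschbacherFour.adj σ (a + AschbacherFour.adj σ a) = a + AschbacherFour.adj σ a := by
      rw [adj_add, adj_adj h, add_comm]
    have e2 : AschbacherFour.adj σ (z • a + σ z • AschbacherFour.adj σ a) =
        z • a + σ z • AschbacherFour.adj σ a := by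
      rw [adj_add, adj_smul, adj_smul, adj_adj h, h.form.involutive, add_comm]
    have m1 := K.add_mem ha (hKadj a ha)
    have m2 := K.add_mem (K.smul_mem ha z) (K.smul_mem (hKadj a ha) (σ z))
    by_contra hcon
    push Not at hcon
    obtain ⟨s, hs⟩ := hcon _ m1 e1
    obtain ⟨t, ht⟩ := hcon _ m2 e2
    refine hans ((z - σ z)⁻¹ * (t - σ z * s)) ?_
    have : (z - σ z) • a = (t - σ z * s) • (1 : Matrix (Fin 4) (Fin 4) F) := by
      rw [sub_smul t, ← ht, mul_smul, ← hs]; module
    rw [mul_smul, ← this, smul_smul, inv_mul_cancel₀ (sub_ne_zero.2 (Ne.symm hz)), one_smul]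
  have hindep : ∀ s t : F, s • (1 : Matrix (Fin 4) (Fin 4) F) + t • k = 0 → s = 0 ∧ t = 0 := by
    intro s t hst
    by_cases ht : t = 0
    · rw [ht, zero_smul, add_zero, smul_eq_zero] at hst
      exact ⟨hst.resolve_right one_ne_zero, ht⟩
    · refine absurd ?_ (hkns (-(t⁻¹ * s)))
      rw [neg_smul, mul_smul, eq_neg_of_add_eq_zero_left hst, smul_neg, neg_neg, smul_smul,
        inv_mul_cancel₀ ht, one_smul]
  have hspan : ∀ x ∈ K, ∃ s t : F, x = s • (1 : Matrix (Fin 4) (Fin 4) F) + t • k := by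
    let m : F × F →ₗ[F] K :=
      { toFun := fun p => ⟨p.1 • (1 : Matrix (Fin 4) (Fin 4) F) + p.2 • k,
          K.add_mem (K.smul_mem K.one_mem _) (K.smul_mem hkK _)⟩
        map_add' := fun p p' => Subtype.ext (by simp [add_smul]; abel)
        map_smul' := fun r p => Subtype.ext (by simp [mul_smul]) }
    have hinj : Function.Injective m := by
      rw [injective_iff_map_eq_zero]
      intro p hp
      obtain ⟨h1, h2⟩ := hindep _ _ (congrArg Subtype.val hp)
      exact Prod.ext h1 h2
    have hsurj := (LinearMap.injective_iff_surjective_of_finrank_eq_finrank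
      (by rw [Module.finrank_prod, Module.finrank_self, hK.finrank_eq])).1 hinj
    intro x hx
    obtain ⟨p, hp⟩ := hsurj ⟨x, hx⟩
    exact ⟨p.1, p.2, (congrArg Subtype.val hp).symm⟩
  obtain ⟨s, t, hkk⟩ := hspan _ (K.mul_mem hkK hkK)
  obtain ⟨hσs, hσt⟩ : σ s = s ∧ σ t = t := by
    have h1 := congrArg (AschbacherFour.adj σ) hkk
    rw [adj_mul, adj_add, adj_smul, adj_smul, adj_one, hkfix, hkk] at h1
    obtain ⟨h2, h3⟩ := hindep (s - σ s) (t - σ t) (by
      rw [sub_smul, sub_smul, sub_add_sub_comm, h1, sub_self])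
    exact ⟨(sub_eq_zero.1 h2).symm, (sub_eq_zero.1 h3).symm⟩
  obtain ⟨p, e, hp, hpC, he, hq, -⟩ := exists_frob h.card
  haveI := hpC
  haveI : Fact p.Prime := ⟨hp⟩
  rw [h.apply_eq] at hσs hσt
  have hfrob : ∀ (a b : F) (M : Matrix (Fin 4) (Fin 4) F),
      (a • (1 : Matrix (Fin 4) (Fin 4) F) + b • M) ^ q = a ^ q • 1 + b ^ q • M ^ q := fun a b M => by
    rw [hq, add_pow_char_pow_of_commute p e (((Commute.one_left M).smul_left a).smul_right b),
      smul_pow, smul_pow, one_pow]
  -- the Frobenius conjugate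
  set m := k ^ q with hm
  have hmm : m * m = s • (1 : Matrix (Fin 4) (Fin 4) F) + t • m := by
    rw [hm, ← (Commute.refl k).mul_pow, hkk, hfrob, hσs, hσt]
  have hnzd : ∀ x ∈ K, ∀ y ∈ K, x * y = 0 → x = 0 ∨ y = 0 := by
    intro x hx y hy hxy
    by_cases hx0 : x = 0
    · exact Or.inl hx0
    obtain ⟨x', hx', hxx⟩ := hK.inv x hx hx0
    refine Or.inr ?_
    rw [← one_mul y, ← hxx, hK.comm x hx x' hx', mul_assoc, hxy, mul_zero]
  have hmK : m ∈ K := K.pow_mem hkK q
  have hk2 : k ^ (q ^ 2) = k := by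
    rw [pow_two, pow_mul, ← hm]
    have hprod : (m - k) * (m + k - t • (1 : Matrix (Fin 4) (Fin 4) F)) = 0 := by
      simp only [sub_mul, mul_sub, mul_add, Matrix.mul_smul, mul_one, hmm, hkk,
        hK.comm _ hmK _ hkK]
      abel
    rcases hnzd _ (K.sub_mem hmK hkK) _
      (K.sub_mem (K.add_mem hmK hkK) (K.smul_mem K.one_mem t)) hprod with h1 | h1
    · rw [sub_eq_zero] at h1
      rw [h1]
      exact hm.symm.trans h1
    · have h2 : m = t • (1 : Matrix (Fin 4) (Fin 4) F) + (-1 : F) • k := by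
        rw [neg_one_smul, ← sub_eq_zero, ← h1]; abel
      have hneg : (-1 : F) ^ q = -1 := by rw [← h.apply_eq, map_neg, map_one]
      conv_lhs => rw [h2]
      rw [hfrob, hσt, hneg, ← hm, h2]
      module
  -- too many fixed points
  have hall : ∀ x ∈ K, x ^ Fintype.card F = x := by
    intro x hx
    obtain ⟨a, b, rfl⟩ := hspan x hx
    have hFq : ∀ a : F, (a ^ q) ^ q = a := fun a => by
      rw [← pow_mul, ← pow_two, ← h.card, FiniteField.pow_card]
    rw [h.card, pow_two, pow_mul, hfrob, hfrob, hFq, hFq, ← pow_mul, ← pow_two, hk2]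
  have hfield : IsField K :=
    { exists_pair_ne := ⟨0, 1, fun h => one_ne_zero (congrArg Subtype.val h).symm⟩
      mul_comm := fun a b => Subtype.ext (hK.comm _ a.2 _ b.2)
      mul_inv_cancel := fun {a} ha => by
        obtain ⟨y, hy, hay⟩ := hK.inv _ a.2 fun h => ha (Subtype.ext h)
        exact ⟨⟨y, hy⟩, Subtype.ext hay⟩ }
  letI := hfield.toField
  haveI : Fintype K := Fintype.ofFinite K
  have hcardK : Nat.card K = Nat.card F ^ 2 :=
    (Module.natCard_eq_pow_finrank (K := F) (V := K)).trans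
      (congrArg (Nat.card F ^ ·) hK.finrank_eq)
  obtain ⟨g, hg⟩ := IsCyclic.exists_ofOrder_eq_natCard (α := Kˣ)
  rw [Nat.card_units, hcardK, Nat.card_eq_fintype_card] at hg
  have h1 : 1 < Fintype.card F := Fintype.one_lt_card
  have h2 : g ^ Fintype.card F = g :=
    Units.ext (Subtype.ext (hall _ (g : K).2))
  have h3 : g ^ (Fintype.card F - 1) = 1 := by
    have h4 : g ^ (Fintype.card F - 1) * g = g := by
      rw [← pow_succ, Nat.sub_add_cancel h1.le, h2]
    exact mul_eq_right.1 h4
  have h5 := Nat.le_of_dvd (by omega) (hg ▸ orderOf_dvd_of_pow_eq_one h3)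
  have h6 : Fintype.card F < Fintype.card F ^ 2 := by nlinarith
  omega

/-- An irreducible subgroup of `SU₄` is absolutely irreducible. -/
theorem absIrr_of_irr (c : Ctx q σ f H) (hirr : Irr H) : AbsIrr H :=
  (irr_cases (fun h hh x hx => H.mul_mem (H.mul_mem hh hx) (H.inv_mem hh)) hirr).resolve_right
    fun hf => field_absurd c le_rfl hf.2

/-- Four lines permuted by `H`. -/
theorem geometric_lines_case (c : Ctx q σ f H) (hirr : Irr H) (hAH : A ≤ H) (hl : LinesCase H A) :
    UGeometric q f H := by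
  classical
  obtain ⟨b, hdiag, hperm, hcomm⟩ := hl
  have h := c.herm
  -- every basis vector has exactly one partner
  have huniq : ∀ i i' j, f (b i) (b j) ≠ 0 → f (b i') (b j) ≠ 0 → i = i' := by
    intro i i' j hi hi'
    by_contra hne
    let p : Matrix (Fin 4) (Fin 4) F := LinearMap.toMatrix' ((b.coord i).smulRight (b i))
    have hp : ∀ k, p *ᵥ b k = if k = i then b i else 0 := fun k => by
      simp [p, LinearMap.toMatrix'_mulVec, Finsupp.single_apply, eq_comm]
    have hpA : CommMat A p := by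
      intro x hx
      refine Matrix.toLin'.injective (b.ext fun k => ?_)
      simp only [Matrix.toLin'_apply, ← Matrix.mulVec_mulVec]
      obtain ⟨d, hd⟩ := hdiag x hx k
      rw [hp, hd, Matrix.mulVec_smul, hp]
      by_cases hk : k = i
      · subst hk; rw [if_pos rfl, hd]
      · rw [if_neg hk, Matrix.mulVec_zero, smul_zero]
    obtain ⟨d, hd⟩ := hcomm _ (hpA.adj c hAH) j
    have h1 : ∀ k, f (p *ᵥ b k) (b j) = σ d * f (b k) (b j) := fun k => by
      rw [adj_spec c, hd, h.sesq.smul_right]; rfl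
    have e1 := h1 i
    have e2 := h1 i'
    rw [hp, if_pos rfl] at e1
    rw [hp, if_neg (Ne.symm hne), h.zero_left] at e2
    rcases mul_eq_zero.1 e2.symm with hd0 | hd0
    · rw [hd0, zero_mul] at e1; exact hi e1
    · exact hi' hd0
  have hex : ∀ j, ∃ i, f (b i) (b j) ≠ 0 := by
    intro j
    by_contra hcon
    push Not at hcon
    obtain ⟨u, hu⟩ := (h.form.nondegenerate (b j) (b.ne_zero j)).1
    apply hu
    show formLeft h (b j) u = 0
    rw [← b.sum_repr u, map_sum]
    exact Finset.sum_eq_zero fun k _ => by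
      rw [map_smul]
      show _ * f (b k) (b j) = 0
      rw [hcon, mul_zero]
  choose τ hτ using hex
  have hττ : ∀ i, τ (τ i) = i := fun i =>
    huniq (τ (τ i)) i (τ i) (hτ (τ i)) fun h0 => hτ i (h.eq_zero_comm h0)
  have hzero : ∀ i j, i ≠ τ j → f (b i) (b j) = 0 := fun i j hij => by
    by_contra hne
    exact hij (huniq i (τ j) j hne (hτ j))
  have hτπ : ∀ g ∈ H, ∀ (π : Equiv.Perm (Fin 4)), (∀ i, ∃ d : F,
      (g : Matrix (Fin 4) (Fin 4) F) *ᵥ b i = d • b (π i)) → ∀ i, τ (π i) = π (τ i) := by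
    intro g hg π hπ i
    obtain ⟨d, hd⟩ := hπ i
    obtain ⟨d', hd'⟩ := hπ (τ i)
    refine huniq _ _ (π i) (hτ (π i)) fun h0 => hτ i ?_
    rw [← c.iso hg, hd', hd, h.sesq.smul_left, h.sesq.smul_right, h0, mul_zero, mul_zero]
  by_cases hfix : ∃ i, τ i = i
  · -- orthonormal lines
    let W : Submodule F (Fin 4 → F) := Submodule.span F (b '' {i | τ i = i})
    have hW : W = ⊤ := by
      refine (irr_iff.1 hirr W fun g hg w hw => ?_).resolve_left fun h0 => ?_
      · induction hw using Submodule.span_induction with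
        | mem x hx =>
          obtain ⟨i, hi, rfl⟩ := hx
          obtain ⟨π, hπ⟩ := hperm g hg
          obtain ⟨d, hd⟩ := hπ i
          rw [hd]
          refine W.smul_mem d (Submodule.subset_span ⟨π i, ?_, rfl⟩)
          show τ (π i) = π i
          rw [hτπ g hg π hπ, show τ i = i from hi]
        | zero => rw [Matrix.mulVec_zero]; exact W.zero_mem
        | add x y _ _ ihx ihy => rw [Matrix.mulVec_add]; exact W.add_mem ihx ihy
        | smul r x _ ih => rw [Matrix.mulVec_smul]; exact W.smul_mem r ih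
      · obtain ⟨i, hi⟩ := hfix
        exact b.ne_zero i ((Submodule.mem_bot F).1 (h0 ▸ Submodule.subset_span ⟨i, hi, rfl⟩))
    have hfixall : ∀ i, τ i = i := fun i => by
      by_contra hne
      exact b.linearIndependent.notMem_span_image (by simpa using hne)
        (hW.ge Submodule.mem_top : b i ∈ W)
    have hμ : ∀ i, ∃ μ : Fˣ, (μ : F) * σ μ * f (b i) (b i) = 1 := by
      intro i
      have h0 : f (b i) (b i) ≠ 0 := by simpa [hfixall] using hτ i
      obtain ⟨a, ha⟩ := h.exists_norm (inv_ne_zero h0) (by rw [map_inv₀, ← h.form.herm])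
      have ha0 : a ≠ 0 := by rintro rfl; rw [zero_mul] at ha; exact inv_ne_zero h0 ha.symm
      exact ⟨Units.mk0 a ha0, by rw [Units.val_mk0, ha, inv_mul_cancel₀ h0]⟩
    choose μ hμ using hμ
    refine geometric_orth_lines c (b := b.unitsSMul μ) (fun i j => ?_) fun g hg => ?_
    · rw [Module.Basis.unitsSMul_apply, Module.Basis.unitsSMul_apply, Units.smul_def, Units.smul_def,
        h.sesq.smul_left, h.sesq.smul_right]
      by_cases hij : i = j
      · subst hij
        rw [if_pos rfl, ← mul_assoc]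
        exact hμ i
      · rw [if_neg hij, hzero i j (by rwa [hfixall]), mul_zero, mul_zero]
    · obtain ⟨π, hπ⟩ := hperm g hg
      refine ⟨π, fun i => ?_⟩
      obtain ⟨d, hd⟩ := hπ i
      refine ⟨(μ i : F) * d * ((μ (π i) : F))⁻¹, ?_⟩
      rw [Module.Basis.unitsSMul_apply, Module.Basis.unitsSMul_apply, Units.smul_def, Units.smul_def,
        Matrix.mulVec_smul, hd, smul_smul, smul_smul, mul_assoc, inv_mul_cancel₀ (μ (π i)).ne_zero,
        mul_one]
  · -- two planes
    push Not at hfix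
    have hfacts : ∀ t : Fin 4 → Fin 4, (∀ i, t (t i) = i) → (∀ i, t i ≠ i) →
        ∃ e : Equiv.Perm (Fin 4), ∀ i, t (e i) = e (![1, 0, 3, 2] i) := by decide +kernel
    obtain ⟨e, he⟩ := hfacts τ hττ hfix
    let P : Fin 2 → Finset (Fin 4) := ![{0, 1}, {2, 3}]
    let D : Fin 2 → Submodule F (Fin 4 → F) := fun i =>
      Submodule.span F ((fun k => b (e k)) '' (P i))
    have hli : LinearIndependent F fun k => b (e k) := b.linearIndependent.comp e e.injective
    have hDd : ∀ i, Module.finrank F (D i) = 2 := fun i => by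
      have h1 : (P i).card = 2 := by fin_cases i <;> decide
      have h2 := finrank_span_eq_card
        (hli.comp (fun k : P i => (k : Fin 4)) Subtype.val_injective)
      rw [Fintype.card_coe, h1] at h2
      show Module.finrank F (Submodule.span F ((fun k => b (e k)) '' (P i : Set (Fin 4)))) = 2
      rw [Set.image_eq_range]
      exact h2
    have hD : Geo.IsMDecomposition 2 D := by
      refine ⟨le_rfl, two_pos, hDd, ?_, eq_top_iff.2 (b.span_eq.ge.trans (Submodule.span_le.2 ?_))⟩
      · rw [iSupIndep_pair (show (0 : Fin 2) ≠ 1 by decide) (fun i => by fin_cases i <;> simp)]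
        refine hli.disjoint_span_image ?_
        rw [Finset.disjoint_coe]
        decide
      · rintro _ ⟨i, rfl⟩
        obtain ⟨k, rfl⟩ := e.surjective i
        have : ∀ k : Fin 4, ∃ i : Fin 2, k ∈ P i := by decide
        obtain ⟨i, hi⟩ := this k
        exact le_iSup D i (Submodule.subset_span ⟨k, hi, rfl⟩)
    have ho : ∀ u ∈ D 0, ∀ v ∈ D 1, f u v = 0 := by
      intro u hu v hv
      induction hu using Submodule.span_induction with
      | mem x hx =>
        obtain ⟨k, hk, rfl⟩ := hx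
        induction hv using Submodule.span_induction with
        | mem y hy =>
          obtain ⟨l, hl, rfl⟩ := hy
          refine hzero _ _ ?_
          rw [he]
          have : ∀ k l : Fin 4, k ∈ P 0 → l ∈ P 1 → k ≠ ![1, 0, 3, 2] l := by decide
          exact fun h' => this k l hk hl (e.injective h')
        | zero => exact h.zero_right _
        | add y y' _ _ ih ih' => rw [h.sesq.add_right, ih, ih', add_zero]
        | smul r y _ ih => rw [h.sesq.smul_right, ih, mul_zero]
      | zero => exact h.zero_left _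
      | add x x' _ _ ih ih' => rw [h.sesq.add_left, ih, ih', add_zero]
      | smul r x _ ih => rw [h.sesq.smul_left, ih, mul_zero]
    refine geometric_orth_planes c (nondeg_of_orth h hD ho) fun g hg => ?_
    obtain ⟨π, hπ⟩ := hperm g hg
    let π' := e.trans (π.trans e.symm)
    have hcommπ : ∀ k, π' (![1, 0, 3, 2] k) = ![1, 0, 3, 2] (π' k) := fun k => by
      apply e.injective
      rw [← he]
      simp only [π', Equiv.trans_apply, Equiv.apply_symm_apply]
      rw [hτπ g hg π hπ, he]
    have hblocks : ∀ p : Equiv.Perm (Fin 4), (∀ k, p (![1, 0, 3, 2] k) = ![1, 0, 3, 2] (p k)) →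
        ∃ s : Equiv.Perm (Fin 2), ∀ i, ∀ k ∈ P i, p k ∈ P (s i) := by decide +kernel
    obtain ⟨s, hs⟩ := hblocks π' hcommπ
    refine ⟨s, fun i => Submodule.eq_of_le_of_finrank_le ?_ ?_⟩
    · rw [Submodule.map_span, Submodule.span_le]
      rintro _ ⟨_, ⟨k, hk, rfl⟩, rfl⟩
      obtain ⟨d, hd⟩ := hπ (e k)
      rw [Matrix.toLin'_apply, hd, show π (e k) = e (π' k) by simp [π']]
      exact Submodule.smul_mem _ d (Submodule.subset_span ⟨π' k, hs i k hk, rfl⟩)
    · rw [hDd, show (D i).map (Matrix.toLin' (g : Matrix (Fin 4) (Fin 4) F)) = translate g (D i)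
        from rfl, finrank_translate, hDd]

/-- Two planes permuted by `H`. -/
theorem geometric_planes_case (c : Ctx q σ f H) (hHa : AbsIrr H) (hAH : A ≤ H)
    (hp : PlanesCase H A) : UGeometric q f H := by
  classical
  obtain ⟨D, hD, hHD, hDA, hDN, hidem⟩ := hp
  have h := c.herm
  have hc : IsCompl (D 0) (D 1) :=
    ⟨hD.indep.pairwiseDisjoint (show (0 : Fin 2) ≠ 1 by decide), codisjoint_iff.2 (planes_sup hD)⟩
  let pr : (Fin 4 → F) →ₗ[F] (Fin 4 → F) :=
    (D 0).subtype.comp (Submodule.projectionOnto _ _ hc)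
  set π₀ := LinearMap.toMatrix' pr with hπdef
  have hπ0 : ∀ v ∈ D 0, π₀ *ᵥ v = v := fun v hv => by
    rw [hπdef, LinearMap.toMatrix'_mulVec]
    simp [pr, Submodule.projectionOnto_apply_left hc ⟨v, hv⟩]
  have hπ1 : ∀ v ∈ D 1, π₀ *ᵥ v = 0 := fun v hv => by
    rw [hπdef, LinearMap.toMatrix'_mulVec]
    simp [pr, Submodule.projectionOnto_apply_right hc ⟨v, hv⟩]
  have hext : ∀ {M N : Matrix (Fin 4) (Fin 4) F}, (∀ i, ∀ v ∈ D i, M *ᵥ v = N *ᵥ v) → M = N := by
    intro M N hMN
    refine Matrix.toLin'.injective (LinearMap.ext fun v => ?_)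
    obtain ⟨a, ha, b, hb, rfl⟩ := Submodule.mem_sup.1 ((planes_sup hD).ge (Submodule.mem_top : v ∈ ⊤))
    simp only [Matrix.toLin'_apply, Matrix.mulVec_add, hMN 0 a ha, hMN 1 b hb]
  have hcomm : ∀ B : Matrix (Fin 4) (Fin 4) F, (∀ i, ∀ v ∈ D i, B *ᵥ v ∈ D i) → π₀ * B = B * π₀ :=
    fun B hB => hext fun i v hv => by
      simp only [← Matrix.mulVec_mulVec]
      fin_cases i
      · rw [hπ0 v hv, hπ0 _ (hB 0 v hv)]
      · rw [hπ1 v hv, hπ1 _ (hB 1 v hv), Matrix.mulVec_zero]
  have hcentral : CentralComm A π₀ := ⟨fun x hx => (hcomm _ (hDN x hx)).symm,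
    fun B hB => hcomm B (hDA B hB)⟩
  have hππ : π₀ * π₀ = π₀ := hext fun i v hv => by
    simp only [← Matrix.mulVec_mulVec]
    fin_cases i
    · rw [hπ0 v hv, hπ0 v hv]
    · rw [hπ1 v hv, Matrix.mulVec_zero]
  set π₁ := AschbacherFour.adj σ π₀ with hπ1def
  have hidem' := hidem π₁ (hcentral.adj c hAH) (by rw [hπ1def, ← adj_mul, hππ])
  have hne : ∀ i, D i ≠ ⊥ := fun i h0 => by
    have := hD.finrank_eq i
    rw [h0, finrank_bot] at this
    omega
  have hback : AschbacherFour.adj σ π₁ = π₀ := adj_adj h π₀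
  rcases hidem' 0 with h0 | h0 <;> rcases hidem' 1 with h1 | h1
  · exfalso
    have he : π₁ = 1 := hext fun i v hv => by
      rw [Matrix.one_mulVec]; fin_cases i <;> [exact h0 v hv; exact h1 v hv]
    obtain ⟨w, hw, hw0⟩ := (Submodule.ne_bot_iff _).1 (hne 1)
    rw [he, adj_one] at hback
    exact hw0 (by rw [← hπ1 w hw, ← hback, Matrix.one_mulVec])
  · -- orthogonal
    refine geometric_orth_planes c (nondeg_of_orth h hD fun u hu v hv => ?_) hHD
    rw [← hπ0 u hu, adj_spec c, ← hπ1def, h1 v hv, h.zero_right]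
  · -- totally isotropic
    refine geometric_ts_planes c hHa hD (fun i u hu v hv => ?_) hHD
    fin_cases i
    · rw [← hπ0 u hu, adj_spec c, ← hπ1def, h0 v hv, h.zero_right]
    · rw [← h1 v hv, hπ1def, ← adj_spec c, hπ1 u hu, h.zero_left]
  · exfalso
    have he : π₁ = 0 := hext fun i v hv => by
      rw [Matrix.zero_mulVec]; fin_cases i <;> [exact h0 v hv; exact h1 v hv]
    obtain ⟨w, hw, hw0⟩ := (Submodule.ne_bot_iff _).1 (hne 0)
    rw [he] at hback
    refine hw0 ?_
    rw [← hπ0 w hw, ← hback]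
    simp [AschbacherFour.adj]

/-- Similitudes of the polar form of a quadratic form. -/
theorem geometric_polar_similitude (c : Ctx q σ f H) (hHa : AbsIrr H) {Q : (Fin 4 → F) → F}
    (hQ : Geo.IsNondegenerateQuadraticForm Q)
    (hle : H ≤ Geo.similarityGroup (QuadraticMap.polar Q)) : UGeometric q f H := by
  refine geometric_similitude c hHa hQ.polar_bilinear hQ.nondegenerate hle ?_
  by_cases h2 : (2 : F) = 0
  · exact Or.inr fun u => by rw [polar_self hQ, h2, zero_mul]
  · exact Or.inl ⟨c.odd_q h2, fun u v => QuadraticMap.polar_comm Q u v⟩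

/-- A non-scalar normal subgroup is absolutely irreducible unless the group is geometric. -/
theorem unitary_cases (c : Ctx q σ f H) (hirr : Irr H) (hAH : A ≤ H) (hAn : NormalIn H A)
    (hAs : ¬ A ≤ Geo.scalars (Fin 4) F) : AbsIrr A ∨ UGeometric q f H := by
  have hHa := absIrr_of_irr c hirr
  rcases classify hirr hAn with h | ⟨-, Q, hQ, hHQ, -, -⟩ | ⟨-, h | h | h | h⟩
  · exact Or.inl h
  · exact Or.inr (geometric_polar_similitude c hHa hQ (hHQ.trans quadSimilarity_le_similarity))
  · exact absurd h hAs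
  · exact Or.inr (geometric_lines_case c hirr hAH h)
  · exact Or.inr (geometric_planes_case c hHa hAH h)
  · exact absurd h (field_absurd c hAH)

end Cfsg.Agent.AschbacherFour
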