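import Cfsg.Agent.Lib.AschbacherFour.UnitaryGeometry
import Cfsg.Agent.Lib.AschbacherFour.SignGroup

/-!
The sixth class in `SU₄(q)` and monomial groups on four orthonormal lines.
-/

set_option autoImplicit false

namespace Cfsg.Agent.AschbacherFour

open Matrix Aschbacher
open scoped MatrixGroups

variable {F : Type*} [Field F] [Fintype F] {q : ℕ} {σ : F ≃+* F}
  {f : (Fin 4 → F) → (Fin 4 → F) → F} {H : Subgroup (GL (Fin 4) F)}

/-- `SU₄` does not normalise a group of symplectic type consisting of isometries. -/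
theorem unitary_not_normalized (h : Herm q σ f) {N : Subgroup (GL (Fin 4) F)} (hN : SymType N)
    (hNf : N ≤ preserving (glToMat (Fin 4) F) f) {i : F} (hi : i ^ 2 = -1) {z₀ : GL (Fin 4) F}
    (hz₀ : z₀ ∈ N) (hzi : (z₀ : Matrix (Fin 4) (Fin 4) F) = i • 1) :
    ¬ unitarySL f ≤ Geo.subgroupNormalizer N := by
  classical
  intro hle
  have h2 := hN.two_ne_zero
  obtain ⟨x₁, hx₁, hx₁s⟩ := hN.exists_nonscalar
  obtain ⟨x, hx, hxs, hx2, -⟩ := hN.exists_involution hi hz₀ hzi hx₁ hx₁s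
  obtain ⟨y, hy, hyx⟩ := hN.exists_noncomm hxs
  have hanti := (hN.anti hy hx).resolve_left hyx
  set X := (x : Matrix (Fin 4) (Fin 4) F)
  have hXX : X * X = 1 := by rw [← pow_two]; exact hx2
  let E : F → Submodule F (Fin 4 → F) := fun t =>
    LinearMap.ker (Matrix.toLin' X - t • LinearMap.id)
  have hmem : ∀ {t : F} {u}, u ∈ E t ↔ X *ᵥ u = t • u := fun {t u} => by
    simp [E, sub_eq_zero]
  have hsup : E 1 ⊔ E (-1) = ⊤ := eq_top_iff.2 fun u _ => by
    have h1 : X *ᵥ (X *ᵥ u) = u := by rw [Matrix.mulVec_mulVec, hXX, Matrix.one_mulVec]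
    refine Submodule.mem_sup.2 ⟨(2⁻¹ : F) • (u + X *ᵥ u), hmem.2 ?_, (2⁻¹ : F) • (u - X *ᵥ u),
      hmem.2 ?_, ?_⟩
    · rw [Matrix.mulVec_smul, Matrix.mulVec_add, h1, one_smul, add_comm]
    · rw [Matrix.mulVec_smul, Matrix.mulVec_sub, h1, smul_smul, neg_one_mul, neg_smul, ← smul_neg,
        neg_sub]
    · rw [← smul_add, show u + X *ᵥ u + (u - X *ᵥ u) = (2 : F) • u by rw [two_smul]; abel, smul_smul,
        inv_mul_cancel₀ h2, one_smul]
  obtain ⟨s, hs, hdim⟩ : ∃ s : F, s * s = 1 ∧ 2 ≤ Module.finrank F (E s) := by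
    by_contra hc
    push Not at hc
    have h1 := hc 1 (one_mul _)
    have h3 := hc (-1) (by ring)
    have h4 := Submodule.finrank_sup_add_finrank_inf_eq (E 1) (E (-1))
    rw [hsup, finrank_top, Module.finrank_fintype_fun_eq_card, Fintype.card_fin] at h4
    omega
  obtain ⟨u, hu, hu0, huu⟩ := exists_isotropic h hdim
  have hxu := hmem.1 hu
  set v := (y : Matrix (Fin 4) (Fin 4) F) *ᵥ u with hv
  have hxv : X *ᵥ v = -(s • v) := by
    rw [hv, Matrix.mulVec_mulVec, show X * (y : Matrix (Fin 4) (Fin 4) F) = -((y : Matrix (Fin 4) (Fin 4) F) * X) by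
      rw [hanti, neg_neg], Matrix.neg_mulVec, ← Matrix.mulVec_mulVec, hxu, Matrix.mulVec_smul]
  have hfx : ∀ a b, f (X *ᵥ a) (X *ᵥ b) = f a b := hNf hx
  have hfy : ∀ a b, f ((y : Matrix (Fin 4) (Fin 4) F) *ᵥ a) ((y : Matrix (Fin 4) (Fin 4) F) *ᵥ b) =
      f a b := hNf hy
  have hσs : σ s = s := by
    rcases mul_self_eq_one_iff.1 hs with rfl | rfl
    · exact map_one σ
    · rw [map_neg, map_one]
  have huv : f u v = 0 := by
    have h1 := hfx u v
    rw [hxu, hxv, ← neg_smul, h.sesq.smul_left, h.sesq.smul_right] at h1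
    simp only [RingEquiv.toRingHom_eq_coe, RingHom.coe_coe, map_neg, hσs] at h1
    exact (mul_eq_zero.1 (show (2 : F) * f u v = 0 by linear_combination -h1 - f u v * hs)).resolve_left h2
  set z := u + v with hz
  have hxz : X *ᵥ z = s • u - s • v := by
    rw [hz, Matrix.mulVec_add, hxu, hxv, ← sub_eq_add_neg]
  have hvv : f v v = 0 := by rw [hv, hfy, huu]
  have hvu := h.eq_zero_comm huv
  have hzz : f z z = 0 := by
    simp [hz, h.sesq.add_left, h.sesq.add_right, huu, huv, hvu, hvv]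
  have hxzz : f (X *ᵥ z) z = 0 := by
    rw [hxz, sub_eq_add_neg, ← neg_smul, hz]
    simp only [h.sesq.add_left, h.sesq.add_right, h.sesq.smul_left, huu, huv, hvu, hvv, mul_zero,
      add_zero]
  have hs0 : s ≠ 0 := fun h0 => by simp [h0] at hs
  have hspan : X *ᵥ z ∉ Submodule.span F {z} := by
    intro hm
    obtain ⟨l, hl⟩ := Submodule.mem_span_singleton.1 hm
    have h1 : (l - s) • u + (l + s) • v = 0 := by
      rw [hxz, hz] at hl
      rw [sub_smul, add_smul, ← sub_eq_zero.2 hl, smul_add]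
      abel
    have h2' := congrArg (X *ᵥ ·) h1
    simp only [Matrix.mulVec_add, Matrix.mulVec_smul, hxu, hxv, Matrix.mulVec_zero] at h2'
    have hu1 : ((2 : F) * (s * (l - s))) • u = 0 := by
      have h3 : s • ((l - s) • u + (l + s) • v) + ((l - s) • s • u + (l + s) • -(s • v)) = 0 := by
        rw [h1, h2', smul_zero, add_zero]
      rw [← h3]
      module
    have hv1 : ((2 : F) * (s * (l + s))) • v = 0 := by
      have h3 : s • ((l - s) • u + (l + s) • v) - ((l - s) • s • u + (l + s) • -(s • v)) = 0 := by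
        rw [h1, h2', smul_zero, sub_zero]
      rw [← h3]
      module
    have hl1 := (mul_eq_zero.1 ((mul_eq_zero.1 ((smul_eq_zero.1 hu1).resolve_right hu0)).resolve_left
      h2)).resolve_left hs0
    have hl2 := (mul_eq_zero.1 ((mul_eq_zero.1 ((smul_eq_zero.1 hv1).resolve_right
      fun h0 => hu0 ((mulVec_eq_zero_iff y).1 h0))).resolve_left h2)).resolve_left hs0
    exact mul_ne_zero h2 hs0 (by linear_combination hl2 - hl1)
  obtain ⟨c, hc0, hc⟩ := h.exists_antifixed
  obtain ⟨g, hg, hgu⟩ := h.exists_transvection hzz hc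
  have hz0 : z ≠ 0 := fun h0 => hspan (by rw [h0, Matrix.mulVec_zero]; exact Submodule.zero_mem _)
  obtain ⟨t, ht⟩ := (h.form.nondegenerate z hz0).1
  refine hN.transvection_absurd hx (hle hg) (φ := c • formLeft h z) (w := (c * f t z)⁻¹ • t)
    (fun a => by rw [hgu]; rfl) ?_ ?_ ?_ hspan
  · show c * f z z = 0
    rw [hzz, mul_zero]
  · show c * f (X *ᵥ z) z = 0
    rw [hxzz, mul_zero]
  · show c * f ((c * f t z)⁻¹ • t) z = 1
    rw [h.sesq.smul_left, mul_left_comm, inv_mul_cancel₀ (mul_ne_zero hc0 ht)]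

/-- The sixth class. -/
theorem geometric_pauli (c : Ctx q σ f H) {p : ℕ} (hp : p.Prime) (hqp : q = p) (hp4 : p % 4 = 3)
    {R : Subgroup (GL (Fin 4) F)} (hR : SymType R) (hRf : R ≤ preserving (glToMat (Fin 4) F) f)
    (hle : H ≤ Geo.subgroupNormalizer R) {i : F} (hi : i ^ 2 = -1) {z : GL (Fin 4) F} (hz : z ∈ R)
    (hzi : (z : Matrix (Fin 4) (Fin 4) F) = i • 1) : UGeometric q f H :=
  Or.inr <| Or.inr <| Or.inr <| Or.inr <| Or.inr <| Or.inr <| Or.inr <| Or.inr
    ⟨p, R, hp, hqp, hp4, hR.symplecticTypeGroup hi hz hzi, hR.absIrr,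
      fun g hg => ⟨1, fun u v => by rw [Units.val_one, one_mul]; exact hRf hg u v⟩,
      by rw [hR.card_eq, hR.card_center hi hz hzi], hR.card_center hi hz hzi,
      c.eq_inf hle (unitary_not_normalized c.herm hR hRf hi hz hzi)⟩

/-- Four orthonormal lines. -/
theorem geometric_orth_lines (c : Ctx q σ f H) {b : Module.Basis (Fin 4) F (Fin 4 → F)}
    (hb : Orthonormal f b)
    (hperm : ∀ g ∈ H, ∃ π : Equiv.Perm (Fin 4), ∀ i, ∃ d : F,
      (g : Matrix (Fin 4) (Fin 4) F) *ᵥ b i = d • b (π i)) : UGeometric q f H := by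
  classical
  by_cases hq : q ≠ 3
  · exact geometric_lines_ne_three c hq hb hperm
  push Not at hq
  subst hq
  have h := c.herm
  have hodd : Odd (Fintype.card F) := by rw [h.card]; decide
  have h2 := two_ne_zero_of_odd hodd
  have hnorm : ∀ {d : F}, d ^ 4 = 1 → d * σ d = 1 := fun {d} hd => by
    rw [h.apply_eq, ← pow_succ', hd]
  -- a square root of `-1`
  obtain ⟨i, hi⟩ : ∃ i : F, i ^ 2 = -1 := by
    obtain ⟨a, ha⟩ := h.exists_norm (x := -1) (neg_ne_zero.2 one_ne_zero) (by simp)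
    exact ⟨a ^ 2, by rw [← pow_mul, ← ha, h.apply_eq, ← pow_succ']⟩
  obtain ⟨hR, hle, z, hz, hzi⟩ := monomial_sign b h2 hi c.le_specialLinear fun g hg => by
    obtain ⟨π, hπ⟩ := hperm g hg
    refine ⟨π, fun j => ?_⟩
    obtain ⟨d, hd⟩ := hπ j
    have h1 := c.iso hg (b j) (b j)
    rw [hd, h.sesq.smul_left, h.sesq.smul_right, (hb _ _).trans (if_pos rfl),
      (hb _ _).trans (if_pos rfl), mul_one, RingEquiv.toRingHom_eq_coe, RingHom.coe_coe,
      h.apply_eq, ← pow_succ'] at h1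
    exact ⟨d, hd, h1⟩
  refine geometric_pauli c Nat.prime_three rfl (by norm_num) hR ?_ hle hi hz hzi
  rintro g ⟨π, d, -, hg, hs, -, h4⟩
  have hd : ∀ j, d j * σ (d j) = 1 := fun j => hnorm (by
    rw [show ∀ x : F, x ^ 4 = (x ^ 2) ^ 2 from fun x => by ring, hs, ← pow_mul, h4])
  have hexp : ∀ (u : Fin 4 → F), u = ∑ j, b.repr u j • b j := fun u => (b.sum_repr u).symm
  intro u v
  show f ((g : Matrix (Fin 4) (Fin 4) F) *ᵥ u) ((g : Matrix (Fin 4) (Fin 4) F) *ᵥ v) = f u v
  have hrep : ∀ (a : Fin 4 → F) j, b.repr ((g : Matrix (Fin 4) (Fin 4) F) *ᵥ a) (π j) =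
      d j * b.repr a j := by
    intro a j
    conv_lhs => rw [hexp a, Matrix.mulVec_sum]
    simp [Matrix.mulVec_smul, hg, map_sum, Finsupp.single_apply, mul_comm]
  have hform : ∀ a a' : Fin 4 → F, f a a' = ∑ j, b.repr a j * σ (b.repr a' j) := by
    intro a a'
    conv_lhs => rw [hexp a]
    show formLeft h a' _ = _
    rw [map_sum]
    refine Finset.sum_congr rfl fun j _ => ?_
    rw [map_smul, smul_eq_mul]
    show _ * f (b j) a' = _
    rw [h.form.herm, h.repr_eq hb]
  rw [hform, hform, ← Equiv.sum_comp π]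
  refine Finset.sum_congr rfl fun j _ => ?_
  rw [hrep, hrep, map_mul]
  linear_combination (b.repr u j * σ (b.repr v j)) * hd j

end Cfsg.Agent.AschbacherFour
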