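import Cfsg.Agent.Lib.AschbacherFour.UnitaryAdjoint

/-!
A normal absolutely irreducible subgroup realised over a proper subfield, inside `SU₄(q)`.
-/

set_option autoImplicit false

namespace Cfsg.Agent.AschbacherFour

open Matrix Aschbacher
open scoped MatrixGroups

variable {F : Type*} [Field F] [Fintype F] {q : ℕ} {σ : F ≃+* F}
  {f : (Fin 4 → F) → (Fin 4 → F) → F} {H P : Subgroup (GL (Fin 4) F)}

/-- Index two: a symmetric or alternating form is fixed. -/
theorem exists_invariant_form (c : Ctx q σ f H) (hPH : P ≤ H) (hPa : AbsIrr P) {F₀ : Subfield F}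
    (hF₀ : ∀ x ∈ F₀, σ x = x) {T : GL (Fin 4) F}
    (hT : ∀ s ∈ Geo.matrixSet P, ∀ i j,
      ((T : Matrix (Fin 4) (Fin 4) F) * s * ((T⁻¹ : GL (Fin 4) F) : Matrix (Fin 4) (Fin 4) F)) i j ∈ F₀) :
    ∃ B : (Fin 4 → F) → (Fin 4 → F) → F, Geo.IsBilinearForm B ∧ Geo.IsNondegenerateForm B ∧
      Geo.FixesForm (Geo.matrixSet P) B ∧
      ((Odd q ∧ ∀ u v, B u v = B v u) ∨ ∀ u, B u u = 0) := by
  classical
  have h := c.herm
  let τ : (Fin 4 → F) → (Fin 4 → F) := fun v =>
    ((T⁻¹ : GL (Fin 4) F) : Matrix (Fin 4) (Fin 4) F) *ᵥ (σ ∘ ((T : Matrix (Fin 4) (Fin 4) F) *ᵥ v))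
  let B : (Fin 4 → F) → (Fin 4 → F) → F := fun u v => f u (τ v)
  have hτadd : ∀ v w, τ (v + w) = τ v + τ w := fun v w => by
    show _ *ᵥ _ = _ *ᵥ _ + _ *ᵥ _
    rw [← Matrix.mulVec_add]
    congr 1
    rw [Matrix.mulVec_add]
    exact funext fun i => map_add σ _ _
  have hτsmul : ∀ (a : F) v, τ (a • v) = σ a • τ v := fun a v => by
    show _ *ᵥ _ = σ a • (_ *ᵥ _)
    rw [← Matrix.mulVec_smul]
    congr 1
    rw [Matrix.mulVec_smul]
    exact funext fun i => map_mul σ _ _
  have hττ : ∀ v, τ (τ v) = v := fun v => by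
    simp only [τ, mulVec_inv]
    rw [show σ ∘ (σ ∘ ((T : Matrix (Fin 4) (Fin 4) F) *ᵥ v)) = (T : Matrix (Fin 4) (Fin 4) F) *ᵥ v from
      funext fun i => h.form.involutive _, inv_mulVec]
  have hB : Geo.IsBilinearForm B := ⟨fun x y v => h.sesq.add_left x y _,
    fun a x v => h.sesq.smul_left a x _, fun v x y => by simp only [B, hτadd, h.sesq.add_right],
    fun a v x => by
      simp only [B, hτsmul, h.sesq.smul_right]
      show σ (σ a) * _ = _
      rw [h.form.involutive]⟩
  have hnd : Geo.IsNondegenerateForm B := by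
    intro v hv
    constructor
    · obtain ⟨x, hx⟩ := (h.form.nondegenerate (τ v) fun h0 => hv (by
        rw [← hττ v, h0]; simpa using hτsmul 0 0)).1
      exact ⟨x, hx⟩
    · obtain ⟨x, hx⟩ := (h.form.nondegenerate v hv).2
      exact ⟨τ x, by show f v (τ (τ x)) ≠ 0; rwa [hττ]⟩
  have hfix : Geo.FixesForm (Geo.matrixSet P) B := by
    rintro s ⟨x, hx, rfl⟩ u v
    show f _ (τ _) = f u (τ v)
    have hcomm : τ ((x : Matrix (Fin 4) (Fin 4) F) *ᵥ v) = (x : Matrix (Fin 4) (Fin 4) F) *ᵥ τ v := by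
      apply mulVec_injective T
      simp only [τ, mulVec_inv]
      set x₀ := (T : Matrix (Fin 4) (Fin 4) F) * (x : Matrix (Fin 4) (Fin 4) F) *
        ((T⁻¹ : GL (Fin 4) F) : Matrix (Fin 4) (Fin 4) F) with hx₀
      have hTx : ∀ w, (T : Matrix (Fin 4) (Fin 4) F) *ᵥ ((x : Matrix (Fin 4) (Fin 4) F) *ᵥ w) =
          x₀ *ᵥ ((T : Matrix (Fin 4) (Fin 4) F) *ᵥ w) := fun w => by
        rw [hx₀, ← Matrix.mulVec_mulVec, ← Matrix.mulVec_mulVec, inv_mulVec]
      rw [hTx v, hTx, mulVec_inv]
      funext i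
      simp only [Function.comp_apply, Matrix.mulVec, dotProduct, map_sum, map_mul]
      exact Finset.sum_congr rfl fun j _ => by rw [hF₀ _ (hT _ ⟨x, hx, rfl⟩ i j)]
    rw [hcomm]
    exact c.iso (hPH hx) u (τ v)
  obtain ⟨l, hl⟩ := hPa.form_unique (IsSesq.of_bilinear hB) hnd (g := fun u v => B v u)
    (IsSesq.of_bilinear (f := fun u v => B v u) ⟨fun x y v => hB.add_right v x y,
      fun a x v => hB.smul_right a v x, fun v x y => hB.add_left x y v,
      fun a v x => hB.smul_left a x v⟩) hfix (by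
      rintro s hs u v
      exact hfix s hs v u)
  obtain ⟨u₀, v₀, h0⟩ : ∃ u v, B u v ≠ 0 := by
    obtain ⟨x, hx⟩ := (hnd (Pi.single 0 1) (by simp)).2
    exact ⟨_, _, hx⟩
  have hll : l * l = 1 := by
    have h1 : B v₀ u₀ = l * B u₀ v₀ := hl u₀ v₀
    have h2 : B u₀ v₀ = l * B v₀ u₀ := hl v₀ u₀
    rw [h1, ← mul_assoc] at h2
    exact mul_right_cancel₀ h0 (h2.symm.trans (one_mul _).symm)
  refine ⟨B, hB, hnd, hfix, ?_⟩
  by_cases h2 : (2 : F) = 0
  · right
    have hl1 : l = 1 := by
      rcases mul_self_eq_one_iff.1 hll with h | h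
      · exact h
      · rw [h]; linear_combination -h2
    have hsymm : ∀ u v, B v u = B u v := fun u v => by rw [hl u v, hl1, one_mul]
    let K : Submodule F (Fin 4 → F) :=
      { carrier := {v | B v v = 0}
        zero_mem' := by simpa using hB.smul_left 0 0 0
        add_mem' := fun {u v} hu hv => by
          show B (u + v) (u + v) = 0
          rw [hB.add_left, hB.add_right, hB.add_right, show B u u = 0 from hu, show B v v = 0 from hv,
            hsymm u v]
          linear_combination B u v * h2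
        smul_mem' := fun a v hv => by
          show B (a • v) (a • v) = 0
          rw [hB.smul_left, hB.smul_right, show B v v = 0 from hv, mul_zero, mul_zero] }
    rcases irr_iff.1 hPa.1 K (fun x hx v hv => by
      show B _ _ = 0
      rw [hfix _ ⟨x, hx, rfl⟩]; exact hv) with hbot | htop
    · exfalso
      have hinj : Function.Injective fun v => B v v := fun u v huv => by
        have hm : u - v ∈ K := by
          show B (u - v) (u - v) = 0
          rw [sub_eq_add_neg, ← neg_one_smul F v, hB.add_left, hB.add_right, hB.add_right,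
            hB.smul_left, hB.smul_left, hB.smul_right, hB.smul_right, hsymm u v]
          linear_combination huv + (B v v - B u v) * h2
        rwa [hbot, Submodule.mem_bot, sub_eq_zero] at hm
      have h1 := Fintype.card_le_of_injective _ hinj
      rw [Fintype.card_fun, Fintype.card_fin] at h1
      have h3 := Fintype.one_lt_card (α := F)
      exact absurd h1 (not_le.2 (by
        calc Fintype.card F = Fintype.card F ^ 1 := (pow_one _).symm
          _ < Fintype.card F ^ 4 := Nat.pow_lt_pow_right h3 (by norm_num)))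
    · exact fun u => htop.ge (Submodule.mem_top : u ∈ ⊤)
  · rcases mul_self_eq_one_iff.1 hll with h' | h'
    · exact Or.inl ⟨c.odd_q h2, fun u v => ((hl u v).trans (by rw [h', one_mul])).symm⟩
    · refine Or.inr fun u => (mul_eq_zero.1 (show (2 : F) * B u u = 0 from ?_)).resolve_left h2
      have h1 : B u u = l * B u u := hl u u
      rw [h'] at h1
      linear_combination h1

/-- The fifth class. -/
theorem geometric_realisable (c : Ctx q σ f H) (hHa : AbsIrr H) (hPH : P ≤ H) (hPa : AbsIrr P)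
    (hPn : NormalIn H P) {F₁ : Subfield F} (hF₁ : F₁ ≠ ⊤)
    (hreal : Geo.RealisableOver F₁ (Geo.matrixSet P)) : UGeometric q f H := by
  classical
  obtain ⟨T, hT⟩ := hreal
  obtain ⟨F₀, r, hle, hr, hcard⟩ := exists_prime_index hF₁
  have h := c.herm
  have hT' : ∀ s ∈ Geo.matrixSet P, ∀ i j,
      ((T : Matrix (Fin 4) (Fin 4) F) * s * ((T⁻¹ : GL (Fin 4) F) : Matrix (Fin 4) (Fin 4) F)) i j ∈ F₀ :=
    fun s hs i j => hle (hT s hs i j)
  by_cases hr2 : r = 2
  · subst hr2
    haveI : Fintype F₀ := Fintype.ofFinite _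
    have hF0 : Fintype.card F₀ = q := by
      rw [Nat.card_eq_fintype_card, h.card] at hcard
      exact (Nat.pow_left_injective two_ne_zero hcard).symm
    have hσ0 : ∀ x ∈ F₀, σ x = x := fun x hx => by
      have := congrArg Subtype.val (FiniteField.pow_card (⟨x, hx⟩ : F₀))
      rw [hF0, SubmonoidClass.coe_pow] at this
      rw [h.apply_eq]
      exact this
    obtain ⟨B, hB, hnd, hfix, hsym⟩ := exists_invariant_form c hPH hPa hσ0 hT'
    exact geometric_similitude c hHa hB hnd
      (hPa.le_similarityGroup (IsSesq.of_bilinear hB) hnd hfix hPn) hsym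
  · obtain ⟨Q, hQle, hQform, -⟩ := h.exists_formRational_of (fun h2 => absurd h2 hr2) (by simp) hPa
      (c.fixes hPH) hPn hr hcard hT'
    exact Or.inr <| Or.inr <| Or.inr <| Or.inr <| Or.inr <| Or.inl
      ⟨F₀, r, Q, hr, hr.odd_of_ne_two hr2, hcard, hQform,
        c.eq_inf hQle (h.specialUnitary_not_le_subfieldSubgroup c.basis (by simp) hr hcard Q)⟩

end Cfsg.Agent.AschbacherFour
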